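import Cfsg.Agent.Lib.NDF.Defs
import Cfsg.Agent.Lib.NoDiv.Main
import Cfsg.Agent.Lib.OddChar.Inertia
import Cfsg.Agent.Lib.CharDeep.GallagherExt

/-!
# S4780, (A9): degrees for a normal Hall subgroup with abelian quotient
-/

set_option autoImplicit false
set_option linter.unusedSectionVars false
set_option linter.style.haveILetI false

namespace Cfsg.Agent.Lib.NDF.DegOver

open Cfsg Module
open Cfsg.Agent.Lib.Char.Basic Cfsg.Agent.Lib.Char.Conj Cfsg.Agent.Lib.Char.CliffordCorr
open Cfsg.Agent.Lib.Char.Linear Cfsg.Agent.Lib.Char.Degree Cfsg.Agent.Lib.Char.Ortho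
open Cfsg.Agent.Lib.Char.Induced Cfsg.Agent.Lib.Char.Complete

universe u

/-- (A9) Degrees for a normal Hall subgroup with abelian quotient. -/
theorem deg_over {G : Type u} [Group G] [Fintype G] {N : Subgroup G} [Fintype N] (hN : N.Normal)
    (hab : ∀ a b : G, a * b * a⁻¹ * b⁻¹ ∈ N) (hcop : Nat.Coprime (Nat.card N) N.index)
    {θ : N → ℂ} (hθ : IsIrrCharacter N θ) {χ : G → ℂ} (hχ : IsIrrCharacter G χ)
    (hcon : classInner (fun n : N => χ n) θ ≠ 0) :
    charDegree χ = (inertia hN θ).index * charDegree θ := by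
  classical
  haveI := hN
  set T := inertia hN θ with hT
  letI : Fintype T := Fintype.ofFinite _
  have hNT : N ≤ T := le_inertia hN (isClassFunction_of_isIrrCharacter hθ)
  let N' : Subgroup T := N.subgroupOf T
  haveI hN' : N'.Normal := hN.subgroupOf T
  letI : Fintype N' := Fintype.ofFinite _
  let eqv : N' ≃* N := Subgroup.subgroupOfEquivOfLe hNT
  have hθ' : IsIrrCharacter N' (θ ∘ eqv) := isIrrCharacter_comp_mulEquiv eqv hθ
  have hinv : ∀ c : T, conjOn hN' c (θ ∘ eqv) = θ ∘ eqv := by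
    intro c
    have h1 : conjOn hN (c : G) θ = θ := c.2
    funext n
    have h2 := congrFun h1 (eqv n)
    exact h2
  have hcop' : (Nat.card N').Coprime N'.index := by
    have h1 : Nat.card N' = Nat.card N := Nat.card_congr eqv.toEquiv
    have h2 : N'.index ∣ N.index := Subgroup.relIndex_dvd_index_of_normal N T
    rw [h1]
    exact Nat.Coprime.coprime_dvd_right h2 hcop
  obtain ⟨ψ₀, hψ₀, hψe⟩ := Cfsg.Agent.Lib.OddChar.Inertia.exists_ext_of_coprime hN' hθ' hinv hcop'
  obtain ⟨ψ, hψ, hind, hres⟩ := exists_irr_inertia_of_lies_over hN hNT hθ hT.symm.symm hχ hcon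
  have hψres : (fun n : N' => ψ₀ n) = θ ∘ eqv := funext hψe
  have hne : classInner (fun n : N' => ψ n) (fun n : N' => ψ₀ n) ≠ 0 := by
    rw [hψres]
    have h1 : classInner (fun n : N' => ψ n) (θ ∘ eqv) = classInner (res hNT ψ) θ := by
      exact classInner_comp_mulEquiv eqv (res hNT ψ) θ
    rw [h1, hres]
    exact hcon
  have hres0 : IsIrrCharacter N' (fun n : N' => ψ₀ n) := by
    rw [hψres]
    exact hθ'
  obtain ⟨φ, hφ, hψφ⟩ := Cfsg.Agent.Lib.CharDeep.GallagherExt.exists_eq_mul_of_classInner_ne_zero N'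
    (isCharacter_of_isIrrCharacter hψ₀) hres0 hψ hne
  have hcomm : ∀ a b : T ⧸ N', a * b = b * a := by
    intro a b
    induction a using QuotientGroup.induction_on with
    | H a =>
    induction b using QuotientGroup.induction_on with
    | H b =>
    rw [← QuotientGroup.mk_mul, ← QuotientGroup.mk_mul, QuotientGroup.eq]
    have h2 : (a * b)⁻¹ * (b * a) = b⁻¹ * a⁻¹ * b⁻¹⁻¹ * a⁻¹⁻¹ := by group
    rw [h2]
    exact hab _ _
  have hφ1 : φ 1 = 1 := isIrr_deg_one_of_comm hcomm hφ
  have h1 : ψ 1 = ψ₀ 1 := by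
    rw [hψφ]
    simp [hφ1]
  have h2 : ψ₀ 1 = θ 1 := by
    have := hψe 1
    simpa using this
  have h3 : χ 1 = ((T.index * charDegree θ : ℕ) : ℂ) := by
    rw [← hind, indFun_one, h1, h2]
    push_cast
    rw [charDegree_natCast (isCharacter_of_isIrrCharacter hθ)]
  exact charDegree_eq_of_eq_natCast h3

end Cfsg.Agent.Lib.NDF.DegOver
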