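import Cfsg.Agent.Lib.NDF.IDefs
import Cfsg.Agent.Lib.NDF.CpOver
import Cfsg.Agent.Lib.NDF.DegOver
import Cfsg.Agent.Lib.Char.RelDiam

/-!
# S4780 (ID): degrees over `F = E C₁` when `E` is central in `W`

`cp_over` in `P` (`W ∩ F = E` by `WCE`, `|P : F| = |W : E| > 1`) and `deg_over` (A9) for `N = P`;
`g` fixes `ξ` iff `g` fixes `η`.
-/

set_option autoImplicit false
set_option linter.unusedSectionVars false
set_option linter.style.longLine false
set_option linter.style.multiGoal false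
set_option linter.unusedVariables false

namespace Cfsg.Agent.Lib.NDF.DegOverEta

open Cfsg Cfsg.Agent.Lib.NoDiv.Defs Cfsg.Agent.Lib.NDF.Defs Cfsg.Agent.Lib.NDF.IDefs
open Cfsg.Agent.Lib.Char.Basic Cfsg.Agent.Lib.Char.Conj Cfsg.Agent.Lib.Char.CliffordCorr
open Cfsg.Agent.Lib.Char.Linear Cfsg.Agent.Lib.Char.Degree Cfsg.Agent.Lib.Char.Ortho
open Cfsg.Agent.Lib.Char.Induced Cfsg.Agent.Lib.Char.Complete

universe u

variable {G : Type u} [Group G] {H Y P Q C₁ : Subgroup G} {p : ℕ}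

/-- (ID) Degrees over `F = E C₁` when `E` is central in `W`.  `cp_over` in `P` (`W ∩ F = E` by `WCE`,
`|P : F| = |W : E| > 1`) and `deg_over` (A9) for `N = P`; `g` fixes `ξ` iff `g` fixes `η`. -/
theorem deg_over_eta [Fintype G] (s : St H Y) (hp : p.Prime) (I : I1D H p P Q C₁)
    (hEW : ∀ e ∈ (⁅H, H⁆ : Subgroup G), ∀ d ∈ commutator G, e * d = d * e)
    {F : Subgroup G} [Fintype F] (hFn : F.Normal) (hF : F = ⁅H, H⁆ ⊔ C₁) :
    ∃ s₀ : ℕ, 1 < s₀ ∧ (∃ k, s₀ = p ^ k) ∧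
      ∀ η : F → ℂ, IsIrrCharacter F η → (∃ e : F, (e : G) ∈ (⁅H, H⁆ : Subgroup G) ∧ η e ≠ η 1) →
        ∀ χ : G → ℂ, IsIrrCharacter G χ → classInner (fun f : F => χ f) η ≠ 0 →
          charDegree χ = (inertia hFn η).index * (s₀ * charDegree η) := by
  classical
  haveI : Fact p.Prime := ⟨hp⟩
  letI : Fintype P := Fintype.ofFinite P
  haveI hEn : (⁅H, H⁆ : Subgroup G).Normal := by
    haveI := s.nH
    exact Subgroup.commutator_normal H H
  have hEG : (⁅H, H⁆ : Subgroup G) ≤ commutator G := by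
    rw [← s.E2]
    haveI : (commutator G).Normal := inferInstance
    exact Subgroup.commutator_le_left _ _
  have hC₁P : C₁ ≤ P := fun z hz => ((I.mC z).mp hz).1
  have hEF : (⁅H, H⁆ : Subgroup G) ≤ F := by rw [hF]; exact le_sup_left
  have hCF : C₁ ≤ F := by rw [hF]; exact le_sup_right
  have hFP : F ≤ P := by
    rw [hF]
    exact sup_le (hEG.trans I.WP) hC₁P
  have hFdec : ∀ f ∈ F, ∃ e ∈ (⁅H, H⁆ : Subgroup G), ∃ z ∈ C₁, f = e * z := by
    intro f hf
    rw [hF, Subgroup.mem_sup_of_normal_left] at hf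
    obtain ⟨e, he, z, hz, rfl⟩ := hf
    exact ⟨e, he, z, hz, rfl⟩
  have hWF0 : ∀ d ∈ commutator G, ∀ f ∈ F, d * f = f * d := by
    intro d hd f hf
    obtain ⟨e, he, z, hz, rfl⟩ := hFdec f hf
    have h1 := hEW e he d hd
    have h2 := I.WC d hd z hz
    calc d * (e * z) = (d * e) * z := by group
      _ = (e * d) * z := by rw [h1]
      _ = e * (d * z) := by group
      _ = e * (z * d) := by rw [h2]
      _ = e * z * d := by group
  have hWFE : ∀ d ∈ commutator G, d ∈ F → d ∈ (⁅H, H⁆ : Subgroup G) := by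
    intro d hd hdF
    obtain ⟨e, he, z, hz, rfl⟩ := hFdec d hdF
    have hz2 : z ∈ commutator G := by
      have : z = e⁻¹ * (e * z) := by group
      rw [this]
      exact Subgroup.mul_mem _ (Subgroup.inv_mem _ (hEG he)) hd
    exact Subgroup.mul_mem _ he (I.WCE ⟨hz2, hz⟩)
  -- the subgroup of `P`
  set F' : Subgroup ↥P := F.subgroupOf P with hF'
  set W' : Subgroup ↥P := (commutator G).subgroupOf P with hW'
  letI : Fintype F' := Fintype.ofFinite F'
  have hF'n : F'.Normal := by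
    haveI := hFn
    exact Subgroup.normal_subgroupOf
  let eqv : F' ≃* F := Subgroup.subgroupOfEquivOfLe hFP
  have heqv : ∀ x : F', ((eqv x : F) : G) = ((x : ↥P) : G) := fun x => rfl
  have hWF : ∀ w ∈ W', ∀ f ∈ F', w * f = f * w := by
    intro w hw f hf
    apply Subtype.ext
    exact hWF0 _ (Subgroup.mem_subgroupOf.mp hw) _ (Subgroup.mem_subgroupOf.mp hf)
  have hX : ∀ u : ↥P, ∃ w ∈ W', ∃ f ∈ F', u = w * f := by
    intro u
    obtain ⟨d, hd, z, hz, hu⟩ := I.PWC u u.2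
    refine ⟨⟨d, I.WP hd⟩, Subgroup.mem_subgroupOf.mpr hd, ⟨z, hC₁P hz⟩,
      Subgroup.mem_subgroupOf.mpr (hCF hz), ?_⟩
    apply Subtype.ext
    exact hu
  have hcam : ∀ a ∈ W', a ∉ F' → ∀ e ∈ W', e ∈ F' → ∃ b ∈ W', b * a * b⁻¹ = a * e := by
    intro a ha haF e he heF
    have ha' : (a : G) ∈ commutator G := Subgroup.mem_subgroupOf.mp ha
    have he' : (e : G) ∈ (⁅H, H⁆ : Subgroup G) :=
      hWFE _ (Subgroup.mem_subgroupOf.mp he) (Subgroup.mem_subgroupOf.mp heF)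
    have ha2 : (a : G) ∉ (⁅H, H⁆ : Subgroup G) := fun h => haF (Subgroup.mem_subgroupOf.mpr (hEF h))
    obtain ⟨b, hb, hbe⟩ := I.camW _ ha' ha2 _ he'
    refine ⟨⟨b, I.WP hb⟩, Subgroup.mem_subgroupOf.mpr hb, ?_⟩
    apply Subtype.ext
    exact hbe
  -- the index
  obtain ⟨c, hc, hcY⟩ := s.ne
  obtain ⟨d, hd, hdc⟩ := s.GY c hc
  have hEY : (⁅H, H⁆ : Subgroup G) ≤ Y := by
    rw [← s.GE]
    exact inf_le_right
  have hdF : d ∉ F := by
    intro hdF
    have h1 := hEY (hWFE d hd hdF)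
    apply hcY
    have : c = d * (d⁻¹ * c) := by group
    rw [this]
    exact Subgroup.mul_mem _ h1 hdc
  have hidx : F'.index ≠ 1 := by
    intro h
    rw [Subgroup.index_eq_one] at h
    apply hdF
    have : (⟨d, I.WP hd⟩ : ↥P) ∈ F' := by
      rw [h]
      exact Subgroup.mem_top _
    exact Subgroup.mem_subgroupOf.mp this
  -- the key step
  have key : ∀ η : F → ℂ, IsIrrCharacter F η → (∃ e : F, (e : G) ∈ (⁅H, H⁆ : Subgroup G) ∧ η e ≠ η 1) →
      ∃ s₁ : ℕ, s₁ ^ 2 = F'.index ∧ ∃ ξ : ↥P → ℂ, IsIrrCharacter ↥P ξ ∧ (∀ f : F, ξ ⟨f, hFP f.2⟩ = s₁ * η f) ∧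
        ∀ ξ' : ↥P → ℂ, IsIrrCharacter ↥P ξ' → classInner (fun f : F' => ξ' f) (η ∘ eqv) ≠ 0 → ξ' = ξ := by
    intro η hη ⟨e, heE, he⟩
    have hη' : IsIrrCharacter F' (η ∘ eqv) := isIrrCharacter_comp_mulEquiv eqv hη
    have hμ : ∃ e' : F', ((e' : ↥P)) ∈ W' ∧ (η ∘ eqv) e' ≠ (η ∘ eqv) 1 := by
      refine ⟨⟨⟨e, hFP e.2⟩, Subgroup.mem_subgroupOf.mpr e.2⟩, Subgroup.mem_subgroupOf.mpr (hEG heE), ?_⟩
      have h1 : eqv 1 = 1 := map_one eqv
      simp only [Function.comp, h1]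
      exact he
    obtain ⟨s₁, hs₁, ξ, hξ, hξF, -, hξu⟩ := CpOver.cp_over hF'n hWF hX hcam hη' hμ
    refine ⟨s₁, hs₁, ξ, hξ, ?_, hξu⟩
    intro f
    exact hξF ⟨⟨f, hFP f.2⟩, Subgroup.mem_subgroupOf.mpr f.2⟩
  by_cases hex : ∃ η₀ : F → ℂ, IsIrrCharacter F η₀ ∧ ∃ e : F, (e : G) ∈ (⁅H, H⁆ : Subgroup G) ∧ η₀ e ≠ η₀ 1
  swap
  · refine ⟨p, hp.one_lt, ⟨1, (pow_one p).symm⟩, ?_⟩
    intro η hη he
    exact absurd ⟨η, hη, he⟩ hex
  obtain ⟨η₀, hη₀, he₀⟩ := hex
  obtain ⟨s₀, hs₀, -⟩ := key η₀ hη₀ he₀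
  have hs₀1 : 1 < s₀ := by
    have h0 : s₀ ≠ 0 := by
      rintro rfl
      have : F'.index = 0 := by rw [← hs₀]; simp
      exact absurd this (Subgroup.index_ne_zero_of_finite)
    have h1 : s₀ ≠ 1 := by
      rintro rfl
      exact hidx (by rw [← hs₀]; simp)
    omega
  have hs₀p : ∃ k, s₀ = p ^ k := by
    obtain ⟨n, hn⟩ := IsPGroup.iff_card.mp I.Pp
    have h1 : F'.index ∣ p ^ n := by
      rw [← hn]
      exact Subgroup.index_dvd_card F'
    have h2 : s₀ ∣ p ^ n := by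
      refine dvd_trans ?_ h1
      rw [← hs₀]
      exact dvd_pow_self _ two_ne_zero
    obtain ⟨k, -, hk⟩ := (Nat.dvd_prime_pow hp).mp h2
    exact ⟨k, hk⟩
  refine ⟨s₀, hs₀1, hs₀p, ?_⟩
  intro η hη he χ hχ hov
  obtain ⟨s₁, hs₁, ξ, hξ, hξF, hξu⟩ := key η hη he
  have hss : s₁ = s₀ := by
    have h1 : s₁ ^ 2 = s₀ ^ 2 := by rw [hs₁, hs₀]
    exact Nat.pow_left_injective (n := 2) (by norm_num) h1
  subst hss
  have hs₁c : ((s₁ : ℕ) : ℂ) ≠ 0 := by
    have : s₁ ≠ 0 := by omega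
    exact_mod_cast this
  -- the constituent on `P`
  obtain ⟨ν, hν, hovν, hνη⟩ := Cfsg.Agent.Lib.Char.RelDiam.exists_mid hFP hχ hov
  have hνξ : ν = ξ := by
    apply hξu ν hν
    have h1 := classInner_comp_mulEquiv eqv (Cfsg.Agent.Lib.Char.RelDiam.res hFP ν) η
    have h2 : (Cfsg.Agent.Lib.Char.RelDiam.res hFP ν) ∘ eqv = fun f : F' => ν f := by
      funext f
      rfl
    rw [h2] at h1
    rw [h1]
    exact hνη
  subst hνξ
  have hcop : Nat.Coprime (Nat.card P) P.index := by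
    have hcomp : Subgroup.IsComplement' P Q := by
      refine Subgroup.isComplement'_of_disjoint_and_mul_eq_univ ?_ ?_
      · rw [Subgroup.disjoint_def]
        intro x hx1 hx2
        have : x ∈ P ⊓ Q := ⟨hx1, hx2⟩
        rw [I.PQ] at this
        exact this
      · ext g
        simp only [Set.mem_univ, iff_true]
        obtain ⟨u, hu, q, hq, rfl⟩ := I.dec g
        exact Set.mul_mem_mul hu hq
    rw [hcomp.symm.index_eq_card]
    obtain ⟨n, hn⟩ := IsPGroup.iff_card.mp I.Pp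
    rw [hn]
    exact Nat.Coprime.pow_left n ((Nat.Prime.coprime_iff_not_dvd hp).mpr I.Qp)
  have hab : ∀ a b : G, a * b * a⁻¹ * b⁻¹ ∈ P := fun a b =>
    I.WP (Subgroup.commutator_mem_commutator (Subgroup.mem_top a) (Subgroup.mem_top b))
  have hdeg := DegOver.deg_over I.nP hab hcop hν hχ hovν
  -- degrees
  have hdν : charDegree ν = s₁ * charDegree η := by
    have h1 := hξF 1
    have h2 : (⟨((1 : F) : G), hFP (1 : F).2⟩ : ↥P) = 1 := rfl
    rw [h2] at h1
    have h3 : ((charDegree ν : ℕ) : ℂ) = ((s₁ * charDegree η : ℕ) : ℂ) := by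
      rw [charDegree_natCast (isCharacter_of_isIrrCharacter hν), h1]
      push_cast
      rw [charDegree_natCast (isCharacter_of_isIrrCharacter hη)]
    exact_mod_cast h3
  -- inertia groups agree
  have hin : inertia I.nP ν = inertia hFn η := by
    ext g
    rw [mem_inertia, mem_inertia]
    constructor
    · intro hg
      funext f
      have h1 := hξF ⟨g * f * g⁻¹, hFn.conj_mem f f.2 g⟩
      have h2 := congrFun hg ⟨f, hFP f.2⟩
      have h3 := hξF f
      rw [conjOn_apply] at h2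
      simp only [conjOn_apply]
      have h4 : s₁ * η ⟨g * f * g⁻¹, hFn.conj_mem f f.2 g⟩ = s₁ * η f := by
        rw [← h1, ← h3]
        exact h2
      exact mul_left_cancel₀ hs₁c h4
    · intro hg
      apply hξu _ (isIrrCharacter_conjOn I.nP g hν)
      have hη' : IsIrrCharacter F' (η ∘ eqv) := isIrrCharacter_comp_mulEquiv eqv hη
      have h1 : (fun f : F' => conjOn I.nP g ν f) = s₁ • (η ∘ eqv) := by
        funext f
        rw [conjOn_apply]
        have h2 := hξF ⟨g * (f : G) * g⁻¹, hFn.conj_mem _ (Subgroup.mem_subgroupOf.mp f.2) g⟩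
        have h3 := congrFun hg (eqv f)
        rw [conjOn_apply] at h3
        simp only [Pi.smul_apply, Function.comp, nsmul_eq_mul]
        rw [← h3]
        exact h2
      rw [h1, classInner_nsmul_left, classInner_irr hη' hη', if_pos rfl]
      simpa using hs₁c
  rw [hdeg, hin, hdν]

end Cfsg.Agent.Lib.NDF.DegOverEta
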