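import Cfsg.Agent.Lib.NDF.StChar
import Cfsg.Agent.Lib.NoDiv.Deep1
import Cfsg.Agent.Lib.Blk89.Linear

/-!
# S4780, block T: `St.quot` and `St.noE`
-/

set_option autoImplicit false
set_option linter.unusedSectionVars false
set_option linter.style.haveILetI false

namespace Cfsg.Agent.Lib.NDF.StQuot

open Cfsg Module Cfsg.Agent.Lib.NoDiv.Defs Cfsg.Agent.Lib.NDF.Defs
open Cfsg.Agent.Lib.Char.Basic Cfsg.Agent.Lib.Char.Conj Cfsg.Agent.Lib.Char.CliffordCorr
open Cfsg.Agent.Lib.Char.Linear Cfsg.Agent.Lib.Char.Degree Cfsg.Agent.Lib.Char.Ortho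
open Cfsg.Agent.Lib.Char.Induced Cfsg.Agent.Lib.Char.Complete
open Cfsg.Agent.Lib.NoDiv.XLemma Cfsg.Agent.Lib.NoDiv.Camina Cfsg.Agent.Lib.NoDiv.Mid
open Cfsg.Agent.Lib.NoDiv.Deep1 Cfsg.Agent.Lib.Char.Clifford

universe u

variable {G : Type u} [Group G] {H Y : Subgroup G}

/-- (T8) -/
theorem St.quot [Finite G] (s : St H Y) {K : Subgroup G} [hK : K.Normal] (hKE : K ≤ ⁅H, H⁆) :
    St (H.map (QuotientGroup.mk' K)) (Y.map (QuotientGroup.mk' K)) := by
  classical
  have hπ : Function.Surjective (QuotientGroup.mk' K) := QuotientGroup.mk'_surjective K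
  have hEH : (⁅H, H⁆ : Subgroup G) ≤ H := by
    have := s.nH
    exact Subgroup.commutator_le_self H
  have hEY : (⁅H, H⁆ : Subgroup G) ≤ Y := by
    rw [Subgroup.commutator_le]
    intro a ha b hb
    exact s.HY a ha b hb
  have hKH : K ≤ H := hKE.trans hEH
  have hKY : K ≤ Y := hKE.trans hEY
  have hEG : (⁅H, H⁆ : Subgroup G) ≤ commutator G := by
    rw [commutator_def]
    exact Subgroup.commutator_mono le_top le_top
  have hKG : K ≤ commutator G := hKE.trans hEG
  have mH : ∀ c, QuotientGroup.mk' K c ∈ H.map (QuotientGroup.mk' K) ↔ c ∈ H := mk_mem_map hKH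
  have mY : ∀ c, QuotientGroup.mk' K c ∈ Y.map (QuotientGroup.mk' K) ↔ c ∈ Y := mk_mem_map hKY
  have mG : ∀ c, QuotientGroup.mk' K c ∈ (commutator G).map (QuotientGroup.mk' K) ↔ c ∈ commutator G :=
    mk_mem_map hKG
  have mE : ∀ c, QuotientGroup.mk' K c ∈ (⁅H, H⁆ : Subgroup G).map (QuotientGroup.mk' K) ↔
      c ∈ (⁅H, H⁆ : Subgroup G) := mk_mem_map hKE
  have hcE : (⁅H.map (QuotientGroup.mk' K), H.map (QuotientGroup.mk' K)⁆ : Subgroup (G ⧸ K)) =
      (⁅H, H⁆ : Subgroup G).map (QuotientGroup.mk' K) := (Subgroup.map_commutator _ _ _).symm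
  have hcG : commutator (G ⧸ K) = (commutator G).map (QuotientGroup.mk' K) :=
    (map_commutator_mk).symm
  have lift : ∀ x : G ⧸ K, ∃ c, QuotientGroup.mk' K c = x := hπ
  refine
    { nH := s.nH.map _ hπ
      nY := s.nY.map _ hπ
      YH := Subgroup.map_mono s.YH
      ne := ?_
      out := ?_
      ab := ?_
      HY := ?_
      fpf := ?_
      Yz := ?_
      GY := ?_
      GE := ?_
      E2 := ?_
      cop := ?_
      nd := noDiv_of_surj _ hπ s.nd }
  · obtain ⟨c, hc, hcY⟩ := s.ne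
    exact ⟨QuotientGroup.mk' K c, (mH c).2 hc, fun h => hcY ((mY c).1 h)⟩
  · obtain ⟨g, hg⟩ := s.out
    exact ⟨QuotientGroup.mk' K g, fun h => hg ((mH g).1 h)⟩
  · intro a b
    obtain ⟨a, rfl⟩ := lift a
    obtain ⟨b, rfl⟩ := lift b
    have := (mH _).2 (s.ab a b)
    simpa only [map_mul, map_inv] using this
  · intro a ha b hb
    obtain ⟨a, rfl⟩ := lift a
    obtain ⟨b, rfl⟩ := lift b
    have := (mY _).2 (s.HY a ((mH a).1 ha) b ((mH b).1 hb))
    simpa only [map_mul, map_inv] using this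
  · intro h hh c hc hcm
    obtain ⟨h, rfl⟩ := lift h
    obtain ⟨c, rfl⟩ := lift c
    have h1 : h * c * h⁻¹ * c⁻¹ ∈ Y := by
      rw [← mY]
      simpa only [map_mul, map_inv] using hcm
    exact (mY c).2 (s.fpf h (fun h' => hh ((mH h).2 h')) c ((mH c).1 hc) h1)
  · intro y hy g
    obtain ⟨y, rfl⟩ := lift y
    obtain ⟨g, rfl⟩ := lift g
    rw [hcE]
    have := (mE _).2 (s.Yz y ((mY y).1 hy) g)
    simpa only [map_mul, map_inv] using this
  · intro c hc
    obtain ⟨c, rfl⟩ := lift c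
    obtain ⟨d, hd, hdc⟩ := s.GY c ((mH c).1 hc)
    refine ⟨QuotientGroup.mk' K d, ?_, ?_⟩
    · rw [hcG]
      exact (mG d).2 hd
    · have := (mY _).2 hdc
      simpa only [map_mul, map_inv] using this
  · rw [hcE, hcG]
    ext x
    obtain ⟨x, rfl⟩ := lift x
    rw [Subgroup.mem_inf, mG, mY, mE, ← s.GE, Subgroup.mem_inf]
  · rw [hcE, hcG, ← Subgroup.map_commutator, s.E2]
  · have h1 : (H.map (QuotientGroup.mk' K)).index = H.index := by
      apply Subgroup.index_map_eq _ hπ
      rw [QuotientGroup.ker_mk']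
      exact hKH
    have h2 : (Y.map (QuotientGroup.mk' K)).index = Y.index := by
      apply Subgroup.index_map_eq _ hπ
      rw [QuotientGroup.ker_mk']
      exact hKY
    have h3 : Y.relIndex H * H.index = Y.index := Subgroup.relIndex_mul_index s.YH
    have h4 : (Y.map (QuotientGroup.mk' K)).relIndex (H.map (QuotientGroup.mk' K)) *
        (H.map (QuotientGroup.mk' K)).index = (Y.map (QuotientGroup.mk' K)).index :=
      Subgroup.relIndex_mul_index (Subgroup.map_mono s.YH)
    have h0 : H.index ≠ 0 := Subgroup.index_ne_zero_of_finite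
    have h5 : (Y.map (QuotientGroup.mk' K)).relIndex (H.map (QuotientGroup.mk' K)) = Y.relIndex H := by
      rw [h1, h2, ← h3] at h4
      exact Nat.eq_of_mul_eq_mul_right (Nat.pos_of_ne_zero h0) h4
    rw [h1, h5]
    exact s.cop

/-- (T9) -/
theorem St.noE [Finite G] (s : St H Y) (hE : (⁅H, H⁆ : Subgroup G) = ⊥) :
    ∀ d ∈ charDegrees G, d = 1 ∨ d = H.index := by
  classical
  letI : Fintype G := Fintype.ofFinite _
  letI : Fintype H := Fintype.ofFinite _
  rintro d ⟨χ, rfl⟩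
  have hHab : ∀ a b : H, a * b = b * a := by
    intro a b
    have h1 : (a : G) * b * (a : G)⁻¹ * (b : G)⁻¹ ∈ (⁅H, H⁆ : Subgroup G) :=
      Subgroup.commutator_mem_commutator a.2 b.2
    rw [hE, Subgroup.mem_bot] at h1
    apply Subtype.ext
    have h2 : (a : G) * b = b * a := by
      calc (a : G) * b = ((a : G) * b * (a : G)⁻¹ * (b : G)⁻¹) * (b * a) := by group
        _ = b * a := by rw [h1, one_mul]
    simpa using h2
  have hχc := isCharacter_of_isIrrCharacter χ.2
  have hrne : (fun n : H => (χ : G → ℂ) n) ≠ 0 := by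
    intro h0
    have := congrFun h0 1
    apply irr_one_ne_zero χ.2
    simpa using this
  have hcf : IsClassFunction H (fun n : H => (χ : G → ℂ) n) :=
    isClassFunction_of_isCharacter (isCharacter_restrict H hχc)
  obtain ⟨ξ, hξ, hcon⟩ := Cfsg.Agent.Lib.Char.Clifford.exists_irr_constituent hcf hrne
  have hξ1 : ξ 1 = 1 := isIrr_deg_one_of_comm hHab hξ
  obtain ⟨e, he0, hdeg, hdvd⟩ := deg_data s.nH hξ χ.2 hcon
  have hξd : charDegree ξ = 1 := (charDegree_eq_one_iff (isCharacter_of_isIrrCharacter hξ)).mpr hξ1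
  rw [hξd, mul_one] at hdeg
  obtain ⟨lam, hlam⟩ := exists_hom_of_deg_one (isCharacter_of_isIrrCharacter hξ) hξ1
  by_cases hin : ∀ g, conjOn s.nH g ξ = ξ → g ∈ H
  · -- inertia group `H`
    right
    have hI : inertia s.nH ξ = H := by
      apply le_antisymm
      · intro g hg
        exact hin g hg
      · exact le_inertia s.nH (isClassFunction_of_isIrrCharacter hξ)
    rw [hI] at hdeg hdvd
    have h0 : H.index ≠ 0 := Subgroup.index_ne_zero_of_finite
    have he1 : e = 1 := by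
      have h1 : e * H.index ≤ H.index := Nat.le_of_dvd (Nat.pos_of_ne_zero h0) hdvd
      have h2 : e ≤ 1 := by
        by_contra hcon
        push Not at hcon
        nlinarith [Nat.pos_of_ne_zero h0]
      omega
    rw [hdeg, he1, one_mul]
  · -- a fixed point outside `H`: the linear character is trivial on `G'`
    left
    push Not at hin
    obtain ⟨g, hgfix, hgH⟩ := hin
    have hGH : commutator G ≤ H := by
      rw [commutator_def, Subgroup.commutator_le]
      intro a _ b _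
      exact s.ab a b
    have hYbot : commutator G ⊓ Y = ⊥ := by rw [s.GE, hE]
    -- every element of `G'` is a commutator `[g, x]`
    have hcm : ∀ d ∈ commutator G, ∃ x ∈ H, d = g * x * g⁻¹ * x⁻¹ := by
      intro d hd
      have hA : ∀ a ∈ H, g * a * g⁻¹ ∈ H := fun a ha => s.nH.conj_mem a ha g
      obtain ⟨x, hx, hxm⟩ := exists_comm_mod s.YH s.nY g hA (s.fpf g hgH) d (hGH hd)
      refine ⟨x, hx, ?_⟩
      have h1 : g * x * g⁻¹ * x⁻¹ ∈ commutator G :=
        Subgroup.commutator_mem_commutator (Subgroup.mem_top _) (Subgroup.mem_top _)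
      have h2 : d⁻¹ * (g * x * g⁻¹ * x⁻¹) ∈ commutator G ⊓ Y :=
        ⟨(commutator G).mul_mem ((commutator G).inv_mem hd) h1, hxm⟩
      rw [hYbot, Subgroup.mem_bot] at h2
      exact (inv_mul_eq_one.mp h2)
    -- so `lam` is trivial on `G'`
    have hlam1 : ∀ d (hd : d ∈ commutator G), lam ⟨d, hGH hd⟩ = 1 := by
      intro d hd
      obtain ⟨x, hx, hdx⟩ := hcm d hd
      have h1 := congrFun hgfix ⟨x, hx⟩
      rw [conjOn_apply, hlam] at h1
      beta_reduce at h1
      have h2 : lam (⟨g * x * g⁻¹, s.nH.conj_mem x hx g⟩ : H) = lam ⟨x, hx⟩ := Units.ext h1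
      subst hdx
      have h3 : (⟨g * x * g⁻¹ * x⁻¹, hGH hd⟩ : H) =
          (⟨g * x * g⁻¹, s.nH.conj_mem x hx g⟩ : H) * (⟨x, hx⟩ : H)⁻¹ := rfl
      rw [h3, map_mul, map_inv, h2, mul_inv_cancel]
    -- `χ` is constant on `G'`
    have hres := clifford_restrict s.nH χ.2 hξ hcon
    have hψ : ∀ ψ ∈ orbitFinset s.nH ξ, ∀ d (hd : d ∈ commutator G), ψ ⟨d, hGH hd⟩ = 1 := by
      intro ψ hψ d hd
      obtain ⟨a, rfl⟩ := (mem_orbitFinset s.nH ξ ψ).mp hψ
      rw [conjOn_apply, hlam]
      have hda : a * d * a⁻¹ ∈ commutator G := (inferInstance : (commutator G).Normal).conj_mem d hd a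
      have := hlam1 _ hda
      simp only [this, Units.val_one]
    have hψ1 : ∀ ψ ∈ orbitFinset s.nH ξ, ψ 1 = 1 := by
      intro ψ hψ
      obtain ⟨a, rfl⟩ := (mem_orbitFinset s.nH ξ ψ).mp hψ
      rw [conjOn_apply_one, hξ1]
    have hconst : ∀ x ∈ commutator G, (χ : G → ℂ) x = (χ : G → ℂ) 1 := by
      intro x hx
      have h1 := congrFun hres ⟨x, hGH hx⟩
      have h2 := congrFun hres 1
      simp only [Pi.smul_apply, Finset.sum_apply, smul_eq_mul, Subgroup.coe_one] at h1 h2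
      rw [h1, h2]
      congr 1
      exact Finset.sum_congr rfl (fun ψ hψ' => by rw [hψ ψ hψ' x hx, hψ1 ψ hψ'])
    have hdone := Cfsg.Agent.Lib.Blk89.Linear.deg_one_of_commutator_le χ.2 hconst
    exact (charDegree_eq_one_iff hχc).mpr hdone

end Cfsg.Agent.Lib.NDF.StQuot
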