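import Cfsg.Agent.Lib.NDF.CentralCore
import Cfsg.Agent.Lib.NDF.DegOverEta
import Cfsg.Agent.Lib.NDF.StQuot

/-!
# S4780, (IG): `E` central in `G`.
-/

set_option autoImplicit false
set_option linter.unusedSectionVars false

namespace Cfsg.Agent.Lib.NDF.CentralCase

open Cfsg Cfsg.Agent.Lib.NoDiv.Defs Cfsg.Agent.Lib.NDF.Defs Cfsg.Agent.Lib.NDF.IDefs

universe u

variable {G : Type u} [Group G] {H Y P Q C₁ : Subgroup G} {p : ℕ}

/-- `χ(1) ∈ {1, m}` for `χ ∈ Irr(G / E)`. -/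
theorem quot_deg [Finite G] [(⁅H, H⁆ : Subgroup G).Normal] (s : St H Y) :
    ∀ d ∈ charDegrees (G ⧸ (⁅H, H⁆ : Subgroup G)), d = 1 ∨ d = H.index := by
  intro d hd
  haveI := s.nH
  let π := QuotientGroup.mk' (⁅H, H⁆ : Subgroup G)
  have hπs : Function.Surjective π := QuotientGroup.mk'_surjective _
  have hq : St (H.map π) (Y.map π) := StQuot.St.quot s le_rfl
  have hE : (⁅H.map π, H.map π⁆ : Subgroup (G ⧸ (⁅H, H⁆ : Subgroup G))) = ⊥ := by
    rw [← Subgroup.map_commutator, eq_bot_iff]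
    rintro _ ⟨e, he, rfl⟩
    exact (QuotientGroup.eq_one_iff e).mpr he
  rcases StQuot.St.noE hq hE d hd with h | h
  · exact Or.inl h
  · right
    rw [h, Subgroup.index_map, MonoidHom.range_eq_top.2 hπs, Subgroup.index_top, mul_one,
      QuotientGroup.ker_mk', sup_eq_left.2 (Subgroup.commutator_le_left H H)]

/-- (IG) with the output of the structure step as a hypothesis. -/
theorem central_of_I1 [Finite G] (s : St H Y) (hp : p.Prime) (I : I1D H p P Q C₁)
    (hc : ∀ g : G, ∀ e ∈ (⁅H, H⁆ : Subgroup G), g * e * g⁻¹ * e⁻¹ = 1) :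
    Nat.card (charDegrees G) ≤ 4 := by
  classical
  letI : Fintype G := Fintype.ofFinite G
  haveI := s.nH
  haveI hEn : (⁅H, H⁆ : Subgroup G).Normal := Subgroup.commutator_normal H H
  haveI := I.nC
  have hFn : ((⁅H, H⁆ : Subgroup G) ⊔ C₁).Normal := Subgroup.sup_normal _ _
  letI : Fintype ↥((⁅H, H⁆ : Subgroup G) ⊔ C₁) := Fintype.ofFinite _
  refine CentralCore.central_core s hp I hc (quot_deg s) hFn rfl
    (DegOverEta.deg_over_eta s hp I ?_ hFn rfl)
  intro e he d _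
  have h1 := hc d e he
  exact (mul_inv_eq_iff_eq_mul.mp (mul_inv_eq_one.mp h1)).symm

end Cfsg.Agent.Lib.NDF.CentralCase
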