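import Cfsg.Agent.Lib.NDF.DegOverEta
import Cfsg.Agent.Lib.Palfy.Dual

/-!
# S4780 (IE): the type dichotomy

`E = ⁅H, H⁆` central in `W = G'`.  Either `G` is trivial on `E`, or `C_E(G) = 1`.

Suppose not. `μ₁ = ∏_q ν(q · q⁻¹)`: a `G`-invariant linear character of `E`, nontrivial at `c₀ ∈ C_E(G)`, `c₀ ≠ 1`.
There are `g₀, e₀` with `x₀ = [g₀, e₀] ∉ C₁` (otherwise `Q` is trivial on `E`), and `F / C₁` is abelian, so a linear `ε` of
`F = E C₁`, trivial on `C₁`, has `ε x₀ ≠ 1`.  `η₂ ∈ Irr(F)` over `μ₁ ε`, `η₁ = ε⁻¹ η₂`, which lies over `μ₁`, has the same degree and is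
`G`-invariant, while `g₀` moves `η₂`.  `deg_over_eta` contradicts `NoDiv`.
-/

set_option autoImplicit false
set_option linter.unusedSectionVars false
set_option linter.style.longLine false
set_option linter.style.multiGoal false
set_option linter.unusedVariables false
set_option linter.style.haveILetI false

namespace Cfsg.Agent.Lib.NDF.Dichotomy

open Cfsg Cfsg.Agent.Lib.NoDiv.Defs Cfsg.Agent.Lib.NDF.Defs Cfsg.Agent.Lib.NDF.IDefs
open Cfsg.Agent.Lib.Char.Basic Cfsg.Agent.Lib.Char.Conj Cfsg.Agent.Lib.Char.CliffordCorr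
open Cfsg.Agent.Lib.Char.Linear Cfsg.Agent.Lib.Char.Degree Cfsg.Agent.Lib.Char.Ortho
open Cfsg.Agent.Lib.Char.Induced Cfsg.Agent.Lib.Char.Complete Cfsg.Agent.Lib.Char.Clifford
open Cfsg.Agent.Lib.Char.RelGraph

universe u

/-- A character over a linear character of a central subgroup. -/
theorem val_of_over {X : Type u} [Group X] [Fintype X] {Z : Subgroup X} [Fintype Z] (hZn : Z.Normal)
    (hZ : ∀ z ∈ Z, ∀ x : X, x * z = z * x) (β : Z →* ℂˣ) {η : X → ℂ} (hη : IsIrrCharacter X η)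
    (hov : Over η (lc β)) (z : Z) : η z = η 1 * ((β z : ℂˣ) : ℂ) := by
  classical
  have hθ : IsIrrCharacter Z (lc β) := isIrrCharacter_of_hom β
  have hinv : ∀ g : X, conjOn hZn g (lc β) = lc β := by
    intro g
    funext n
    rw [conjOn_apply]
    have h1 : (⟨g * (n : X) * g⁻¹, hZn.conj_mem _ n.2 g⟩ : Z) = n := by
      apply Subtype.ext
      simp only
      rw [hZ n n.2 g]
      group
    rw [h1]
  have horb : orbitFinset hZn (lc β) = {lc β} := by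
    ext φ
    rw [mem_orbitFinset, Finset.mem_singleton]
    constructor
    · rintro ⟨g, rfl⟩
      exact (hinv g)
    · rintro rfl
      exact ⟨1, hinv 1⟩
  have hcl := clifford_restrict hZn hη hθ hov
  obtain ⟨e, he⟩ := exists_mult hη hθ
  rw [he, horb, Finset.sum_singleton] at hcl
  have h1 := congrFun hcl z
  have h2 := congrFun hcl 1
  simp only [Pi.smul_apply, smul_eq_mul, lc, map_one, Units.val_one, mul_one] at h1 h2
  have h3 : ((1 : Z) : X) = 1 := rfl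
  rw [h3] at h2
  rw [h1, h2]

variable {G : Type u} [Group G] {H Y P Q C₁ : Subgroup G} {p : ℕ}

theorem pow_step (q e x : G) (hxq : q * x = x * q) (h : q * e * q⁻¹ = x * e) (n : ℕ) :
    q ^ n * e = x ^ n * e * q ^ n := by
  induction n with
  | zero => simp
  | succ n ih =>
    have h1 : q * x ^ n = x ^ n * q := (Commute.pow_right (show Commute q x from hxq) n).eq
    have h2 : q * e = x * e * q := by
      calc q * e = q * e * q⁻¹ * q := by group
        _ = x * e * q := by rw [h]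
    calc q ^ (n + 1) * e = q * (q ^ n * e) := by rw [pow_succ']; group
      _ = q * (x ^ n * e * q ^ n) := by rw [ih]
      _ = (q * x ^ n) * e * q ^ n := by group
      _ = x ^ n * (q * e) * q ^ n := by rw [h1]; group
      _ = x ^ n * (x * e * q) * q ^ n := by rw [h2]
      _ = x ^ (n + 1) * e * q ^ (n + 1) := by
        rw [pow_succ, pow_succ']
        group

/-- (IE) The type dichotomy, given the structure `I1D`. -/
theorem dichotomy_of_I1 [Finite G] (s : St H Y) (hp : p.Prime) (I : I1D H p P Q C₁)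
    (hEp : IsPGroup p (⁅H, H⁆ : Subgroup G))
    (hEW : ∀ e ∈ (⁅H, H⁆ : Subgroup G), ∀ d ∈ commutator G, e * d = d * e) :
    (∀ g : G, ∀ e ∈ (⁅H, H⁆ : Subgroup G), g * e * g⁻¹ * e⁻¹ = 1) ∨
    (∀ e ∈ (⁅H, H⁆ : Subgroup G), (∀ g : G, g * e * g⁻¹ * e⁻¹ = 1) → e = 1) := by
  classical
  haveI : Fact p.Prime := ⟨hp⟩
  letI : Fintype G := Fintype.ofFinite G
  letI : Fintype Q := Fintype.ofFinite Q
  by_contra hcon
  push Not at hcon
  obtain ⟨⟨g₁, e₁, he₁, hne₁⟩, ⟨c₀, hc₀, hc₀G, hc₀1⟩⟩ := hcon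
  haveI hEn : (⁅H, H⁆ : Subgroup G).Normal := by
    haveI := s.nH
    exact Subgroup.commutator_normal H H
  haveI hC₁n : C₁.Normal := I.nC
  have hEG : (⁅H, H⁆ : Subgroup G) ≤ commutator G := by
    rw [← s.E2]
    haveI : (commutator G).Normal := inferInstance
    exact Subgroup.commutator_le_left _ _
  have hC₁P : C₁ ≤ P := fun z hz => ((I.mC z).mp hz).1
  have hEcomm : ∀ a ∈ (⁅H, H⁆ : Subgroup G), ∀ b ∈ (⁅H, H⁆ : Subgroup G), a * b = b * a :=
    fun a ha b hb => hEW a ha b (hEG hb)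
  have hEC : ∀ e ∈ (⁅H, H⁆ : Subgroup G), ∀ z ∈ C₁, e * z = z * e :=
    fun e he z hz => I.WC e (hEG he) z hz
  have hPE : ∀ u ∈ P, ∀ e ∈ (⁅H, H⁆ : Subgroup G), u * e = e * u := by
    intro u hu e he
    obtain ⟨d, hd, z, hz, rfl⟩ := I.PWC u hu
    have h1 := hEW e he d hd
    have h2 := hEC e he z hz
    calc d * z * e = d * (z * e) := by group
      _ = d * (e * z) := by rw [h2]
      _ = (d * e) * z := by group
      _ = (e * d) * z := by rw [h1]
      _ = e * (d * z) := by group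
  set F : Subgroup G := ⁅H, H⁆ ⊔ C₁ with hF
  haveI hFn : F.Normal := inferInstance
  letI : Fintype F := Fintype.ofFinite F
  have hEF : (⁅H, H⁆ : Subgroup G) ≤ F := le_sup_left
  have hCF : C₁ ≤ F := le_sup_right
  have hFdec : ∀ f ∈ F, ∃ e ∈ (⁅H, H⁆ : Subgroup G), ∃ z ∈ C₁, f = e * z := by
    intro f hf
    rw [hF, Subgroup.mem_sup_of_normal_left] at hf
    obtain ⟨e, he, z, hz, rfl⟩ := hf
    exact ⟨e, he, z, hz, rfl⟩
  have hEFc : ∀ e ∈ (⁅H, H⁆ : Subgroup G), ∀ f ∈ F, f * e = e * f := by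
    intro e he f hf
    obtain ⟨e', he', z, hz, rfl⟩ := hFdec f hf
    calc e' * z * e = e' * (z * e) := by group
      _ = e' * (e * z) := by rw [hEC e he z hz]
      _ = (e' * e) * z := by group
      _ = (e * e') * z := by rw [hEcomm e' he' e he]
      _ = e * (e' * z) := by group
  have hWF0 : ∀ d ∈ commutator G, ∀ f ∈ F, d * f = f * d := by
    intro d hd f hf
    obtain ⟨e, he, z, hz, rfl⟩ := hFdec f hf
    have h1 := hEW e he d hd
    have h2 := I.WC d hd z hz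
    calc d * (e * z) = (d * e) * z := by group
      _ = (e * d) * z := by rw [h1]
      _ = e * (d * z) := by group
      _ = e * (z * d) := by rw [h2]
      _ = e * z * d := by group
  -- the element `x₀`
  have hx₀ : ∃ g₀ : G, ∃ e₀ ∈ (⁅H, H⁆ : Subgroup G), g₀ * e₀ * g₀⁻¹ * e₀⁻¹ ∉ C₁ := by
    by_contra hall
    push Not at hall
    apply hne₁
    obtain ⟨u, hu, q, hq, rfl⟩ := I.dec g₁
    have hqe := hEn.conj_mem e₁ he₁ q
    have h0 : u * q * e₁ * (u * q)⁻¹ = q * e₁ * q⁻¹ := by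
      have h1 := hPE u hu _ hqe
      calc u * q * e₁ * (u * q)⁻¹ = (u * (q * e₁ * q⁻¹)) * u⁻¹ := by group
        _ = ((q * e₁ * q⁻¹) * u) * u⁻¹ := by rw [h1]
        _ = q * e₁ * q⁻¹ := by group
    rw [h0]
    have hx := hall q e₁ he₁
    set x := q * e₁ * q⁻¹ * e₁⁻¹ with hxdef
    have hxq : q * x = x * q := (((I.mC x).mp hx).2 q hq)
    have hqex : q * e₁ * q⁻¹ = x * e₁ := by rw [hxdef]; group
    have h1 := pow_step q e₁ x hxq hqex (orderOf q)
    rw [pow_orderOf_eq_one, one_mul, mul_one] at h1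
    have h2 : x ^ orderOf q = 1 := by
      have h3 : x ^ orderOf q * e₁ = 1 * e₁ := by rw [← h1, one_mul]
      exact mul_right_cancel h3
    have hxE : x ∈ (⁅H, H⁆ : Subgroup G) :=
      Subgroup.mul_mem _ hqe (Subgroup.inv_mem _ he₁)
    obtain ⟨k, hk⟩ := (IsPGroup.iff_orderOf.mp hEp) ⟨x, hxE⟩
    have hk' : orderOf x = p ^ k := by
      rw [← hk, Subgroup.orderOf_mk]
    have h3 : orderOf x ∣ orderOf q := orderOf_dvd_of_pow_eq_one h2
    have h4 : orderOf q ∣ Nat.card Q := by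
      have h5 : orderOf (⟨q, hq⟩ : Q) = orderOf q := by rw [Subgroup.orderOf_mk]
      rw [← h5]
      exact orderOf_dvd_natCard _
    have h6 : x = 1 := by
      by_contra hne
      have hk0 : k ≠ 0 := by
        rintro rfl
        rw [pow_zero, orderOf_eq_one_iff] at hk'
        exact hne hk'
      apply I.Qp
      refine dvd_trans (dvd_pow_self p hk0) ?_
      rw [← hk']
      exact h3.trans h4
    exact h6
  obtain ⟨g₀, e₀, he₀, hx₀C⟩ := hx₀
  have hinvE : ∀ (g : G) (e : G), e ∈ (⁅H, H⁆ : Subgroup G) → g * e * g⁻¹ ∈ (⁅H, H⁆ : Subgroup G) :=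
    fun g e he => hEn.conj_mem e he g
  -- `μ₁`
  let cE : G → ((⁅H, H⁆ : Subgroup G) →* (⁅H, H⁆ : Subgroup G)) := fun q =>
    (MulAut.conjNormal q).toMonoidHom
  have hcE : ∀ (q : G) (e : (⁅H, H⁆ : Subgroup G)), ((cE q e : (⁅H, H⁆ : Subgroup G)) : G) = q * e * q⁻¹ :=
    fun q e => rfl
  have hc₀E : (⟨c₀, hc₀⟩ : (⁅H, H⁆ : Subgroup G)) ^ Fintype.card Q ≠ 1 := by
    intro h
    have h1 : c₀ ^ Fintype.card Q = 1 := congrArg Subtype.val h
    obtain ⟨k, hk⟩ := (IsPGroup.iff_orderOf.mp hEp) ⟨c₀, hc₀⟩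
    have hk' : orderOf c₀ = p ^ k := by
      rw [← hk, Subgroup.orderOf_mk]
    have h3 : orderOf c₀ ∣ Fintype.card Q := orderOf_dvd_of_pow_eq_one h1
    have hk0 : k ≠ 0 := by
      rintro rfl
      rw [pow_zero, orderOf_eq_one_iff] at hk'
      exact hc₀1 hk'
    apply I.Qp
    rw [Nat.card_eq_fintype_card]
    refine dvd_trans (dvd_pow_self p hk0) ?_
    rw [← hk']
    exact h3
  have hEcommT : ∀ a b : (⁅H, H⁆ : Subgroup G), a * b = b * a := fun a b =>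
    Subtype.ext (hEcomm a a.2 b b.2)
  obtain ⟨ν, hν⟩ := Cfsg.Agent.Lib.Palfy.Dual.sep hEcommT hc₀E
  let μ₁ : (⁅H, H⁆ : Subgroup G) →* ℂˣ := ∏ q : Q, ν.comp (cE (q : G))
  have hμ₁ : ∀ e : (⁅H, H⁆ : Subgroup G), μ₁ e = ∏ q : Q, ν (cE (q : G) e) := by
    intro e
    simp only [μ₁, MonoidHom.finset_prod_apply, MonoidHom.comp_apply]
  have hμ₁c : μ₁ ⟨c₀, hc₀⟩ ≠ 1 := by
    rw [hμ₁]
    have h1 : ∀ q : Q, cE (q : G) ⟨c₀, hc₀⟩ = ⟨c₀, hc₀⟩ := by
      intro q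
      apply Subtype.ext
      rw [hcE]
      have := hc₀G q
      simpa [mul_inv_eq_one] using this
    simp_rw [h1]
    rw [Finset.prod_const, Finset.card_univ, ← map_pow]
    exact hν
  have hμ₁q : ∀ q ∈ Q, ∀ e : (⁅H, H⁆ : Subgroup G), μ₁ (cE q e) = μ₁ e := by
    intro q hq e
    rw [hμ₁, hμ₁]
    refine Fintype.prod_equiv (Equiv.mulRight (⟨q, hq⟩ : Q)) _ _ ?_
    intro r
    congr 1
    apply Subtype.ext
    simp only [Equiv.coe_mulRight, hcE, Subgroup.coe_mul]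
    group
  have hμ₁g : ∀ g : G, ∀ e : (⁅H, H⁆ : Subgroup G), μ₁ (cE g e) = μ₁ e := by
    intro g e
    obtain ⟨u, hu, q, hq, rfl⟩ := I.dec g
    have h1 : cE (u * q) e = cE q e := by
      apply Subtype.ext
      rw [hcE, hcE]
      have h2 := hPE u hu _ (hinvE q e e.2)
      calc u * q * (e : G) * (u * q)⁻¹ = (u * (q * e * q⁻¹)) * u⁻¹ := by group
        _ = ((q * e * q⁻¹) * u) * u⁻¹ := by rw [h2]
        _ = q * e * q⁻¹ := by group
    rw [h1]
    exact hμ₁q q hq e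
  -- `ε`
  set EF : Subgroup F := (⁅H, H⁆ : Subgroup G).subgroupOf F with hEFdef
  set CF : Subgroup F := C₁.subgroupOf F with hCFdef
  haveI hCFn : CF.Normal := Subgroup.normal_subgroupOf
  haveI hEFn : EF.Normal := Subgroup.normal_subgroupOf
  letI : Fintype EF := Fintype.ofFinite EF
  have hQ2 : ∀ a : F ⧸ CF, ∃ f : F, (f : G) ∈ (⁅H, H⁆ : Subgroup G) ∧ (QuotientGroup.mk' CF) f = a := by
    intro a
    obtain ⟨f₀, rfl⟩ := QuotientGroup.mk'_surjective CF a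
    obtain ⟨e, he, z, hz, hez⟩ := hFdec f₀ f₀.2
    refine ⟨⟨e, hEF he⟩, he, ?_⟩
    rw [QuotientGroup.mk'_apply, QuotientGroup.mk'_apply, QuotientGroup.eq]
    rw [hCFdef, Subgroup.mem_subgroupOf]
    have : (((⟨e, hEF he⟩ : F)⁻¹ * f₀ : F) : G) = z := by
      simp only [Subgroup.coe_mul, Subgroup.coe_inv, hez]
      group
    rw [this]
    exact hz
  have hQc : ∀ a b : F ⧸ CF, a * b = b * a := by
    intro a b
    obtain ⟨f, hf, rfl⟩ := hQ2 a
    obtain ⟨f', hf', rfl⟩ := hQ2 b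
    rw [← map_mul, ← map_mul]
    congr 1
    exact Subtype.ext (hEcomm _ hf _ hf')
  let x₀ : F := ⟨g₀ * e₀ * g₀⁻¹ * e₀⁻¹, hEF (Subgroup.mul_mem _ (hinvE g₀ e₀ he₀) (Subgroup.inv_mem _ he₀))⟩
  have hx₀1 : (QuotientGroup.mk' CF) x₀ ≠ 1 := by
    intro h
    rw [QuotientGroup.mk'_apply, QuotientGroup.eq_one_iff, hCFdef, Subgroup.mem_subgroupOf] at h
    exact hx₀C h
  obtain ⟨ν₂, hν₂⟩ := Cfsg.Agent.Lib.Palfy.Dual.sep hQc hx₀1
  let ε : F →* ℂˣ := ν₂.comp (QuotientGroup.mk' CF)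
  have hεC : ∀ z : F, (z : G) ∈ C₁ → ε z = 1 := by
    intro z hz
    have : (QuotientGroup.mk' CF) z = 1 := by
      rw [QuotientGroup.mk'_apply, QuotientGroup.eq_one_iff, hCFdef, Subgroup.mem_subgroupOf]
      exact hz
    simp only [ε, MonoidHom.comp_apply, this, map_one]
  have hεx : ε x₀ ≠ 1 := hν₂
  -- the linear character of `E`
  let incE : (⁅H, H⁆ : Subgroup G) →* F := Subgroup.inclusion hEF
  let μ : (⁅H, H⁆ : Subgroup G) →* ℂˣ := μ₁ * ε.comp incE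
  have hμv : ∀ e, μ e = μ₁ e * ε (incE e) := fun e => rfl
  let e₀E : (⁅H, H⁆ : Subgroup G) := ⟨e₀, he₀⟩
  have hμne : μ (cE g₀ e₀E) ≠ μ e₀E := by
    intro h
    rw [hμv, hμv, hμ₁g] at h
    have h1 := mul_left_cancel h
    apply hεx
    have h2 : x₀ = incE (cE g₀ e₀E) * (incE e₀E)⁻¹ := by
      apply Subtype.ext
      rfl
    rw [h2, map_mul, map_inv, h1, mul_inv_cancel]
  let eqE : EF ≃* (⁅H, H⁆ : Subgroup G) := Subgroup.subgroupOfEquivOfLe hEF
  let β : EF →* ℂˣ := μ.comp eqE.toMonoidHom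
  obtain ⟨η₂, hη₂, hov₂⟩ := exists_over (G := F) (N := EF) (isIrrCharacter_of_hom β)
  have hZc : ∀ z ∈ EF, ∀ x : F, x * z = z * x := by
    intro z hz x
    apply Subtype.ext
    exact hEFc _ (Subgroup.mem_subgroupOf.mp hz) _ x.2
  have hval₂ : ∀ e : (⁅H, H⁆ : Subgroup G), η₂ (incE e) = η₂ 1 * ((μ e : ℂˣ) : ℂ) := by
    intro e
    have h1 := val_of_over hEFn hZc β hη₂ hov₂ ⟨incE e, Subgroup.mem_subgroupOf.mpr e.2⟩
    exact h1
  have hη₂1 : η₂ 1 ≠ 0 := irr_one_ne_zero hη₂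
  -- `η₁`
  let η₁ : F → ℂ := lc ε⁻¹ * η₂
  have hη₁ : IsIrrCharacter F η₁ := isIrr_lc_mul ε⁻¹ hη₂
  have hη₁v : ∀ f : F, η₁ f = ((ε f : ℂˣ) : ℂ)⁻¹ * η₂ f := by
    intro f
    simp [η₁, lc, Pi.mul_apply]
  have hη₁1 : η₁ 1 = η₂ 1 := by
    rw [hη₁v]
    simp
  have hval₁ : ∀ e : (⁅H, H⁆ : Subgroup G), η₁ (incE e) = η₁ 1 * ((μ₁ e : ℂˣ) : ℂ) := by
    intro e
    rw [hη₁v, hval₂, hη₁1, hμv]
    have h1 : ((ε (incE e) : ℂˣ) : ℂ) ≠ 0 := Units.ne_zero _
    push_cast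
    field_simp
  have hdeg : charDegree η₁ = charDegree η₂ := charDegree_lc_mul ε⁻¹ η₂
  have hη₁ne : ∃ e : F, (e : G) ∈ (⁅H, H⁆ : Subgroup G) ∧ η₁ e ≠ η₁ 1 := by
    refine ⟨incE ⟨c₀, hc₀⟩, hc₀, ?_⟩
    rw [hval₁, hη₁1]
    intro h
    apply hμ₁c
    have h2 : η₂ 1 * ((μ₁ ⟨c₀, hc₀⟩ : ℂˣ) : ℂ) = η₂ 1 * 1 := by rw [h, mul_one]
    exact Units.ext (mul_left_cancel₀ hη₂1 h2)
  have hη₂ne : ∃ e : F, (e : G) ∈ (⁅H, H⁆ : Subgroup G) ∧ η₂ e ≠ η₂ 1 := by
    by_contra hall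
    push Not at hall
    apply hμne
    have h1 : ∀ e : (⁅H, H⁆ : Subgroup G), μ e = 1 := by
      intro e
      have h2 := hall (incE e) e.2
      rw [hval₂] at h2
      have h3 : η₂ 1 * ((μ e : ℂˣ) : ℂ) = η₂ 1 * 1 := by rw [h2, mul_one]
      exact Units.ext (mul_left_cancel₀ hη₂1 h3)
    rw [h1, h1]
  -- `η₁` is invariant
  have hcenter : ∀ e : (⁅H, H⁆ : Subgroup G), incE e ∈ Subgroup.center F := by
    intro e
    rw [Subgroup.mem_center_iff]
    intro f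
    apply Subtype.ext
    exact hEFc _ e.2 _ f.2
  have hmul₁ : ∀ (f : F) (e : (⁅H, H⁆ : Subgroup G)), η₁ (f * incE e) = η₁ f * ((μ₁ e : ℂˣ) : ℂ) := by
    intro f e
    have h1 := Cfsg.Agent.Lib.Blk89.Linear.char_mul_central hη₁ f (hcenter e)
    rw [hval₁] at h1
    have h2 : η₁ 1 ≠ 0 := by rw [hη₁1]; exact hη₂1
    have h3 : η₁ (f * incE e) * η₁ 1 = (η₁ f * ((μ₁ e : ℂˣ) : ℂ)) * η₁ 1 := by
      rw [h1]
      ring
    exact mul_right_cancel₀ h2 h3
  have hinv₁ : inertia hFn η₁ = ⊤ := by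
    rw [eq_top_iff]
    intro g _
    obtain ⟨u, hu, q, hq, rfl⟩ := I.dec g
    apply Subgroup.mul_mem
    · obtain ⟨d, hd, y, hy, rfl⟩ := I.PWC u hu
      apply Subgroup.mul_mem
      · rw [mem_inertia]
        funext f
        rw [conjOn_apply]
        congr 1
        apply Subtype.ext
        simp only
        rw [hWF0 d hd f f.2]
        group
      · rw [mem_inertia]
        exact conjOn_of_mem hFn (isClassFunction_of_isIrrCharacter hη₁) (hCF hy)
    · rw [mem_inertia]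
      funext f
      rw [conjOn_apply]
      obtain ⟨e, he, z, hz, hfez⟩ := hFdec f f.2
      have h1 : f = (⟨z, hCF hz⟩ : F) * incE ⟨e, he⟩ := by
        apply Subtype.ext
        rw [hfez]
        exact hEC e he z hz
      have hqz : q * z = z * q := ((I.mC z).mp hz).2 q hq
      have h2 : (⟨q * (f : G) * q⁻¹, hFn.conj_mem f f.2 q⟩ : F) =
          (⟨z, hCF hz⟩ : F) * incE (cE q ⟨e, he⟩) := by
        apply Subtype.ext
        simp only [Subgroup.coe_mul]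
        change q * (f : G) * q⁻¹ = z * (q * e * q⁻¹)
        rw [hfez, hEC e he z hz]
        calc q * (z * e) * q⁻¹ = (q * z) * e * q⁻¹ := by group
          _ = (z * q) * e * q⁻¹ := by rw [hqz]
          _ = z * (q * e * q⁻¹) := by group
      rw [h2, hmul₁, hμ₁q q hq]
      conv_rhs => rw [h1, hmul₁]
  -- `η₂` is moved
  have hinv₂ : (inertia hFn η₂).index ≠ 1 := by
    intro h
    rw [Subgroup.index_eq_one] at h
    have hg : g₀ ∈ inertia hFn η₂ := by rw [h]; exact Subgroup.mem_top _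
    rw [mem_inertia] at hg
    have h1 := congrFun hg (incE e₀E)
    rw [conjOn_apply] at h1
    have h2 : (⟨g₀ * ((incE e₀E : F) : G) * g₀⁻¹, hFn.conj_mem _ (incE e₀E).2 g₀⟩ : F) = incE (cE g₀ e₀E) := rfl
    rw [h2, hval₂, hval₂] at h1
    apply hμne
    exact Units.ext (mul_left_cancel₀ hη₂1 h1)
  obtain ⟨s₀, hs₀, -, hform⟩ := DegOverEta.deg_over_eta s hp I hEW hFn rfl
  obtain ⟨χ₁, hχ₁, hov₁⟩ := exists_over (G := G) (N := F) hη₁
  obtain ⟨χ₂, hχ₂, hov₂'⟩ := exists_over (G := G) (N := F) hη₂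
  have hd₁ := hform η₁ hη₁ hη₁ne χ₁ hχ₁ hov₁
  have hd₂ := hform η₂ hη₂ hη₂ne χ₂ hχ₂ hov₂'
  rw [hinv₁, Subgroup.index_top, one_mul, hdeg] at hd₁
  have hD : 0 < charDegree η₂ := charDegree_pos hη₂
  have hf0 : (inertia hFn η₂).index ≠ 0 := Subgroup.index_ne_zero_of_finite
  have hf2 : 2 ≤ (inertia hFn η₂).index := by omega
  have ha1 : 1 < s₀ * charDegree η₂ := by nlinarith
  apply s.nd (charDegree χ₁) ⟨⟨χ₁, hχ₁⟩, rfl⟩ (charDegree χ₂) ⟨⟨χ₂, hχ₂⟩, rfl⟩
  · rw [hd₁]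
    exact ha1
  · rw [hd₁, hd₂]
    nlinarith
  · rw [hd₁, hd₂]
    exact dvd_mul_left _ _

end Cfsg.Agent.Lib.NDF.Dichotomy
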