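import Cfsg.Agent.Lib.NDF.StChar
import Cfsg.Agent.Lib.NDF.StQuot

/-!
# S4780, (IB): a nontrivial normal `T ≤ E` central in `H` has a fixed point of some `g ∉ H`
-/

set_option autoImplicit false
set_option linter.unusedSectionVars false

namespace Cfsg.Agent.Lib.NDF.FixCentral

open Cfsg Cfsg.Agent.Lib.NoDiv.Defs Cfsg.Agent.Lib.NDF.Defs
open Cfsg.Agent.Lib.Char.Basic Cfsg.Agent.Lib.Char.Conj Cfsg.Agent.Lib.Char.Linear
open Cfsg.Agent.Lib.Char.Ortho Cfsg.Agent.Lib.Char.Complete Cfsg.Agent.Lib.Char.CentralCount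
open scoped ComplexConjugate commutatorElement

universe u

variable {G : Type u} [Group G] {H Y : Subgroup G}

/-- Characters separate a nontrivial element from the identity. -/
theorem exists_irr_moved {X : Type u} [Group X] [Fintype X] {t : X} (ht : t ≠ 1) :
    ∃ ξ : X → ℂ, IsIrrCharacter X ξ ∧ ξ t ≠ ξ 1 := by
  classical
  by_contra hcon
  push Not at hcon
  have := finite_irrCharacter (G := X)
  letI := Fintype.ofFinite (IrrCharacter X)
  have h1 := sum_irr_mul_conj t (1 : X)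
  have h2 := sum_irr_mul_conj (1 : X) (1 : X)
  have hnc : ¬ IsConj t 1 := fun h => ht (isConj_one_left.mp h)
  rw [if_neg hnc] at h1
  rw [if_pos (IsConj.refl _)] at h2
  have h3 : ∑ χ : IrrCharacter X, (χ : X → ℂ) t * conj ((χ : X → ℂ) 1) =
      ∑ χ : IrrCharacter X, (χ : X → ℂ) 1 * conj ((χ : X → ℂ) 1) := by
    refine Finset.sum_congr rfl fun χ _ => ?_
    rw [hcon _ χ.2]
  rw [h1] at h3
  rw [← h3] at h2
  have h4 : (Nat.card (Subgroup.centralizer ({1} : Set X)) : ℂ) ≠ 0 :=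
    Nat.cast_ne_zero.mpr Nat.card_pos.ne'
  exact h4 h2.symm

/-- `a ↦ [g, a]` on an abelian normal subgroup without fixed points of `g` is onto. -/
theorem comm_surj {Γ : Type*} [Group Γ] [Finite Γ] {A : Subgroup Γ} (hn : A.Normal)
    (g : Γ)
    (hab : ∀ a ∈ A, ∀ b ∈ A, a * b = b * a)
    (hfpf : ∀ a ∈ A, g * a = a * g → a = 1) : ∀ b ∈ A, ∃ a ∈ A, g * a * g⁻¹ * a⁻¹ = b := by
  have hcomm : ∀ t ∈ A, g * t * g⁻¹ * t⁻¹ ∈ A := fun t ht =>
    A.mul_mem (hn.conj_mem t ht g) (A.inv_mem ht)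
  let f : A → A := fun t => ⟨g * t * g⁻¹ * (t : Γ)⁻¹, hcomm t t.2⟩
  have hinj : Function.Injective f := by
    rintro ⟨a, ha⟩ ⟨b, hb⟩ hab'
    have h1 : g * a * g⁻¹ * a⁻¹ = g * b * g⁻¹ * b⁻¹ := congrArg Subtype.val hab'
    have hu : b⁻¹ * a ∈ A := A.mul_mem (A.inv_mem hb) ha
    have h3 : g * a * g⁻¹ = (g * b * g⁻¹) * (a * b⁻¹) := by
      have h4 := congrArg (· * a) h1
      simp only [inv_mul_cancel_right] at h4
      rw [h4, hab a ha b⁻¹ (A.inv_mem hb)]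
      group
    have h5 : g * (b⁻¹ * a) * g⁻¹ = (g * b * g⁻¹)⁻¹ * (g * a * g⁻¹) := by group
    have h6 : g * (b⁻¹ * a) * g⁻¹ = b⁻¹ * a := by
      rw [h5, h3, hab a ha b⁻¹ (A.inv_mem hb)]
      group
    have h2 : g * (b⁻¹ * a) = (b⁻¹ * a) * g := by
      calc g * (b⁻¹ * a) = g * (b⁻¹ * a) * g⁻¹ * g := by group
        _ = _ := by rw [h6]
    have h8 : b⁻¹ * a = 1 := hfpf _ hu h2
    exact Subtype.ext (inv_mul_eq_one.mp h8).symm
  have hsurj : Function.Surjective f := Finite.surjective_of_injective hinj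
  intro b hb
  obtain ⟨⟨a, ha⟩, hf⟩ := hsurj ⟨b, hb⟩
  exact ⟨a, ha, congrArg Subtype.val hf⟩

/-- (IB). -/
theorem fix_central [Finite G] (s : St H Y) {T : Subgroup G} (hTn : T.Normal)
    (hTE : T ≤ ⁅H, H⁆) (hT1 : T ≠ ⊥) (hTH : ∀ t ∈ T, ∀ h ∈ H, h * t = t * h) :
    ∃ g, g ∉ H ∧ ∃ t ∈ T, t ≠ 1 ∧ g * t = t * g := by
  classical
  haveI : Fintype G := Fintype.ofFinite G
  haveI : Fintype H := Fintype.ofFinite H
  haveI := s.nH
  have hTleH : T ≤ H := hTE.trans (Subgroup.commutator_le_left H H)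
  obtain ⟨t₀, ht₀, ht₀1⟩ : ∃ t ∈ T, t ≠ 1 := by
    obtain ⟨a, ha⟩ := (Subgroup.ne_bot_iff_exists_ne_one (H := T)).mp hT1
    exact ⟨a, a.2, fun h => ha (Subtype.ext h)⟩
  -- a character of `H` moving `t₀`
  have ht₀' : (⟨t₀, hTleH ht₀⟩ : H) ≠ 1 := fun h => ht₀1 (congrArg Subtype.val h)
  obtain ⟨ξ, hξ, hξt⟩ := exists_irr_moved ht₀'
  -- `ξ` nonlinear
  have hξ1 : ξ 1 ≠ 1 := by
    intro h1
    obtain ⟨lam, hlam⟩ := exists_hom_of_deg_one (isCharacter_of_isIrrCharacter hξ) h1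
    apply hξt
    have hle : (⁅H, H⁆ : Subgroup G) ≤ lam.ker.map H.subtype := by
      rw [Subgroup.commutator_le]
      intro a ha b hb
      refine ⟨⁅(⟨a, ha⟩ : H), (⟨b, hb⟩ : H)⁆, ?_, rfl⟩
      rw [SetLike.mem_coe, MonoidHom.mem_ker, map_commutatorElement,
        commutatorElement_eq_one_iff_mul_comm]
      exact mul_comm _ _
    have hker : ∀ e ∈ (⁅H, H⁆ : Subgroup G), ∀ he : e ∈ H, lam ⟨e, he⟩ = 1 := by
      intro e heE he
      obtain ⟨c, hc, rfl⟩ := hle heE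
      exact hc
    rw [hlam]
    simp only
    rw [hker t₀ (hTE ht₀) (hTleH ht₀)]
    simp
  obtain ⟨g, hgH, hg⟩ := Cfsg.Agent.Lib.NDF.StChar.St.nl_moved s hξ hξ1
  refine ⟨g, hgH, ?_⟩
  by_contra hcon
  push Not at hcon
  -- `hcon`: `g` is fixed point free on `T`
  have hTab : ∀ a ∈ T, ∀ b ∈ T, a * b = b * a := fun a ha b hb => hTH a ha b (hTleH hb) |>.symm
  have hsurj := comm_surj hTn g hTab (fun a ha hcomm => by
    by_contra hne
    exact hcon a ha hne hcomm)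
  -- `ξ` is trivial on the commutators
  have hcen : ∀ t : T, ((⟨t, hTleH t.2⟩ : H)) ∈ Subgroup.center H := fun t => by
    rw [Subgroup.mem_center_iff]
    intro h
    exact Subtype.ext (hTH t t.2 h h.2)
  obtain ⟨a, ha, hf'⟩ := hsurj t₀ ht₀
  apply hξt
  have h1 : ξ ⟨g * a * g⁻¹, s.nH.conj_mem a (hTleH ha) g⟩ = ξ ⟨a, hTleH ha⟩ := by
    have := congrFun hg ⟨a, hTleH ha⟩
    simpa using this
  have h2 := char_mul_central hξ (hcen ⟨a⁻¹, T.inv_mem ha⟩)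
    ⟨g * a * g⁻¹, s.nH.conj_mem a (hTleH ha) g⟩
  have h3 := char_mul_central hξ (hcen ⟨a⁻¹, T.inv_mem ha⟩) ⟨a, hTleH ha⟩
  have he1 : (⟨g * a * g⁻¹, s.nH.conj_mem a (hTleH ha) g⟩ : H) * ⟨a⁻¹, hTleH (T.inv_mem ha)⟩ =
      ⟨t₀, hTleH ht₀⟩ := Subtype.ext (by simpa using hf')
  have he2 : (⟨a, hTleH ha⟩ : H) * ⟨a⁻¹, hTleH (T.inv_mem ha)⟩ = 1 :=
    Subtype.ext (by simp)
  simp only at h2 h3
  rw [he1] at h2
  rw [he2] at h3
  rw [h1] at h2
  have hξ0 : ξ 1 ≠ 0 := irr_one_ne_zero hξ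
  exact mul_right_cancel₀ hξ0 (h2.trans h3.symm)

/-- Commuting modulo a normal subgroup. -/
theorem comm_mem_iff {M : Subgroup G} [hM : M.Normal] (a b : G) :
    QuotientGroup.mk' M a * QuotientGroup.mk' M b = QuotientGroup.mk' M b * QuotientGroup.mk' M a ↔
      a * b * a⁻¹ * b⁻¹ ∈ M := by
  have hmem : ∀ t, QuotientGroup.mk' M t = 1 ↔ t ∈ M := fun t => by simp
  rw [← hmem]
  simp only [map_mul, map_inv]
  constructor
  · intro h
    rw [h]
    group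
  · intro h
    calc _ = (QuotientGroup.mk' M a * QuotientGroup.mk' M b * (QuotientGroup.mk' M a)⁻¹ *
          (QuotientGroup.mk' M b)⁻¹) * (QuotientGroup.mk' M b * QuotientGroup.mk' M a) := by group
      _ = _ := by rw [h, one_mul]

/-- The form for a chief factor central in `H`: some `g ∉ H` is trivial on `T / M`. -/
theorem out_triv [Finite G] (s : St H Y) {M T : Subgroup G} (hc : Chief M T) (hTE : T ≤ ⁅H, H⁆)
    (hHT : ∀ h ∈ H, ∀ t ∈ T, h * t * h⁻¹ * t⁻¹ ∈ M) :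
    ∃ g, g ∉ H ∧ ∀ t ∈ T, g * t * g⁻¹ * t⁻¹ ∈ M := by
  classical
  haveI := hc.nK
  haveI := hc.nL
  haveI := s.nH
  have hME : M ≤ ⁅H, H⁆ := hc.le.trans hTE
  have s' := Cfsg.Agent.Lib.NDF.StQuot.St.quot s hME
  let π := QuotientGroup.mk' M
  have hmem : ∀ t, π t = 1 ↔ t ∈ M := fun t => by simp [π]
  have hTn' : (T.map π).Normal := Subgroup.Normal.map hc.nL π (QuotientGroup.mk'_surjective M)
  have hTE' : T.map π ≤ ⁅H.map π, H.map π⁆ := by
    rw [← Subgroup.map_commutator]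
    exact Subgroup.map_mono hTE
  have hT1' : T.map π ≠ ⊥ := by
    intro h
    apply hc.ne
    refine le_antisymm hc.le fun t ht => ?_
    have h1 : π t ∈ T.map π := ⟨t, ht, rfl⟩
    rw [h, Subgroup.mem_bot] at h1
    exact (hmem t).1 h1
  have hTH' : ∀ t ∈ T.map π, ∀ h ∈ H.map π, h * t = t * h := by
    rintro _ ⟨t, ht, rfl⟩ _ ⟨h, hh, rfl⟩
    exact (comm_mem_iff h t).2 (hHT h hh t ht)
  obtain ⟨g', hg', t', ⟨t₀, ht₀, rfl⟩, ht'1, hcomm⟩ := fix_central s' hTn' hTE' hT1' hTH'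
  obtain ⟨g, rfl⟩ := QuotientGroup.mk'_surjective M g'
  have hgH : g ∉ H := fun h => hg' ⟨g, h, rfl⟩
  refine ⟨g, hgH, ?_⟩
  let C : Subgroup G := (Subgroup.centralizer {π g}).comap π ⊓ T
  have hmC : ∀ t, t ∈ C ↔ t ∈ T ∧ π g * π t = π t * π g := by
    intro t
    simp only [C, Subgroup.mem_inf, Subgroup.mem_comap, Subgroup.mem_centralizer_iff,
      Set.mem_singleton_iff, forall_eq]
    exact and_comm
  have hCn : C.Normal := by
    refine ⟨fun t ht x => ?_⟩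
    obtain ⟨ht1, ht2⟩ := (hmC t).1 ht
    refine (hmC _).2 ⟨hc.nL.conj_mem t ht1 x, ?_⟩
    -- `g x = x g h`
    have hh : g⁻¹ * x⁻¹ * g⁻¹⁻¹ * x⁻¹⁻¹ ∈ H := s.ab g⁻¹ x⁻¹
    set h := g⁻¹ * x⁻¹ * g⁻¹⁻¹ * x⁻¹⁻¹ with hh'
    have h1 : g * x = x * g * h := by rw [hh']; group
    have h2 : π h * π t = π t * π h := (comm_mem_iff h t).2 (hHT h hh t ht1)
    have h3 : π g * π x = π x * π g * π h := by
      rw [← map_mul, ← map_mul, ← map_mul, h1]
    have h4 : (π x)⁻¹ * π g = π g * π h * (π x)⁻¹ := by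
      calc (π x)⁻¹ * π g = (π x)⁻¹ * (π g * π x) * (π x)⁻¹ := by group
        _ = (π x)⁻¹ * (π x * π g * π h) * (π x)⁻¹ := by rw [h3]
        _ = _ := by group
    simp only [map_mul, map_inv]
    calc π g * (π x * π t * (π x)⁻¹) = (π g * π x) * π t * (π x)⁻¹ := by group
      _ = π x * π g * (π h * π t) * (π x)⁻¹ := by rw [h3]; group
      _ = π x * (π g * π t) * π h * (π x)⁻¹ := by rw [h2]; group
      _ = π x * π t * (π g * π h * (π x)⁻¹) := by rw [ht2]; group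
      _ = π x * π t * ((π x)⁻¹ * π g) := by rw [h4]
      _ = _ := by group
  have hMC : M ≤ C := fun k hk => (hmC k).2 ⟨hc.le hk, by
    rw [(hmem k).2 hk, mul_one, one_mul]⟩
  have hCT : C ≤ T := inf_le_right
  have ht₀C : t₀ ∈ C := (hmC t₀).2 ⟨ht₀, by
    have := hcomm
    rwa [QuotientGroup.mk'_apply] at this⟩
  rcases hc.min C hCn hMC hCT with h | h
  · exfalso
    rw [h] at ht₀C
    exact ht'1 ((hmem t₀).2 ht₀C)
  · intro t ht
    rw [← h] at ht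
    exact (comm_mem_iff g t).1 ((hmC t).1 ht).2

end Cfsg.Agent.Lib.NDF.FixCentral
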