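import Cfsg.Agent.Lib.NDF.Defs
import Cfsg.Agent.Lib.NoDiv.Main

/-!
# S4780, block T: `St.index_mem`, `St.nl_stable`, `St.nl_moved`, `St.cam`, `St.deg_p`
-/

set_option autoImplicit false
set_option linter.unusedSectionVars false
set_option linter.style.haveILetI false

namespace Cfsg.Agent.Lib.NDF.StChar

open Cfsg Module Cfsg.Agent.Lib.NoDiv.Defs Cfsg.Agent.Lib.NDF.Defs
open Cfsg.Agent.Lib.Char.Basic Cfsg.Agent.Lib.Char.Conj Cfsg.Agent.Lib.Char.CliffordCorr
open Cfsg.Agent.Lib.Char.Linear Cfsg.Agent.Lib.Char.Degree Cfsg.Agent.Lib.Char.Ortho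
open Cfsg.Agent.Lib.Char.Induced Cfsg.Agent.Lib.Char.Complete
open Cfsg.Agent.Lib.NoDiv.XLemma Cfsg.Agent.Lib.NoDiv.Camina Cfsg.Agent.Lib.NoDiv.Mid
open Cfsg.Agent.Lib.Char.GoingDown
open scoped ComplexConjugate

universe u

variable {G : Type u} [Group G] {H Y : Subgroup G}

/-- (T3) -/
theorem St.index_mem [Finite G] (s : St H Y) : H.index ∈ charDegrees G := by
  classical
  letI : Fintype G := Fintype.ofFinite _
  exact (Cfsg.Agent.Lib.NoDiv.Deep1.index_mem_of s.nH s.nY s.YH s.ne s.HY s.fpf).1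

/-- `1 < H.index`. -/
theorem St.one_lt_index [Finite G] (s : St H Y) : 1 < H.index := by
  obtain ⟨g, hg⟩ := s.out
  have h0 : H.index ≠ 0 := Subgroup.index_ne_zero_of_finite
  have h1 : H.index ≠ 1 := by
    intro h
    exact hg (Subgroup.index_eq_one.mp h ▸ Subgroup.mem_top g)
  omega

/-- The dichotomy of `xlemma` with its first branch excluded by `NoDiv`. -/
theorem St.moved_and_stable [Fintype G] [Fintype H] (s : St H Y) {ξ : H → ℂ}
    (hξ : IsIrrCharacter H ξ) (hξ1 : ξ 1 ≠ 1) :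
    (∃ g, g ∉ H ∧ conjOn s.nH g ξ = ξ) ∧
    ∀ δ : H →* ℂˣ, (∀ z : H, (z : G) ∈ Y → δ z = 1) → (fun c => ((δ c : ℂˣ) : ℂ) * ξ c) = ξ := by
  classical
  obtain ⟨χ', hχ'⟩ := Cfsg.Agent.Lib.Blk89.ItoMichler.exists_irr_over (G := G) (N := H) hξ
  set χ : G → ℂ := χ'.1 with hχdef
  have hχ : IsIrrCharacter G χ := χ'.2
  have hξc := isCharacter_of_isIrrCharacter hξ
  have hχc := isCharacter_of_isIrrCharacter hχ
  obtain ⟨e, he0, hdeg, hdvd⟩ := deg_data s.nH hξ hχ hχ'
  have hξd1 : charDegree ξ ≠ 1 := fun h => hξ1 ((charDegree_eq_one_iff hξc).mp h)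
  have hξd0 : 0 < charDegree ξ := charDegree_pos hξ
  have hχd1 : charDegree χ ≠ 1 := by
    rw [hdeg]
    intro h
    exact hξd1 (Nat.eq_one_of_mul_eq_one_left h)
  have hχ1 : χ 1 ≠ 1 := fun h => hχd1 ((charDegree_eq_one_iff hχc).mpr h)
  have hmem : charDegree χ ∈ charDegrees G := charDegree_mem χ hχ
  have hm := St.one_lt_index s
  rcases xlemma s.nH s.YH s.nY s.ab s.HY s.fpf s.nd hξ hχ hχ1 hχ' with hc | hc
  · exfalso
    have hI : inertia s.nH ξ = H := by
      apply le_antisymm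
      · intro g hg
        exact hc g hg
      · exact le_inertia s.nH (isClassFunction_of_isIrrCharacter hξ)
    rw [hI] at hdeg
    have h1 : H.index ∣ charDegree χ := by
      rw [hdeg]
      exact (dvd_mul_left _ _).trans (dvd_mul_right _ _)
    have h2 : H.index < charDegree χ := by
      rw [hdeg]
      have h3 : 2 ≤ charDegree ξ := by omega
      have h4 : 0 < H.index := by omega
      nlinarith [Nat.mul_le_mul_right H.index he0]
    exact s.nd _ (St.index_mem s) _ hmem hm h2 h1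
  · refine ⟨?_, hc⟩
    by_contra hno
    push Not at hno
    have hin : ∀ g : G, conjOn s.nH g ξ = ξ → g ∈ H := by
      intro g hg
      by_contra hgH
      exact hno g hgH hg
    have hI : inertia s.nH ξ = H := by
      apply le_antisymm
      · intro g hg
        exact hin g hg
      · exact le_inertia s.nH (isClassFunction_of_isIrrCharacter hξ)
    rw [hI] at hdeg
    have h1 : H.index ∣ charDegree χ := by
      rw [hdeg]
      exact (dvd_mul_left _ _).trans (dvd_mul_right _ _)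
    have h2 : H.index < charDegree χ := by
      rw [hdeg]
      have h3 : 2 ≤ charDegree ξ := by omega
      have h4 : 0 < H.index := by omega
      nlinarith [Nat.mul_le_mul_right H.index he0]
    exact s.nd _ (St.index_mem s) _ hmem hm h2 h1

/-- (T4) -/
theorem St.nl_stable [Fintype G] [Fintype H] (s : St H Y) {ξ : H → ℂ} (hξ : IsIrrCharacter H ξ)
    (hξ1 : ξ 1 ≠ 1) (δ : H →* ℂˣ) (hδ : ∀ z : H, (z : G) ∈ Y → δ z = 1) :
    (fun c => ((δ c : ℂˣ) : ℂ) * ξ c) = ξ :=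
  (St.moved_and_stable s hξ hξ1).2 δ hδ

/-- (T5) -/
theorem St.nl_moved [Fintype G] [Fintype H] (s : St H Y) {ξ : H → ℂ} (hξ : IsIrrCharacter H ξ)
    (hξ1 : ξ 1 ≠ 1) : ∃ g, g ∉ H ∧ conjOn s.nH g ξ = ξ :=
  (St.moved_and_stable s hξ hξ1).1

/-- Nonlinear characters of `H` vanish off `Y`. -/
theorem St.vanish_off [Fintype G] [Fintype H] (s : St H Y) {ξ : H → ℂ} (hξ : IsIrrCharacter H ξ)
    (hξ1 : ξ 1 ≠ 1) (c : H) (hc : (c : G) ∉ Y) : ξ c = 0 := by
  haveI hYn : (Y.subgroupOf H).Normal := s.nY.subgroupOf H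
  have hab : ∀ a b : H, a * b * a⁻¹ * b⁻¹ ∈ Y.subgroupOf H := fun a b => s.HY a a.2 b b.2
  have hc' : c ∉ Y.subgroupOf H := hc
  obtain ⟨δ, hδ, hδc⟩ := Cfsg.Agent.Lib.NoDiv.Q78.exists_sep hYn hab hc'
  have h1 := congrFun (St.nl_stable s hξ hξ1 δ (fun z hz => hδ z hz)) c
  beta_reduce at h1
  have h3 : (((δ c : ℂˣ) : ℂ) - 1) * ξ c = 0 := by
    rw [sub_mul, h1, one_mul, sub_self]
  refine (mul_eq_zero.mp h3).resolve_left ?_
  intro h4
  exact hδc (Units.ext (sub_eq_zero.mp h4))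

/-- The class statement when all nonlinear characters vanish at `c`. -/
theorem class_eq_of_vanish {C : Type u} [Group C] [Fintype C] (c : C)
    (hv : ∀ ξ : IrrCharacter C, (ξ : C → ℂ) 1 ≠ 1 → (ξ : C → ℂ) c = 0) {e : C}
    (he : e ∈ commutator C) : ∃ b : C, b * c * b⁻¹ = c * e := by
  classical
  have := finite_irrCharacter (G := C)
  letI := Fintype.ofFinite (IrrCharacter C)
  have h1 := sum_irr_mul_conj c c
  rw [if_pos (IsConj.refl c)] at h1
  have h2 : ∀ χ : IrrCharacter C, (χ : C → ℂ) c * conj ((χ : C → ℂ) c) =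
      if (χ : C → ℂ) 1 = 1 then 1 else 0 := by
    intro χ
    by_cases hχ : (χ : C → ℂ) 1 = 1
    · rw [if_pos hχ]
      obtain ⟨lam, hlam⟩ := exists_hom_of_deg_one (isCharacter_of_isIrrCharacter χ.2) hχ
      rw [hlam]
      have h3 : ‖((lam c : ℂˣ) : ℂ)‖ = 1 := by
        have hk0 := orderOf_pos c
        have h4 : ((lam c : ℂˣ) : ℂ) ^ orderOf c = 1 := by
          rw [← Units.val_pow_eq_pow_val, ← map_pow, pow_orderOf_eq_one, map_one, Units.val_one]
        exact Complex.norm_eq_one_of_pow_eq_one h4 hk0.ne'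
      rw [Complex.mul_conj, Complex.normSq_eq_norm_sq, h3]
      simp
    · rw [if_neg hχ, hv χ hχ]
      simp
  simp only [h2] at h1
  rw [Finset.sum_boole] at h1
  have h3 : (Finset.univ.filter fun χ : IrrCharacter C => (χ : C → ℂ) 1 = 1).card =
      (commutator C).index := by
    rw [← card_linear_eq_index, Nat.card_eq_fintype_card, Fintype.card_subtype]
  rw [h3] at h1
  have h4 : (commutator C).index = Nat.card (Subgroup.centralizer ({c} : Set C)) := by
    exact_mod_cast h1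
  have h5 := card_isConj_mul_card_centralizer c
  have h6 := (commutator C).card_mul_index
  rw [← h4] at h5
  have h7 : Nat.card {x : C // IsConj x c} = Nat.card (commutator C) := by
    have h8 : 0 < (commutator C).index := Nat.pos_of_ne_zero Subgroup.index_ne_zero_of_finite
    exact Nat.eq_of_mul_eq_mul_right h8 (h5.trans h6.symm)
  have hmem : ∀ x : {x : C // IsConj x c}, c⁻¹ * (x : C) ∈ commutator C := by
    rintro ⟨x, hx⟩
    obtain ⟨b, hb⟩ := isConj_iff.mp (IsConj.symm hx)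
    have : c⁻¹ * x = c⁻¹ * (b * c * b⁻¹) * (c⁻¹ * c) := by rw [hb]; group
    change c⁻¹ * x ∈ _
    rw [this]
    have h9 : c⁻¹ * (b * c * b⁻¹) * (c⁻¹ * c) = c⁻¹ * b * c⁻¹⁻¹ * b⁻¹ := by group
    rw [h9]
    exact Subgroup.commutator_mem_commutator (Subgroup.mem_top _) (Subgroup.mem_top _)
  let φ : {x : C // IsConj x c} → commutator C := fun x => ⟨_, hmem x⟩
  have hφinj : Function.Injective φ := by
    intro a b hab
    have h8 : c⁻¹ * (a : C) = c⁻¹ * (b : C) := congrArg Subtype.val hab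
    exact Subtype.ext (mul_left_cancel h8)
  have hφbij : Function.Bijective φ :=
    (Nat.bijective_iff_injective_and_card φ).mpr ⟨hφinj, h7⟩
  obtain ⟨x, hx⟩ := hφbij.2 ⟨e, he⟩
  have h8 : c⁻¹ * (x : C) = e := congrArg Subtype.val hx
  obtain ⟨b, hb⟩ := isConj_iff.mp (IsConj.symm x.2)
  refine ⟨b, ?_⟩
  rw [hb, ← h8]
  group

/-- (T6) -/
theorem St.cam [Finite G] (s : St H Y) : ∀ c ∈ H, c ∉ Y → ∀ e ∈ (⁅H, H⁆ : Subgroup G),
    ∃ b ∈ H, b * c * b⁻¹ = c * e := by
  classical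
  intro c hc hcY e he
  letI : Fintype G := Fintype.ofFinite _
  letI : Fintype H := Fintype.ofFinite _
  have he' : (⟨e, (Subgroup.commutator_le_self H) he⟩ : H) ∈ commutator H :=
    (mem_comm_iff (C := H) ⟨e, (Subgroup.commutator_le_self H) he⟩).mp he
  obtain ⟨b, hb⟩ := class_eq_of_vanish (C := H) (⟨c, hc⟩ : H)
    (fun ξ hξ => St.vanish_off s ξ.2 hξ ⟨c, hc⟩ hcY) he'
  exact ⟨b, b.2, congrArg Subtype.val hb⟩

/-- (T7) -/
theorem St.deg_p [Fintype G] [Fintype H] (s : St H Y) {p : ℕ} (hp : p.Prime) (hpA : p ∣ Y.relIndex H)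
    {ξ : H → ℂ} (hξ : IsIrrCharacter H ξ) (hξ1 : ξ 1 ≠ 1) : p ∣ charDegree ξ := by
  classical
  haveI hYn : (Y.subgroupOf H).Normal := s.nY.subgroupOf H
  have hab : ∀ a b : H, a * b * a⁻¹ * b⁻¹ ∈ Y.subgroupOf H := fun a b => s.HY a a.2 b b.2
  haveI : Fact p.Prime := ⟨hp⟩
  have := finite_hom (K := H)
  have hcard := card_dualOf hYn hab
  have hpd : p ∣ Nat.card (dualOf (Y.subgroupOf H)) := by
    rw [hcard]
    exact hpA
  obtain ⟨δ, hδ⟩ := exists_prime_orderOf_dvd_card' (G := dualOf (Y.subgroupOf H)) p hpd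
  have hδ1 : (δ : H →* ℂˣ) ^ charDegree ξ = 1 := by
    refine MonoidHom.ext fun k => ?_
    have h1 := pow_deg_eq_one (δ : H →* ℂˣ) (isCharacter_of_isIrrCharacter hξ)
      (St.nl_stable s hξ hξ1 (δ : H →* ℂˣ) (fun z hz => δ.2 z hz)) k
    simpa using h1
  have h2 : δ ^ charDegree ξ = 1 := Subtype.ext (by simpa using hδ1)
  have h3 := orderOf_dvd_of_pow_eq_one h2
  rwa [hδ] at h3

end Cfsg.Agent.Lib.NDF.StChar
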