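import Cfsg.Agent.Lib.NDF.Lemma3
import Cfsg.Agent.Lib.NDF.StChar
import Cfsg.Agent.Lib.NDF.FixCentral
import Cfsg.Agent.Lib.NDF.IDefs
import Cfsg.Agent.Lib.NDF.ChiefE
import Cfsg.Agent.Lib.TI.FrattiniAction
import Cfsg.Agent.Lib.SolvStruct.Fit
import Cfsg.Agent.Lib.NoDiv.Deep1

/-!
# S4780, (IA): the structure of `G` when `E = ⁅H, H⁆` is a nontrivial `p`-group with `p ∣ |H : Y|`
-/

set_option autoImplicit false
set_option linter.unusedSectionVars false
set_option linter.style.haveILetI false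

namespace Cfsg.Agent.Lib.NDF.ExistsI1

open Cfsg Cfsg.Agent.Lib.NoDiv.Defs Cfsg.Agent.Lib.NDF.Defs Cfsg.Agent.Lib.NDF.IDefs
open Cfsg.Agent.Lib.NDF.FixCentral Cfsg.Agent.Lib.Coprime.Action
open scoped commutatorElement

universe u

variable {G : Type u} [Group G] {H Y P Q : Subgroup G} {p : ℕ}

theorem E_normal (s : St H Y) : (⁅H, H⁆ : Subgroup G).Normal := by
  haveI := s.nH
  exact Subgroup.commutator_normal H H

theorem W_le_H (s : St H Y) : commutator G ≤ H := by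
  rw [commutator_def, Subgroup.commutator_le]
  intro a _ b _
  exact s.ab a b

theorem E_le_W (_s : St H Y) : (⁅H, H⁆ : Subgroup G) ≤ commutator G := by
  rw [commutator_def]
  exact Subgroup.commutator_mono le_top le_top

theorem E_le_Y (s : St H Y) : (⁅H, H⁆ : Subgroup G) ≤ Y :=
  Subgroup.commutator_le.mpr fun a ha b hb => s.HY a ha b hb

theorem mem_of_pow_mem {N : Subgroup G} {x : G} {n : ℕ} (h : n.Coprime (orderOf x)) (hx : x ^ n ∈ N) :
    x ∈ N := by
  obtain ⟨m, hm⟩ := exists_pow_eq_self_of_coprime h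
  rw [← hm]
  exact N.pow_mem hx m

theorem coprime_orderOf (hp : p.Prime) {x : G} {k : ℕ} (h : x ^ (p ^ k) = 1) {n : ℕ} (hn : ¬ p ∣ n) :
    n.Coprime (orderOf x) := by
  have h1 : n.Coprime (p ^ k) :=
    Nat.Coprime.pow_right k ((Nat.Prime.coprime_iff_not_dvd hp).2 hn).symm
  exact Nat.Coprime.coprime_dvd_right (orderOf_dvd_of_pow_eq_one h) h1

theorem pow_of_mem {R : Subgroup G} (hR : IsPGroup p R) {x : G} (hx : x ∈ R) :
    ∃ k : ℕ, x ^ (p ^ k) = 1 := by
  obtain ⟨k, hk⟩ := hR ⟨x, hx⟩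
  exact ⟨k, by simpa using congrArg Subtype.val hk⟩

theorem chief_p [Finite G] [Group.IsSolvable G] (hp : p.Prime) {E M : Subgroup G}
    (hEp : IsPGroup p E) (hc : Chief M E) : ∀ e ∈ E, e ^ p ∈ M := by
  obtain ⟨r, hr, hre⟩ := Cfsg.Agent.Lib.NDF.ChiefE.chief_elem hc
  have hrp : r = p := by
    by_contra hne
    apply hc.ne
    refine le_antisymm hc.le fun e he => ?_
    obtain ⟨k, hk⟩ := pow_of_mem hEp he
    refine mem_of_pow_mem (n := r) (coprime_orderOf hp hk ?_) (hre e he)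
    intro hd
    exact hne ((Nat.prime_dvd_prime_iff_eq hp hr).1 hd).symm
  rw [← hrp]
  exact hre

/-- A chief factor inside a normal `p`-subgroup is central in it. -/
theorem chief_central [Finite G] (hp : p.Prime) {M T : Subgroup G} (hP : P.Normal) (hPp : IsPGroup p P)
    (hc : Chief M T) (hTP : T ≤ P) : ∀ u ∈ P, ∀ t ∈ T, u * t * u⁻¹ * t⁻¹ ∈ M := by
  classical
  haveI : Fact p.Prime := ⟨hp⟩
  haveI := hc.nK
  haveI := hc.nL
  haveI := hP
  let π := QuotientGroup.mk' M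
  have hmem : ∀ t, π t = 1 ↔ t ∈ M := fun t => by simp [π]
  let F : Subgroup (G ⧸ M) := P.map π
  have hFp : IsPGroup p F := hPp.map π
  haveI : Group.IsNilpotent F := hFp.isNilpotent
  let N : Subgroup F := (T.map π).subgroupOf F
  have hTn' : (T.map π).Normal := Subgroup.Normal.map hc.nL π (QuotientGroup.mk'_surjective M)
  haveI hNn : N.Normal := hTn'.subgroupOf F
  obtain ⟨t₀, ht₀, ht₀M⟩ : ∃ t ∈ T, t ∉ M := by
    by_contra hcon
    push Not at hcon
    exact hc.ne (le_antisymm hc.le hcon)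
  have hN1 : N ≠ ⊥ := by
    intro h
    have h1 : (⟨π t₀, ⟨t₀, hTP ht₀, rfl⟩⟩ : F) ∈ N := by
      rw [Subgroup.mem_subgroupOf]
      exact ⟨t₀, ht₀, rfl⟩
    rw [h, Subgroup.mem_bot] at h1
    exact ht₀M ((hmem _).1 (congrArg Subtype.val h1))
  have hZ := Cfsg.Agent.Lib.SolvStruct.Fit.inf_center_ne_bot N hN1
  obtain ⟨⟨x, hx⟩, hx1⟩ := (Subgroup.ne_bot_iff_exists_ne_one).mp hZ
  obtain ⟨hxN, hxZ⟩ := Subgroup.mem_inf.mp hx
  rw [Subgroup.mem_subgroupOf] at hxN
  obtain ⟨t, ht, htx⟩ := hxN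
  have htM : t ∉ M := by
    intro h
    apply hx1
    apply Subtype.ext
    apply Subtype.ext
    change (x : G ⧸ M) = 1
    rw [← htx]
    exact (hmem t).2 h
  -- the relative centre
  let C : Subgroup G := relCen hc.nK T P
  have hCn : C.Normal := by
    refine ⟨fun c hc' g => ?_⟩
    obtain ⟨hc1, hc2⟩ := (mem_relCen hc.nK T P c).1 hc'
    refine (mem_relCen hc.nK T P _).2 ⟨hc.nL.conj_mem c hc1 g, fun u hu => ?_⟩
    have h1 := hc.nK.conj_mem _ (hc2 _ (hP.conj_mem u hu g⁻¹)) g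
    have e : g * (c * (g⁻¹ * u * g⁻¹⁻¹) * c⁻¹ * (g⁻¹ * u * g⁻¹⁻¹)⁻¹) * g⁻¹ =
        g * c * g⁻¹ * u * (g * c * g⁻¹)⁻¹ * u⁻¹ := by group
    rwa [e] at h1
  have hMC : M ≤ C := by
    intro k hk
    refine (mem_relCen hc.nK T P _).2 ⟨hc.le hk, fun u _ => ?_⟩
    have h1 := hc.nK.conj_mem _ (M.inv_mem hk) u
    have e : k * u * k⁻¹ * u⁻¹ = k * (u * k⁻¹ * u⁻¹) := by group
    rw [e]
    exact M.mul_mem hk h1
  have htC : t ∈ C := by
    refine (mem_relCen hc.nK T P _).2 ⟨ht, fun u hu => ?_⟩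
    apply (comm_mem_iff t u).1
    have h1 := Subgroup.mem_center_iff.mp hxZ ⟨π u, ⟨u, hu, rfl⟩⟩
    have h2 : π u * x.1 = x.1 * π u := congrArg Subtype.val h1
    rw [← htx] at h2
    exact h2.symm
  rcases hc.min C hCn hMC (fun c hc' => ((mem_relCen hc.nK T P c).1 hc').1) with h | h
  · exfalso
    rw [h] at htC
    exact htM htC
  · intro u hu t' ht'
    rw [← h] at ht'
    have h1 := ((mem_relCen hc.nK T P _).1 ht').2 u hu
    have e : u * t' * u⁻¹ * t'⁻¹ = (t' * u * t'⁻¹ * u⁻¹)⁻¹ := by group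
    rw [e]
    exact M.inv_mem h1

/-- The first fields of `I1D`. -/
structure B0 (H : Subgroup G) (p : ℕ) (P Q : Subgroup G) : Prop where
  nP : P.Normal
  Pp : IsPGroup p P
  Qp : ¬ p ∣ Nat.card Q
  PQ : P ⊓ Q = ⊥
  dec : ∀ g : G, ∃ u ∈ P, ∃ q ∈ Q, g = u * q
  Qab : ∀ a ∈ Q, ∀ b ∈ Q, a * b = b * a
  WP : commutator G ≤ P
  PH : P ≤ H

theorem exists_B0 [Finite G] (s : St H Y) (hp : p.Prime) (hpA : p ∣ Y.relIndex H)
    (hWp : IsPGroup p (commutator G)) : ∃ P Q : Subgroup G, B0 H p P Q := by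
  classical
  haveI : Fact p.Prime := ⟨hp⟩
  haveI := s.nH
  obtain ⟨S, hS⟩ := hWp.exists_le_sylow
  have hPn : (S : Subgroup G).Normal := ⟨fun u hu g => by
    have e : g * u * g⁻¹ = (g * u * g⁻¹ * u⁻¹) * u := by group
    rw [e]
    exact Subgroup.mul_mem _ (hS (Subgroup.commutator_mem_commutator (Subgroup.mem_top g)
      (Subgroup.mem_top u))) hu⟩
  have hcop : Nat.Coprime (Nat.card (S : Subgroup G)) (S : Subgroup G).index := S.card_coprime_index
  obtain ⟨Q, hQ⟩ := Subgroup.exists_right_complement'_of_coprime hcop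
  have hPQ : (S : Subgroup G) ⊓ Q = ⊥ := hQ.disjoint.eq_bot
  refine ⟨S, Q, hPn, S.isPGroup', ?_, hPQ, ?_, ?_, hS, ?_⟩
  · rw [← hQ.symm.index_eq_card]
    exact S.not_dvd_index
  · intro g
    obtain ⟨⟨a, b⟩, hab⟩ := hQ.2 g
    exact ⟨a, a.2, b, b.2, hab.symm⟩
  · intro a ha b hb
    have h1 : a * b * a⁻¹ * b⁻¹ ∈ (S : Subgroup G) ⊓ Q := by
      refine Subgroup.mem_inf.mpr ⟨hS (Subgroup.commutator_mem_commutator (Subgroup.mem_top a)
        (Subgroup.mem_top b)), Q.mul_mem (Q.mul_mem (Q.mul_mem ha hb) (Q.inv_mem ha)) (Q.inv_mem hb)⟩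
    rw [hPQ, Subgroup.mem_bot] at h1
    calc a * b = (a * b * a⁻¹ * b⁻¹) * (b * a) := by group
      _ = b * a := by rw [h1, one_mul]
  · intro u hu
    obtain ⟨k, hk⟩ := pow_of_mem S.isPGroup' hu
    have hnd : ¬ p ∣ H.index := by
      intro hd
      have h1 := Nat.dvd_gcd hd hpA
      rw [s.cop] at h1
      exact hp.one_lt.ne' (Nat.dvd_one.mp h1)
    exact mem_of_pow_mem (coprime_orderOf hp hk hnd) (Subgroup.pow_index_mem H u)

/-- `Q ∩ H` centralises `P`. -/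
theorem QH_aux [Finite G] [Group.IsSolvable G] (s : St H Y) (hp : p.Prime)
    (hpA : p ∣ Y.relIndex H) (hEp : IsPGroup p (⁅H, H⁆ : Subgroup G)) (b : B0 H p P Q)
    {x : G} (hxQ : x ∈ Q) (hxH : x ∈ H) : ∀ u ∈ P, x * u = u * x := by
  classical
  haveI : Fact p.Prime := ⟨hp⟩
  haveI := b.nP
  haveI := s.nH
  haveI hEn := E_normal s
  set E : Subgroup G := ⁅H, H⁆ with hE
  set D : Subgroup G := ⁅P, P⁆ with hD
  haveI hDn : D.Normal := Subgroup.commutator_normal P P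
  let π := QuotientGroup.mk' D
  have hmem : ∀ t, π t = 1 ↔ t ∈ D := fun t => by simp [π]
  have hcomP : ∀ a ∈ P, ∀ c ∈ P, π a * π c = π c * π a := fun a ha c hc =>
    (comm_mem_iff a c).2 (Subgroup.commutator_mem_commutator ha hc)
  have hEP : E ≤ P := (E_le_W s).trans b.WP
  have hxo : ¬ p ∣ orderOf x := fun hd =>
    b.Qp (hd.trans (Subgroup.orderOf_dvd_natCard Q hxQ))
  let C : Subgroup G := (Subgroup.centralizer {π x}).comap π ⊓ E
  have hmC : ∀ e, e ∈ C ↔ e ∈ E ∧ π x * π e = π e * π x := by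
    intro t
    simp only [C, Subgroup.mem_inf, Subgroup.mem_comap, Subgroup.mem_centralizer_iff,
      Set.mem_singleton_iff, forall_eq]
    exact and_comm
  have hCn : C.Normal := by
    refine ⟨fun e he g => ?_⟩
    obtain ⟨he1, he2⟩ := (hmC e).1 he
    refine (hmC _).2 ⟨hEn.conj_mem e he1 g, ?_⟩
    obtain ⟨u, hu, q, hq, rfl⟩ := b.dec g
    have hqe : q * e * q⁻¹ ∈ P := hEP (hEn.conj_mem e he1 q)
    have h1 : π (u * q * e * (u * q)⁻¹) = π (q * e * q⁻¹) := by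
      have e1 : u * q * e * (u * q)⁻¹ = u * (q * e * q⁻¹) * u⁻¹ := by group
      rw [e1, map_mul, map_mul, map_inv, hcomP u hu _ hqe]
      group
    rw [h1]
    have hxq : π x * π q = π q * π x := by rw [← map_mul, ← map_mul, b.Qab x hxQ q hq]
    simp only [map_mul, map_inv]
    have c1 : Commute (π x) (π q) := hxq
    have c2 : Commute (π x) (π e) := he2
    exact (c1.mul_right c2).mul_right c1.inv_right
  have hCE : C = E := by
    by_contra hne
    obtain ⟨K, hCK, hcK⟩ := Cfsg.Agent.Lib.NoDiv.Deep1.exists_chief hCn hEn inf_le_right hne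
    have hKp := chief_p hp hEp hcK
    obtain ⟨h3a, -, -, -⟩ := Cfsg.Agent.Lib.NDF.Lemma3.lemma3 s hcK hp hKp hpA
    obtain ⟨e, he, heK⟩ : ∃ e ∈ E, e ∉ K := by
      by_contra hcon
      push Not at hcon
      exact hcK.ne (le_antisymm hcK.le hcon)
    let A : Subgroup G := Subgroup.zpowers x
    have hAH : A ≤ H := (Subgroup.zpowers_le).mpr hxH
    have hAE : A ≤ Subgroup.normalizer (E : Set G) := by
      rw [Subgroup.normalizer_eq_top_iff.mpr hEn]
      exact le_top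
    have hAK : A ≤ Subgroup.normalizer (K : Set G) := by
      rw [Subgroup.normalizer_eq_top_iff.mpr hcK.nK]
      exact le_top
    have hEK : E ≤ Subgroup.normalizer (K : Set G) := by
      rw [Subgroup.normalizer_eq_top_iff.mpr hcK.nK]
      exact le_top
    have hcop : (Nat.card A).Coprime (Nat.card E) := by
      rw [Nat.card_zpowers]
      obtain ⟨k, hk⟩ := (IsPGroup.iff_card (p := p) (G := E)).mp hEp
      rw [hk]
      exact Nat.Coprime.pow_right _ ((Nat.Prime.coprime_iff_not_dvd hp).2 hxo).symm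
    obtain ⟨c, hc, hck⟩ := exists_fixed_of_fixed_mod K hAE hcop (Or.inl inferInstance) hcK.le hEK hAK
      he (fun a ha => h3a a (hAH ha) e he)
    obtain ⟨hcE, hcc⟩ := Subgroup.mem_inf.1 hc
    have hcx : x * c = c * x := Subgroup.mem_centralizer_iff.1 hcc x (Subgroup.mem_zpowers x)
    have hcC : c ∈ C := (hmC c).2 ⟨hcE, by rw [← map_mul, ← map_mul, hcx]⟩
    have hcK2 : c ∈ K := hCK hcC
    apply heK
    have e1 : e = c * (e⁻¹ * c)⁻¹ := by group
    rw [e1]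
    exact K.mul_mem hcK2 (K.inv_mem hck)
  have hxE : ∀ e ∈ E, Commute (π x) (π e) := by
    intro e he
    rw [← hCE] at he
    exact ((hmC e).1 he).2
  have htriv : ∀ u ∈ P, x * u * x⁻¹ * u⁻¹ ∈ D := by
    intro u hu
    set a := x * u * x⁻¹ * u⁻¹ with ha
    have haE : a ∈ E := Subgroup.commutator_mem_commutator hxH (b.PH hu)
    have h0 : π x * π u * (π x)⁻¹ = π a * π u := by
      rw [ha]
      simp only [map_mul, map_inv]
      group
    have hind : ∀ k : ℕ, (π x) ^ k * π u * ((π x) ^ k)⁻¹ = (π a) ^ k * π u := by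
      intro k
      induction k with
      | zero => simp
      | succ k ih =>
        have hxak : Commute (π x) ((π a) ^ k) := (hxE a haE).pow_right k
        calc (π x) ^ (k + 1) * π u * ((π x) ^ (k + 1))⁻¹
            = π x * ((π x) ^ k * π u * ((π x) ^ k)⁻¹) * (π x)⁻¹ := by
              rw [pow_succ']
              group
          _ = π x * ((π a) ^ k * π u) * (π x)⁻¹ := by rw [ih]
          _ = (π a) ^ k * (π x * π u * (π x)⁻¹) := by
              rw [← mul_assoc (π x), hxak.eq]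
              group
          _ = (π a) ^ k * (π a * π u) := by rw [h0]
          _ = (π a) ^ (k + 1) * π u := by
              rw [pow_succ]
              group
    have h1 := hind (orderOf x)
    have hx1 : (π x) ^ (orderOf x) = 1 := by rw [← map_pow, pow_orderOf_eq_one, map_one]
    rw [hx1] at h1
    have h2 : (π a) ^ (orderOf x) = 1 := by
      have h3 : π u = (π a) ^ (orderOf x) * π u := by simpa using h1
      exact (mul_eq_right.mp h3.symm)
    have h3 : a ^ (orderOf x) ∈ D := (hmem _).1 (by rw [map_pow, h2])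
    obtain ⟨k, hk⟩ := pow_of_mem b.Pp (hEP haE)
    exact mem_of_pow_mem (coprime_orderOf hp hk hxo) h3
  have hfr : D ≤ (frattini P).map P.subtype := by
    have h1 : commutator P ≤ frattini P :=
      Cfsg.Agent.Lib.PGroups.Basic.commutator_le_frattini b.Pp
    have h2 : D = (commutator P).map P.subtype := by
      rw [Subgroup.map_subtype_commutator]
    rw [h2]
    exact Subgroup.map_mono h1
  exact Cfsg.Agent.Lib.TI.FrattiniAction.centralizes_of_coprime P D b.Pp hfr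
    (Cfsg.Agent.Lib.TI.FrattiniAction.mem_trivOn.2 htriv)
    ((Nat.Prime.coprime_iff_not_dvd hp).2 hxo).symm

/-- `⁅P, P⁆ = E`. -/
theorem PP_aux (b : B0 H p P Q) (hQH : ∀ x ∈ Q, x ∈ H → ∀ u ∈ P, x * u = u * x) :
    ⁅P, P⁆ = (⁅H, H⁆ : Subgroup G) := by
  refine le_antisymm (Subgroup.commutator_mono b.PH b.PH) ?_
  rw [Subgroup.commutator_le]
  intro a ha c hc
  obtain ⟨u, hu, q, hq, rfl⟩ := b.dec a
  obtain ⟨u', hu', q', hq', rfl⟩ := b.dec c
  have hqH : q ∈ H := by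
    have e : q = u⁻¹ * (u * q) := by group
    rw [e]
    exact H.mul_mem (H.inv_mem (b.PH hu)) ha
  have hq'H : q' ∈ H := by
    have e : q' = u'⁻¹ * (u' * q') := by group
    rw [e]
    exact H.mul_mem (H.inv_mem (b.PH hu')) hc
  have h1 : (u * q) * (u' * q') = u * u' * (q * q') := by
    calc (u * q) * (u' * q') = u * (q * u') * q' := by group
      _ = u * (u' * q) * q' := by rw [hQH q hq hqH u' hu']
      _ = _ := by group
  have h2 : (u' * q') * (u * q) = u' * u * (q * q') := by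
    calc (u' * q') * (u * q) = u' * (q' * u) * q := by group
      _ = u' * (u * q') * q := by rw [hQH q' hq' hq'H u hu]
      _ = u' * u * (q' * q) := by group
      _ = _ := by rw [b.Qab q' hq' q hq]
  have h3 : ⁅u * q, u' * q'⁆ = ⁅u, u'⁆ := by
    rw [commutatorElement_def, commutatorElement_def]
    calc u * q * (u' * q') * (u * q)⁻¹ * (u' * q')⁻¹
        = ((u * q) * (u' * q')) * ((u' * q') * (u * q))⁻¹ := by group
      _ = _ := by rw [h1, h2]; group
  rw [h3]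
  exact Subgroup.commutator_mem_commutator hu hu'

/-- The subgroup `C₁`. -/
def C1 (P Q : Subgroup G) : Subgroup G := P ⊓ Subgroup.centralizer (Q : Set G)

theorem mem_C1 {P Q : Subgroup G} {z : G} : z ∈ C1 P Q ↔ z ∈ P ∧ ∀ q ∈ Q, q * z = z * q := by
  simp only [C1, Subgroup.mem_inf, Subgroup.mem_centralizer_iff, SetLike.mem_coe]

/-- `P = W C₁`. -/
theorem PWC_aux [Finite G] [Group.IsSolvable G] (s : St H Y) (hp : p.Prime) (b : B0 H p P Q) :
    ∀ u ∈ P, ∃ d ∈ commutator G, ∃ z ∈ C1 P Q, u = d * z := by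
  classical
  haveI : Fact p.Prime := ⟨hp⟩
  haveI := b.nP
  haveI hEn := E_normal s
  have hEP : (⁅H, H⁆ : Subgroup G) ≤ P := (E_le_W s).trans b.WP
  intro u hu
  obtain ⟨d, hd, hy⟩ := s.GY u (b.PH hu)
  have hyP : d⁻¹ * u ∈ P := P.mul_mem (P.inv_mem (b.WP hd)) hu
  set y := d⁻¹ * u with hyy
  have hAK : Q ≤ Subgroup.normalizer (P : Set G) := by
    rw [Subgroup.normalizer_eq_top_iff.mpr b.nP]
    exact le_top
  have hAN : Q ≤ Subgroup.normalizer ((⁅H, H⁆ : Subgroup G) : Set G) := by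
    rw [Subgroup.normalizer_eq_top_iff.mpr hEn]
    exact le_top
  have hcop : (Nat.card Q).Coprime (Nat.card P) := by
    obtain ⟨k, hk⟩ := (IsPGroup.iff_card (p := p) (G := P)).mp b.Pp
    rw [hk]
    exact Nat.Coprime.pow_right _ ((Nat.Prime.coprime_iff_not_dvd hp).2 b.Qp).symm
  obtain ⟨n, hn, hz⟩ := exists_fixed_in_coset (⁅H, H⁆ : Subgroup G) hAK hcop (Or.inl inferInstance)
    hEP hAN hyP (fun a _ => by
      have h1 := s.Yz y⁻¹ (Y.inv_mem hy) a
      have h2 := Subgroup.inv_mem _ h1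
      have e : (a * y⁻¹ * a⁻¹ * y⁻¹⁻¹)⁻¹ = y⁻¹ * a * y * a⁻¹ := by group
      rwa [e] at h2)
  set z := y * n with hzz
  have hzC : z ∈ C1 P Q := hz
  have hz' : z ∈ P := (Subgroup.mem_inf.1 hz).1
  refine ⟨d * (z * n⁻¹ * z⁻¹), (commutator G).mul_mem hd
    (E_le_W s (hEn.conj_mem _ (Subgroup.inv_mem _ hn) z)), z, hzC, ?_⟩
  have e1 : u = d * y := by rw [hyy]; group
  rw [e1, hzz]
  group

/-- Elements commuting with `a`, `b` and each other do not change `[a, b]`. -/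
theorem comm_mul_central {Γ : Type*} [Group Γ] {a b σ τ : Γ} (hsa : Commute σ a) (hsb : Commute σ b)
    (hta : Commute τ a) (htb : Commute τ b) (hst : Commute σ τ) :
    (σ * a) * (τ * b) * (σ * a)⁻¹ * (τ * b)⁻¹ = a * b * a⁻¹ * b⁻¹ := by
  have h1 : (σ * a) * (τ * b) = (σ * τ) * (a * b) := by
    calc (σ * a) * (τ * b) = σ * (a * τ) * b := by group
      _ = σ * (τ * a) * b := by rw [hta.eq]
      _ = _ := by group
  have h2 : (τ * b) * (σ * a) = (σ * τ) * (b * a) := by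
    calc (τ * b) * (σ * a) = τ * (b * σ) * a := by group
      _ = τ * (σ * b) * a := by rw [hsb.eq]
      _ = (τ * σ) * (b * a) := by group
      _ = _ := by rw [hst.eq]
  have h3 : (σ * a) * (τ * b) * (σ * a)⁻¹ * (τ * b)⁻¹ =
      ((σ * a) * (τ * b)) * ((τ * b) * (σ * a))⁻¹ := by group
  rw [h3, h1, h2]
  have h4 : Commute (σ * τ) (a * b * a⁻¹ * b⁻¹) := by
    have c1 : Commute (σ * τ) a := hsa.mul_left hta
    have c2 : Commute (σ * τ) b := hsb.mul_left htb
    exact ((c1.mul_right c2).mul_right c1.inv_right).mul_right c2.inv_right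
  calc (σ * τ) * (a * b) * ((σ * τ) * (b * a))⁻¹ = (σ * τ) * (a * b * a⁻¹ * b⁻¹) * (σ * τ)⁻¹ := by group
    _ = (a * b * a⁻¹ * b⁻¹) * (σ * τ) * (σ * τ)⁻¹ := by rw [h4.eq]
    _ = _ := by group

/-- `W` centralises `C₁`. -/
theorem WC_aux [Finite G] [Group.IsSolvable G] (s : St H Y) (hp : p.Prime) (b : B0 H p P Q)
    (hQH : ∀ x ∈ Q, x ∈ H → ∀ u ∈ P, x * u = u * x)
    (hPWC : ∀ u ∈ P, ∃ d ∈ commutator G, ∃ z ∈ C1 P Q, u = d * z) :
    ∀ d ∈ commutator G, ∀ z ∈ C1 P Q, d * z = z * d := by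
  classical
  haveI : Fact p.Prime := ⟨hp⟩
  haveI := b.nP
  haveI := s.nH
  haveI hEn := E_normal s
  have hEP : (⁅H, H⁆ : Subgroup G) ≤ P := (E_le_W s).trans b.WP
  set W : Subgroup G := commutator G with hW
  haveI hWn : W.Normal := by rw [hW]; infer_instance
  set C₁ : Subgroup G := C1 P Q with hC₁
  set T : Subgroup G := ⁅W, C₁⁆ with hT
  have hC₁P : C₁ ≤ P := inf_le_left
  have hTE : T ≤ ⁅H, H⁆ := Subgroup.commutator_mono (W_le_H s) (hC₁P.trans b.PH)
  have hTn : T.Normal := by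
    have hQW : Q ≤ Subgroup.normalizer (W : Set G) := by
      rw [Subgroup.normalizer_eq_top_iff.mpr hWn]
      exact le_top
    have hQC : Q ≤ Subgroup.normalizer (C₁ : Set G) := by
      rw [Subgroup.le_normalizer_iff]
      intro q hq z hz
      rw [(mem_C1.1 hz).2 q hq]
      simpa using hz
    have hQT := le_normalizer_commutator_of_le hQW hQC
    have hWT := le_normalizer_commutator_left W C₁
    have hCT := le_normalizer_commutator_right W C₁
    rw [← Subgroup.normalizer_eq_top_iff, eq_top_iff]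
    intro g _
    obtain ⟨u, hu, q, hq, rfl⟩ := b.dec g
    obtain ⟨d, hd, z, hz, rfl⟩ := hPWC u hu
    exact Subgroup.mul_mem _ (Subgroup.mul_mem _ (hWT hd) (hCT hz)) (hQT hq)
  suffices hbot : T = ⊥ by
    intro d hd z hz
    have h1 : ⁅d, z⁆ ∈ T := Subgroup.commutator_mem_commutator hd hz
    rw [hbot, Subgroup.mem_bot] at h1
    exact commutatorElement_eq_one_iff_mul_comm.mp h1
  by_contra hT1
  obtain ⟨M, -, hc⟩ := Cfsg.Agent.Lib.NoDiv.Deep1.exists_chief
    (inferInstance : (⊥ : Subgroup G).Normal) hTn bot_le (Ne.symm hT1)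
  haveI hMn := hc.nK
  have hTP : T ≤ P := hTE.trans hEP
  have hcen := chief_central hp b.nP b.Pp hc hTP
  let π := QuotientGroup.mk' M
  have hmem : ∀ t, π t = 1 ↔ t ∈ M := fun t => by simp [π]
  have hcom : ∀ u ∈ P, ∀ t ∈ T, Commute (π u) (π t) := fun u hu t ht =>
    (comm_mem_iff u t).2 (hcen u hu t ht)
  -- `H` is trivial on `T / M`
  have hHT : ∀ h ∈ H, ∀ t ∈ T, h * t * h⁻¹ * t⁻¹ ∈ M := by
    intro h hh t ht
    obtain ⟨u, hu, q, hq, rfl⟩ := b.dec h
    have hqH : q ∈ H := by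
      have e : q = u⁻¹ * (u * q) := by group
      rw [e]
      exact H.mul_mem (H.inv_mem (b.PH hu)) hh
    have h1 : q * t = t * q := hQH q hq hqH t (hTP ht)
    have h2 : u * q * t * (u * q)⁻¹ * t⁻¹ = u * t * u⁻¹ * t⁻¹ := by
      calc u * q * t * (u * q)⁻¹ * t⁻¹ = u * (q * t) * q⁻¹ * u⁻¹ * t⁻¹ := by group
        _ = _ := by rw [h1]; group
    rw [h2]
    exact hcen u hu t ht
  obtain ⟨g, hgH, hgT⟩ := out_triv s hc hTE hHT
  obtain ⟨u₀, hu₀, q, hq, rfl⟩ := b.dec g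
  have hqH : q ∉ H := fun h => hgH (H.mul_mem (b.PH hu₀) h)
  have hqT : ∀ t ∈ T, Commute (π q) (π t) := by
    intro t ht
    have h1 : Commute (π (u₀ * q)) (π t) := (comm_mem_iff _ t).2 (hgT t ht)
    have h2 : π q = (π u₀)⁻¹ * π (u₀ * q) := by
      rw [map_mul]
      group
    rw [h2]
    exact ((hcom u₀ hu₀ t ht).inv_left).mul_left h1
  -- `[q, w]` parametrises `W / E`
  have hsur : ∀ c ∈ W, ∃ w ∈ W, ∃ e ∈ (⁅H, H⁆ : Subgroup G), c = (q * w * q⁻¹ * w⁻¹) * e := by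
    intro c hc'
    let ρ := QuotientGroup.mk' (⁅H, H⁆ : Subgroup G)
    have hρ : ∀ t, ρ t = 1 ↔ t ∈ (⁅H, H⁆ : Subgroup G) := fun t => by simp [ρ]
    have hAn : (W.map ρ).Normal := Subgroup.Normal.map hWn ρ (QuotientGroup.mk'_surjective _)
    have hab : ∀ a ∈ W.map ρ, ∀ a' ∈ W.map ρ, a * a' = a' * a := by
      rintro _ ⟨a, ha, rfl⟩ _ ⟨a', ha', rfl⟩
      apply (comm_mem_iff a a').2
      rw [← s.E2]
      exact Subgroup.commutator_mem_commutator ha ha'
    have hfpf : ∀ a ∈ W.map ρ, ρ q * a = a * ρ q → a = 1 := by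
      rintro _ ⟨w, hw, rfl⟩ h1
      have h2 : q * w * q⁻¹ * w⁻¹ ∈ (⁅H, H⁆ : Subgroup G) := (comm_mem_iff q w).1 h1
      have h3 : w ∈ Y := s.fpf q hqH w (W_le_H s hw) (E_le_Y s h2)
      have h4 : w ∈ commutator G ⊓ Y := ⟨hw, h3⟩
      rw [s.GE] at h4
      exact (hρ w).2 h4
    obtain ⟨_, ⟨w, hw, rfl⟩, hwc⟩ := comm_surj hAn (ρ q) hab hfpf (ρ c) ⟨c, hc', rfl⟩
    refine ⟨w, hw, (q * w * q⁻¹ * w⁻¹)⁻¹ * c, ?_, by group⟩
    apply (hρ _).1
    rw [map_mul, map_inv, ← hwc]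
    simp only [map_mul, map_inv]
    group
  -- each `x ∈ C₁`
  have hmain : ∀ a ∈ W, ∀ x ∈ C₁, a * x * a⁻¹ * x⁻¹ ∈ M := by
    intro a ha x hx
    have hxP : x ∈ P := hC₁P hx
    let S : Subgroup G := (Subgroup.centralizer {π x}).comap π
    have hmS : ∀ y, y ∈ S ↔ Commute (π x) (π y) := by
      intro y
      simp only [S, Subgroup.mem_comap, Subgroup.mem_centralizer_iff, Set.mem_singleton_iff, forall_eq]
      exact ⟨fun h => h, fun h => h⟩
    -- `τ`
    have hτ : ∀ w ∈ W, x * w * x⁻¹ * w⁻¹ ∈ T := by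
      intro w hw
      have h1 : ⁅w, x⁆ ∈ T := Subgroup.commutator_mem_commutator hw hx
      have h2 := T.inv_mem h1
      have e : ⁅w, x⁆⁻¹ = x * w * x⁻¹ * w⁻¹ := by
        rw [commutatorElement_def]
        group
      rwa [e] at h2
    have hconj : ∀ w ∈ W, π x * π w * (π x)⁻¹ = π (x * w * x⁻¹ * w⁻¹) * π w := by
      intro w _
      simp only [map_mul, map_inv]
      group
    -- commutators
    have hcomS : ∀ c ∈ W, ∀ c' ∈ W, c * c' * c⁻¹ * c'⁻¹ ∈ S := by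
      intro c hc' c' hc''
      rw [hmS]
      have ht1 := hτ c hc'
      have ht2 := hτ c' hc''
      have hcP := b.WP hc'
      have hcP' := b.WP hc''
      have h1 := comm_mul_central ((hcom c hcP _ ht1).symm) ((hcom c' hcP' _ ht1).symm)
        ((hcom c hcP _ ht2).symm) ((hcom c' hcP' _ ht2).symm)
        (hcom _ (hTP ht1) _ ht2)
      rw [← hconj c hc', ← hconj c' hc''] at h1
      have h2 : π x * π (c * c' * c⁻¹ * c'⁻¹) * (π x)⁻¹ = π (c * c' * c⁻¹ * c'⁻¹) := by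
        simp only [map_mul, map_inv]
        refine Eq.trans ?_ h1
        group
      exact (mul_inv_eq_iff_eq_mul.mp h2)
    have hES : (⁅H, H⁆ : Subgroup G) ≤ S := by
      rw [← s.E2, Subgroup.commutator_le]
      intro c hc' c' hc''
      exact hcomS c hc' c' hc''
    have hqS : ∀ w ∈ W, q * w * q⁻¹ * w⁻¹ ∈ S := by
      intro w hw
      rw [hmS]
      have hτw := hτ w hw
      set τ := π (x * w * x⁻¹ * w⁻¹) with hτdef
      have hxw : π x * π w * (π x)⁻¹ = τ * π w := hconj w hw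
      have hxq : π x * π q = π q * π x := by
        rw [← map_mul, ← map_mul, (mem_C1.1 hx).2 q hq]
      have hcq : q * w * q⁻¹ * w⁻¹ ∈ P := by
        have hq' : q * w * q⁻¹ * w⁻¹ ∈ W := Subgroup.commutator_mem_commutator (Subgroup.mem_top q)
          (Subgroup.mem_top w)
        exact b.WP hq'
      have hqτ : π q * τ = τ * π q := hqT _ hτw
      have hcτ : τ * π (q * w * q⁻¹ * w⁻¹) = π (q * w * q⁻¹ * w⁻¹) * τ :=
        ((hcom _ hcq _ hτw).symm).eq
      have h2 : π x * π (q * w * q⁻¹ * w⁻¹) * (π x)⁻¹ = π (q * w * q⁻¹ * w⁻¹) := by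
        have h3 : π x * π (q * w * q⁻¹ * w⁻¹) * (π x)⁻¹ =
            (π x * π q * (π x)⁻¹) * (π x * π w * (π x)⁻¹) * (π x * π q * (π x)⁻¹)⁻¹ *
              (π x * π w * (π x)⁻¹)⁻¹ := by
          simp only [map_mul, map_inv]
          group
        have h4 : π x * π q * (π x)⁻¹ = π q := by rw [hxq]; group
        rw [h3, h4, hxw]
        calc π q * (τ * π w) * (π q)⁻¹ * (τ * π w)⁻¹
            = (π q * τ) * π w * (π q)⁻¹ * (π w)⁻¹ * τ⁻¹ := by group
          _ = τ * (π q * π w * (π q)⁻¹ * (π w)⁻¹) * τ⁻¹ := by rw [hqτ]; group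
          _ = τ * π (q * w * q⁻¹ * w⁻¹) * τ⁻¹ := by simp only [map_mul, map_inv]
          _ = π (q * w * q⁻¹ * w⁻¹) * τ * τ⁻¹ := by rw [hcτ]
          _ = _ := by group
      exact (mul_inv_eq_iff_eq_mul.mp h2)
    -- all of `W`
    obtain ⟨w, hw, e, he, hae⟩ := hsur a ha
    have haS : a ∈ S := by
      rw [hae]
      exact S.mul_mem (hqS w hw) (hES he)
    have h5 := (hmS a).1 haS
    exact (comm_mem_iff a x).1 h5.symm.eq
  apply hc.ne
  refine le_antisymm hc.le ?_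
  rw [hT, Subgroup.commutator_le]
  intro a ha x hx
  exact hmain a ha x hx

/-- (IA) The structure. -/
theorem exists_I1 [Finite G] [Group.IsSolvable G] (s : St H Y) (hp : p.Prime)
    (hpA : p ∣ Y.relIndex H) (hEp : IsPGroup p (⁅H, H⁆ : Subgroup G))
    (hE1 : (⁅H, H⁆ : Subgroup G) ≠ ⊥) : ∃ P Q C₁ : Subgroup G, I1D H p P Q C₁ := by
  classical
  haveI : Fact p.Prime := ⟨hp⟩
  haveI := s.nH
  haveI hEn := E_normal s
  -- a top chief factor
  obtain ⟨M, -, hcM⟩ := Cfsg.Agent.Lib.NoDiv.Deep1.exists_chief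
    (inferInstance : (⊥ : Subgroup G).Normal) hEn bot_le (Ne.symm hE1)
  obtain ⟨-, hel, -, -⟩ := Cfsg.Agent.Lib.NDF.Lemma3.lemma3 s hcM hp (chief_p hp hEp hcM) hpA
  -- `W` is a `p`-group
  have hWp : IsPGroup p (commutator G) := by
    rintro ⟨w, hw⟩
    have h1 : w ^ p ∈ (⁅H, H⁆ : Subgroup G) := by
      rw [← s.GE]
      exact ⟨(commutator G).pow_mem hw p, hel w (W_le_H s hw)⟩
    obtain ⟨k, hk⟩ := pow_of_mem hEp h1
    refine ⟨k + 1, Subtype.ext ?_⟩
    simp only [SubmonoidClass.coe_pow, OneMemClass.coe_one]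
    rw [pow_succ', pow_mul]
    exact hk
  obtain ⟨P, Q, b⟩ := exists_B0 s hp hpA hWp
  have hQH : ∀ x ∈ Q, x ∈ H → ∀ u ∈ P, x * u = u * x := fun x hx hxH =>
    QH_aux s hp hpA hEp b hx hxH
  have hPWC := PWC_aux s hp b
  have hWC := WC_aux s hp b hQH hPWC
  have hPP := PP_aux b hQH
  -- `q ∉ H`
  obtain ⟨q₀, hq₀, hq₀H⟩ : ∃ q ∈ Q, q ∉ H := by
    obtain ⟨g, hg⟩ := s.out
    obtain ⟨u, hu, q, hq, rfl⟩ := b.dec g
    exact ⟨q, hq, fun h => hg (H.mul_mem (b.PH hu) h)⟩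
  refine ⟨P, Q, C1 P Q, b.nP, b.Pp, b.Qp, b.PQ, b.dec, b.Qab, b.WP, b.PH, hQH, fun z => mem_C1, ?_,
    hWC, hPWC, hPP, ?_, ?_⟩
  · -- normal
    refine ⟨fun z hz g => ?_⟩
    obtain ⟨hzP, hzQ⟩ := mem_C1.1 hz
    obtain ⟨u, hu, q, hq, rfl⟩ := b.dec g
    obtain ⟨d, hd, z', hz', rfl⟩ := hPWC u hu
    have h1 : q * z * q⁻¹ = z := by rw [hzQ q hq]; group
    have h2 : z' * z * z'⁻¹ ∈ C1 P Q := (C1 P Q).mul_mem ((C1 P Q).mul_mem hz' hz) ((C1 P Q).inv_mem hz')
    have h3 : d * (z' * z * z'⁻¹) * d⁻¹ = z' * z * z'⁻¹ := by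
      rw [hWC d hd _ h2]
      group
    have e : d * z' * q * z * (d * z' * q)⁻¹ = d * (z' * (q * z * q⁻¹) * z'⁻¹) * d⁻¹ := by group
    rw [e, h1, h3]
    exact h2
  · -- Camina in `W`
    intro a ha haE e he
    have haY : a ∉ Y := fun h => haE (by
      have h1 : a ∈ commutator G ⊓ Y := ⟨ha, h⟩
      rwa [s.GE] at h1)
    obtain ⟨c, hc, hce⟩ := Cfsg.Agent.Lib.NDF.StChar.St.cam s a (W_le_H s ha) haY e he
    obtain ⟨u, hu, x, hx, rfl⟩ := b.dec c
    have hxH : x ∈ H := by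
      have e1 : x = u⁻¹ * (u * x) := by group
      rw [e1]
      exact H.mul_mem (H.inv_mem (b.PH hu)) hc
    obtain ⟨d, hd, z, hz, rfl⟩ := hPWC u hu
    refine ⟨d, hd, ?_⟩
    have h1 : x * a = a * x := hQH x hx hxH a (b.WP ha)
    have h2 : z * a = a * z := (hWC a ha z hz).symm
    rw [← hce]
    symm
    calc d * z * x * a * (d * z * x)⁻¹ = d * z * (x * a) * x⁻¹ * z⁻¹ * d⁻¹ := by group
      _ = d * (z * a) * z⁻¹ * d⁻¹ := by rw [h1]; group
      _ = d * a * d⁻¹ := by rw [h2]; group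
  · -- `W ∩ C₁ ≤ E`
    intro z hz
    obtain ⟨hzW, hzC⟩ := Subgroup.mem_inf.1 hz
    have h1 : q₀ * z * q₀⁻¹ * z⁻¹ ∈ Y := by
      rw [(mem_C1.1 hzC).2 q₀ hq₀]
      simp [Y.one_mem]
    have h2 : z ∈ Y := s.fpf q₀ hq₀H z (W_le_H s hzW) h1
    have h3 : z ∈ commutator G ⊓ Y := ⟨hzW, h2⟩
    rwa [s.GE] at h3

end Cfsg.Agent.Lib.NDF.ExistsI1
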