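import Cfsg.Agent.Lib.NDF.Gamma3Core
import Cfsg.Agent.Lib.NDF.FixCentral
import Cfsg.Agent.Lib.NDF.StQuot

/-!
# S4780, (IF): type (i), `G` trivial on `E / γ₃`, gives `γ₃ = 1`.
-/

set_option autoImplicit false
set_option linter.unusedSectionVars false

namespace Cfsg.Agent.Lib.NDF.Gamma3Bot

open Cfsg Cfsg.Agent.Lib.NoDiv.Defs Cfsg.Agent.Lib.NDF.Defs Cfsg.Agent.Lib.NDF.IDefs

universe u

variable {G : Type u} [Group G] {H Y P Q C₁ : Subgroup G} {p : ℕ}

/-- The relative version of `fix_central`. -/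
theorem fix_central_rel [Finite G] (s : St H Y) {T M : Subgroup G} (hTn : T.Normal) (hMn : M.Normal)
    (hTE : T ≤ ⁅H, H⁆) (hMT : M ≤ T) (hne : M ≠ T) (hTH : ∀ t ∈ T, ∀ h ∈ H, h * t * h⁻¹ * t⁻¹ ∈ M) :
    ∃ g, g ∉ H ∧ ∃ t ∈ T, t ∉ M ∧ g * t * g⁻¹ * t⁻¹ ∈ M := by
  classical
  haveI := hMn
  let π := QuotientGroup.mk' M
  have hπs : Function.Surjective π := QuotientGroup.mk'_surjective M
  have hπk : ∀ a, π a = 1 ↔ a ∈ M := fun a => QuotientGroup.eq_one_iff a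
  have hq : St (H.map π) (Y.map π) := StQuot.St.quot s (hMT.trans hTE)
  obtain ⟨g', hg', t', ⟨t, ht, rfl⟩, ht1, hcomm⟩ := FixCentral.fix_central hq (T := T.map π)
    (hTn.map π hπs)
    (by
      rw [← Subgroup.map_commutator]
      exact Subgroup.map_mono hTE)
    (by
      intro hb
      apply hne
      apply le_antisymm hMT
      intro t ht
      rw [← hπk]
      have : π t ∈ T.map π := ⟨t, ht, rfl⟩
      rw [hb] at this
      exact this)
    (by
      rintro _ ⟨t, ht, rfl⟩ _ ⟨h, hh, rfl⟩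
      have h1 := (hπk _).2 (hTH t ht h hh)
      simp only [map_mul, map_inv] at h1
      have h2 : π h * π t * (π h)⁻¹ = π t := by
        rw [mul_inv_eq_one] at h1
        exact h1
      exact mul_inv_eq_iff_eq_mul.mp h2)
  obtain ⟨g, rfl⟩ := hπs g'
  refine ⟨g, fun hgH => hg' ⟨g, hgH, rfl⟩, t, ht, fun htM => ht1 ((hπk t).2 htM), ?_⟩
  rw [← hπk]
  simp only [map_mul, map_inv]
  rw [hcomm]
  group

/-- (IF) with the output of the structure step as a hypothesis. -/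
theorem gamma3_of_I1 [Finite G] (s : St H Y) (hp : p.Prime) (I : I1D H p P Q C₁)
    (ht : ∀ g : G, ∀ e ∈ (⁅H, H⁆ : Subgroup G), g * e * g⁻¹ * e⁻¹ ∈ g3 G) : g3 G = ⊥ :=
  Gamma3Core.gamma3_core s hp I
    (fun _ _ hTn hMn hTE hMT hne hTH => fix_central_rel s hTn hMn hTE hMT hne hTH) ht

end Cfsg.Agent.Lib.NDF.Gamma3Bot
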