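import Cfsg.Agent.Lib.NDF.StChar
import Cfsg.Agent.Lib.NDF.ChiefE
import Cfsg.Agent.Lib.NoDiv.XLemma
import Cfsg.Agent.Lib.NoDiv.Q78
import Cfsg.Agent.Lib.OddChar.CentralBound
import Cfsg.Agent.Lib.Blk89.ItoMichler

/-!
# S4780, L1: a chief factor `E / M` with `p ∣ |H : Y|`, `E / M` a `p`-group
-/

set_option autoImplicit false
set_option linter.unusedSectionVars false
set_option linter.style.haveILetI false
set_option linter.unusedSimpArgs false

namespace Cfsg.Agent.Lib.NDF.Lemma3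

open Cfsg Cfsg.Agent.Lib.NoDiv.Defs Cfsg.Agent.Lib.NDF.Defs
open Cfsg.Agent.Lib.NDF.ChiefE
open Cfsg.Agent.Lib.Char.Basic Cfsg.Agent.Lib.Char.Conj Cfsg.Agent.Lib.Char.Linear

universe u

variable {G : Type u} [Group G] {H Y M : Subgroup G} {p : ℕ}

theorem mk1 {K : Subgroup G} [K.Normal] {x : G} (h : x ∈ K) : QuotientGroup.mk' K x = 1 :=
  (QuotientGroup.eq_one_iff x).2 h

theorem of1 {K : Subgroup G} [K.Normal] {x : G} (h : QuotientGroup.mk' K x = 1) : x ∈ K :=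
  (QuotientGroup.eq_one_iff x).1 h

/-- Four elements: commutators are not changed by central factors. -/
theorem comm_central {X : Type*} [Group X] {y c r u : X} (h1 : Commute r c) (h2 : Commute u r)
    (h3 : Commute u y) :
    (y * r) * (c * u) * (y * r)⁻¹ * (c * u)⁻¹ = y * c * y⁻¹ * c⁻¹ := by
  have h4 : r * c = c * r := h1
  have h5 : u * r⁻¹ = r⁻¹ * u := (h2.inv_right : Commute u r⁻¹)
  have h6 : u * y⁻¹ = y⁻¹ * u := (h3.inv_right : Commute u y⁻¹)
  calc (y * r) * (c * u) * (y * r)⁻¹ * (c * u)⁻¹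
      = y * (r * c) * (u * r⁻¹) * y⁻¹ * u⁻¹ * c⁻¹ := by group
    _ = y * (c * r) * (r⁻¹ * u) * y⁻¹ * u⁻¹ * c⁻¹ := by rw [h4, h5]
    _ = y * c * (u * y⁻¹) * u⁻¹ * c⁻¹ := by group
    _ = y * c * (y⁻¹ * u) * u⁻¹ * c⁻¹ := by rw [h6]
    _ = y * c * y⁻¹ * c⁻¹ := by group

/-- The relative centraliser of normal subgroups is normal. -/
theorem relCen_normal {K A B : Subgroup G} (hK : K.Normal) (hA : A.Normal) (hB : B.Normal) :
    (relCen hK A B).Normal := by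
  refine ⟨fun n hn g => ?_⟩
  obtain ⟨h1, h2⟩ := hn
  refine ⟨hA.conj_mem n h1 g, fun b hb => ?_⟩
  have h3 := hK.conj_mem _ (h2 (g⁻¹ * b * g) (by
    have := hB.conj_mem b hb g⁻¹
    simpa using this)) g
  convert h3 using 1
  group

section Main

variable [Finite G]

/-- Fixed point of a `p`-torsion normal subgroup on a chief factor. -/
theorem fixed_point (hc : Chief M (⁅H, H⁆ : Subgroup G)) (hp : p.Prime)
    (hpe : ∀ e ∈ (⁅H, H⁆ : Subgroup G), e ^ p ∈ M) {S T : Subgroup G}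
    (hSp : ∀ s ∈ S, ∃ k : ℕ, s ^ (p ^ k) ∈ T)
    (hT : ∀ t ∈ T, ∀ e ∈ (⁅H, H⁆ : Subgroup G), t * e * t⁻¹ * e⁻¹ ∈ M) :
    ∃ e ∈ (⁅H, H⁆ : Subgroup G), e ∉ M ∧ ∀ s ∈ S, s * e * s⁻¹ * e⁻¹ ∈ M := by
  classical
  haveI : Fact p.Prime := ⟨hp⟩
  haveI hMn := hc.nK
  haveI hEn := hc.nL
  set E : Subgroup G := ⁅H, H⁆ with hE
  let π := QuotientGroup.mk' M
  let Eb : Subgroup (G ⧸ M) := E.map π
  haveI hEb : Eb.Normal := hEn.map _ (QuotientGroup.mk'_surjective M)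
  let ρ : S →* MulAut Eb := (MulAut.conjNormal (H := Eb)).comp (π.comp S.subtype)
  let R : Subgroup (MulAut Eb) := ρ.range
  have hρ : ∀ (s : S) (x : Eb), ((ρ s • x : Eb) : G ⧸ M) = π s * x * (π s)⁻¹ := by
    intro s x
    rfl
  have hRp : IsPGroup p R := by
    rintro ⟨_, s, rfl⟩
    obtain ⟨k, hk⟩ := hSp s s.2
    refine ⟨k, Subtype.ext ?_⟩
    change (ρ s) ^ (p ^ k) = 1
    rw [← map_pow]
    ext ⟨x, e, he, rfl⟩
    change π ((s : G) ^ (p ^ k)) * π e * (π ((s : G) ^ (p ^ k)))⁻¹ = π e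
    have h1 := mk1 (K := M) (hT _ hk e he)
    rw [map_mul, map_mul, map_mul, map_inv, map_inv] at h1
    exact mul_inv_eq_one.1 h1
  have hEbp : IsPGroup p Eb := by
    rintro ⟨_, e, he, rfl⟩
    refine ⟨1, Subtype.ext ?_⟩
    change (π e) ^ (p ^ 1) = 1
    rw [pow_one, ← map_pow]
    exact mk1 (hpe e he)
  obtain ⟨e₀, he₀, he₀M⟩ : ∃ e ∈ E, e ∉ M := by
    by_contra hcon
    push Not at hcon
    exact hc.ne (le_antisymm hc.le hcon)
  have hdvd : p ∣ Nat.card Eb := by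
    rcases hEbp.card_eq_or_dvd with h | h
    · exfalso
      have hne : (⟨π e₀, e₀, he₀, rfl⟩ : Eb) = 1 := by
        have := (Nat.card_eq_one_iff_unique.1 h).1
        exact this.elim _ _
      exact he₀M (of1 (congrArg Subtype.val hne))
    · exact h
  have hfix1 : (1 : Eb) ∈ MulAction.fixedPoints R Eb := fun r => smul_one r
  obtain ⟨x, hx, hxne⟩ := hRp.exists_fixed_point_of_prime_dvd_card_of_fixed_point Eb hdvd hfix1
  obtain ⟨_, e, he, rfl⟩ := x
  refine ⟨e, he, ?_, ?_⟩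
  · intro h
    apply hxne
    apply Subtype.ext
    exact (mk1 h).symm
  · intro s hs
    have h1 := hx ⟨ρ ⟨s, hs⟩, ⟨s, hs⟩, rfl⟩
    have h2 := congrArg Subtype.val h1
    have h3 : π s * π e * (π s)⁻¹ = π e := h2
    apply of1
    rw [map_mul, map_mul, map_mul, map_inv, map_inv]
    exact mul_inv_eq_one.2 h3

/-- No `p`-torsion in `H / H₁`. -/
theorem no_torsion (hH : H.Normal) (hc : Chief M (⁅H, H⁆ : Subgroup G)) [Group.IsSolvable G] (hp : p.Prime)
    (hpe : ∀ e ∈ (⁅H, H⁆ : Subgroup G), e ^ p ∈ M) {h : G} (hh : h ∈ H) {k : ℕ}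
    (hk : h ^ (p ^ k) ∈ relCen hc.nK H ⁅H, H⁆) : h ∈ relCen hc.nK H ⁅H, H⁆ := by
  classical
  haveI hMn := hc.nK
  haveI hEn := hc.nL
  haveI := hH
  set E : Subgroup G := ⁅H, H⁆ with hE
  set T : Subgroup G := relCen hc.nK H E with hT
  have hTn : T.Normal := relCen_normal hc.nK hH hEn
  haveI := hTn
  have hEH : E ≤ H := Subgroup.commutator_le_left H H
  have hET : E ≤ T := fun e he => ⟨hEH he, fun b hb => chief_comm hc e he b hb⟩
  let π₁ := QuotientGroup.mk' T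
  have hcomm : ∀ a ∈ H, ∀ b ∈ H, Commute (π₁ a) (π₁ b) := by
    intro a ha b hb
    have h1 : a * b * a⁻¹ * b⁻¹ ∈ T := hET (Subgroup.commutator_mem_commutator ha hb)
    have h2 := mk1 (K := T) h1
    rw [map_mul, map_mul, map_mul, map_inv, map_inv] at h2
    change π₁ a * π₁ b * (π₁ a)⁻¹ * (π₁ b)⁻¹ = 1 at h2
    have h3 : π₁ a * π₁ b = (π₁ a * π₁ b * (π₁ a)⁻¹ * (π₁ b)⁻¹) * (π₁ b * π₁ a) := by group
    rw [h2, one_mul] at h3
    exact h3
  let S : Subgroup G :=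
    { carrier := {x | x ∈ H ∧ ∃ k : ℕ, x ^ (p ^ k) ∈ T}
      one_mem' := ⟨H.one_mem, 0, by simpa using T.one_mem⟩
      mul_mem' := by
        rintro a b ⟨ha, l, hl⟩ ⟨hb, l', hl'⟩
        refine ⟨H.mul_mem ha hb, l + l', of1 ?_⟩
        change π₁ ((a * b) ^ (p ^ (l + l'))) = 1
        rw [map_pow, map_mul, (hcomm a ha b hb).mul_pow, ← map_pow, ← map_pow]
        have e1 : π₁ (a ^ (p ^ (l + l'))) = 1 := by
          rw [pow_add, pow_mul, map_pow, mk1 (K := T) hl, one_pow]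
        have e2 : π₁ (b ^ (p ^ (l + l'))) = 1 := by
          rw [pow_add, mul_comm, pow_mul, map_pow, mk1 (K := T) hl', one_pow]
        rw [e1, e2, one_mul]
      inv_mem' := by
        rintro a ⟨ha, l, hl⟩
        refine ⟨H.inv_mem ha, l, ?_⟩
        rw [inv_pow]
        exact T.inv_mem hl }
  have hSn : S.Normal := by
    refine ⟨fun n hn g => ⟨hH.conj_mem n hn.1 g, ?_⟩⟩
    obtain ⟨l, hl⟩ := hn.2
    refine ⟨l, ?_⟩
    rw [conj_pow]
    exact hTn.conj_mem _ hl g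
  haveI := hSn
  -- the fixed points
  let C : Subgroup G := relCen hc.nK E S
  have hCn : C.Normal := relCen_normal hc.nK hEn hSn
  have hMC : M ≤ C := by
    intro m hm
    refine ⟨hc.le hm, fun b _ => ?_⟩
    have h1 := hMn.conj_mem _ (M.inv_mem hm) b
    have h2 : m * b * m⁻¹ * b⁻¹ = m * (b * m⁻¹ * b⁻¹) := by group
    rw [h2]
    exact M.mul_mem hm h1
  have hCE : C ≤ E := fun x hx => hx.1
  have hCall : C = E := by
    rcases hc.min C hCn hMC hCE with h1 | h1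
    · exfalso
      obtain ⟨e, he, heM, hes⟩ := fixed_point hc hp hpe (S := S) (T := T) (fun s hs => hs.2)
        (fun t ht e he => ht.2 e he)
      apply heM
      rw [← h1]
      refine ⟨he, fun b hb => ?_⟩
      have h2 := M.inv_mem (hes b hb)
      convert h2 using 1
      group
    · exact h1
  refine ⟨hh, fun e he => ?_⟩
  have h1 : e ∈ C := hCall ▸ he
  have h2 := M.inv_mem (h1.2 h ⟨hh, k, hk⟩)
  convert h2 using 1
  group

/-- An element of `H₁` outside `Y`. -/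
theorem exists_c (s : St H Y) (hc : Chief M (⁅H, H⁆ : Subgroup G)) [Group.IsSolvable G] (hp : p.Prime)
    (hpe : ∀ e ∈ (⁅H, H⁆ : Subgroup G), e ^ p ∈ M) (hpA : p ∣ Y.relIndex H) :
    ∃ c, c ∈ relCen hc.nK H ⁅H, H⁆ ∧ c ∉ Y := by
  classical
  haveI : Fact p.Prime := ⟨hp⟩
  haveI hYn := s.nY
  let Y' : Subgroup H := Y.subgroupOf H
  haveI : Y'.Normal := s.nY.subgroupOf H
  have hdvd : p ∣ Nat.card (H ⧸ Y') := hpA
  obtain ⟨x, hx⟩ := exists_prime_orderOf_dvd_card' p hdvd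
  obtain ⟨⟨c₀, hc₀⟩, rfl⟩ := QuotientGroup.mk'_surjective Y' x
  have h1 : c₀ ^ p ∈ Y := by
    have := pow_orderOf_eq_one (QuotientGroup.mk' Y' ⟨c₀, hc₀⟩)
    rw [hx, ← map_pow] at this
    have h0 : (⟨c₀, hc₀⟩ : H) ^ p ∈ Y' := of1 this
    exact h0
  have h2 : c₀ ∉ Y := by
    intro h
    have h3 : QuotientGroup.mk' Y' ⟨c₀, hc₀⟩ = 1 := mk1 (K := Y') h
    rw [h3, orderOf_one] at hx
    exact hp.one_lt.ne hx
  have ho : orderOf c₀ ≠ 0 := (orderOf_pos c₀).ne'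
  obtain ⟨a, n', hn', hn⟩ := Nat.exists_eq_pow_mul_and_not_dvd ho p hp.ne_one
  refine ⟨c₀ ^ n', ?_, ?_⟩
  · apply no_torsion s.nH hc hp hpe (H.pow_mem hc₀ n') (k := a)
    rw [← pow_mul, mul_comm, ← hn, pow_orderOf_eq_one]
    exact Subgroup.one_mem _
  · intro h3
    apply h2
    have hcop : Nat.Coprime n' p := ((Nat.Prime.coprime_iff_not_dvd hp).2 hn').symm
    have h4 : (QuotientGroup.mk' Y c₀) ^ (Nat.gcd n' p) = 1 :=
      pow_gcd_eq_one.2 ⟨by rw [← map_pow]; exact mk1 h3, by rw [← map_pow]; exact mk1 h1⟩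
    rw [hcop.gcd_eq_one, pow_one] at h4
    exact of1 h4

/-- `p` does not divide `|H : H₁|`. -/
theorem not_dvd_index (hH : H.Normal) (hc : Chief M (⁅H, H⁆ : Subgroup G)) [Group.IsSolvable G] (hp : p.Prime)
    (hpe : ∀ e ∈ (⁅H, H⁆ : Subgroup G), e ^ p ∈ M) :
    ¬ p ∣ (relCen hc.nK H ⁅H, H⁆).relIndex H := by
  classical
  haveI : Fact p.Prime := ⟨hp⟩
  haveI hEn := hc.nL
  set T : Subgroup G := relCen hc.nK H ⁅H, H⁆ with hT
  have hTn : T.Normal := relCen_normal hc.nK hH hEn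
  let T' : Subgroup H := T.subgroupOf H
  haveI : T'.Normal := hTn.subgroupOf H
  intro hdvd
  have hdvd' : p ∣ Nat.card (H ⧸ T') := hdvd
  obtain ⟨x, hx⟩ := exists_prime_orderOf_dvd_card' p hdvd'
  obtain ⟨⟨c₀, hc₀⟩, rfl⟩ := QuotientGroup.mk'_surjective T' x
  have h1 : c₀ ^ (p ^ 1) ∈ T := by
    have := pow_orderOf_eq_one (QuotientGroup.mk' T' ⟨c₀, hc₀⟩)
    rw [hx, ← map_pow] at this
    rw [pow_one]
    have h0 : (⟨c₀, hc₀⟩ : H) ^ p ∈ T' := of1 this
    exact h0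
  have h2 : c₀ ∉ T := by
    intro h
    have h3 : QuotientGroup.mk' T' ⟨c₀, hc₀⟩ = 1 := mk1 (K := T') h
    rw [h3, orderOf_one] at hx
    exact hp.one_lt.ne hx
  exact h2 (no_torsion hH hc hp hpe hc₀ h1)

/-- Part (a): `H` is trivial on `E / M`. -/
theorem part_a (s : St H Y)
    (hcam : ∀ c ∈ H, c ∉ Y → ∀ e ∈ (⁅H, H⁆ : Subgroup G), ∃ b ∈ H, b * c * b⁻¹ = c * e)
    (hc : Chief M (⁅H, H⁆ : Subgroup G)) [Group.IsSolvable G] (hp : p.Prime)
    (hpe : ∀ e ∈ (⁅H, H⁆ : Subgroup G), e ^ p ∈ M) (hpA : p ∣ Y.relIndex H) :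
    ∀ h ∈ H, ∀ e ∈ (⁅H, H⁆ : Subgroup G), h * e * h⁻¹ * e⁻¹ ∈ M := by
  classical
  haveI : Fact p.Prime := ⟨hp⟩
  haveI hMn := hc.nK
  haveI hEn := hc.nL
  haveI hHn := s.nH
  set E : Subgroup G := ⁅H, H⁆ with hE
  set T : Subgroup G := relCen hc.nK H E with hT
  have hEH : E ≤ H := Subgroup.commutator_le_left H H
  obtain ⟨c, hcT, hcY⟩ := exists_c s hc hp hpe hpA
  have hcH : c ∈ H := hcT.1
  let C : Subgroup G := relCen hc.nK E H
  have hCn : C.Normal := relCen_normal hc.nK hEn hHn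
  have hMC : M ≤ C := by
    intro m hm
    refine ⟨hc.le hm, fun b _ => ?_⟩
    have h1 := hMn.conj_mem _ (M.inv_mem hm) b
    have h2 : m * b * m⁻¹ * b⁻¹ = m * (b * m⁻¹ * b⁻¹) := by group
    rw [h2]
    exact M.mul_mem hm h1
  have hCE : C ≤ E := fun x hx => hx.1
  let π := QuotientGroup.mk' M
  have hπE : ∀ a ∈ E, ∀ b ∈ E, Commute (π a) (π b) := by
    intro a ha b hb
    have h2 := mk1 (K := M) (chief_comm hc a ha b hb)
    rw [map_mul, map_mul, map_mul, map_inv, map_inv] at h2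
    exact mul_inv_eq_iff_eq_mul.1 (mul_inv_eq_one.1 h2)
  have hπT : ∀ t ∈ T, ∀ e ∈ E, Commute (π e) (π t) := by
    intro t ht e he
    have h2 := mk1 (K := M) (ht.2 e he)
    rw [map_mul, map_mul, map_mul, map_inv, map_inv] at h2
    exact (mul_inv_eq_iff_eq_mul.1 (mul_inv_eq_one.1 h2) : Commute (π t) (π e)).symm
  rcases hc.min C hCn hMC hCE with hCM | hCE'
  · exfalso
    -- every commutator `[y, c]`, `y ∈ T`, lies in `C = M`
    have hstab : ∀ y ∈ T, y * c * y⁻¹ * c⁻¹ ∈ M := by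
      intro y hy
      rw [← hCM]
      have hyH : y ∈ H := hy.1
      refine ⟨Subgroup.commutator_mem_commutator hyH hcH, fun h hh => ?_⟩
      set t := y * c * y⁻¹ * c⁻¹ with ht
      have hr : y⁻¹ * (h * y * h⁻¹) ∈ E := by
        have : y⁻¹ * (h * y * h⁻¹) = y⁻¹ * h * y⁻¹⁻¹ * h⁻¹ := by group
        rw [this]
        exact Subgroup.commutator_mem_commutator (H.inv_mem hyH) hh
      have hu : c⁻¹ * (h * c * h⁻¹) ∈ E := by
        have : c⁻¹ * (h * c * h⁻¹) = c⁻¹ * h * c⁻¹⁻¹ * h⁻¹ := by group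
        rw [this]
        exact Subgroup.commutator_mem_commutator (H.inv_mem hcH) hh
      have key := comm_central (y := π y) (c := π c) (r := π (y⁻¹ * (h * y * h⁻¹)))
        (u := π (c⁻¹ * (h * c * h⁻¹))) (hπT c hcT _ hr) (hπE _ hu _ hr) (hπT y hy _ hu)
      have e1 : π y * π (y⁻¹ * (h * y * h⁻¹)) = π h * π y * (π h)⁻¹ := by
        rw [← map_mul, mul_inv_cancel_left, map_mul, map_mul, map_inv]
      have e2 : π c * π (c⁻¹ * (h * c * h⁻¹)) = π h * π c * (π h)⁻¹ := by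
        rw [← map_mul, mul_inv_cancel_left, map_mul, map_mul, map_inv]
      rw [e1, e2] at key
      apply M.inv_mem_iff.1
      apply of1
      have : (t * h * t⁻¹ * h⁻¹)⁻¹ = h * t * h⁻¹ * t⁻¹ := by group
      rw [this]
      change π (h * t * h⁻¹ * t⁻¹) = 1
      rw [map_mul, map_mul, map_mul, map_inv, map_inv]
      have e3 : π t = π y * π c * (π y)⁻¹ * (π c)⁻¹ := by
        rw [ht, map_mul, map_mul, map_mul, map_inv, map_inv]
      have e4 : π h * π t * (π h)⁻¹ = π t := by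
        calc π h * π t * (π h)⁻¹ = π h * π y * (π h)⁻¹ * (π h * π c * (π h)⁻¹) * (π h * π y * (π h)⁻¹)⁻¹ * (π h * π c * (π h)⁻¹)⁻¹ := by
              rw [e3]; group
          _ = π t := by rw [key, e3]
      rw [e4, mul_inv_cancel]
    -- the count
    let f : H →* ConjAct (G ⧸ M) := (ConjAct.toConjAct.toMonoidHom).comp (π.comp H.subtype)
    letI : MulAction H (G ⧸ M) := MulAction.compHom (G ⧸ M) f
    have hsmul : ∀ (h : H) (x : G ⧸ M), h • x = π h * x * (π h)⁻¹ := fun h x => rfl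
    have horb : MulAction.orbit H (π c) = (fun e => π c * e) '' (E.map π : Set (G ⧸ M)) := by
      ext x
      constructor
      · rintro ⟨h, rfl⟩
        refine ⟨π (c⁻¹ * (h * c * (h : G)⁻¹)), ⟨_, ?_, rfl⟩, ?_⟩
        · have : c⁻¹ * ((h : G) * c * (h : G)⁻¹) = c⁻¹ * h * c⁻¹⁻¹ * (h : G)⁻¹ := by group
          rw [this]
          exact Subgroup.commutator_mem_commutator (H.inv_mem hcH) h.2
        · change π c * π (c⁻¹ * (h * c * (h : G)⁻¹)) = h • π c
          rw [← map_mul, mul_inv_cancel_left, hsmul, map_mul, map_mul, map_inv]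
      · rintro ⟨_, ⟨e, he, rfl⟩, rfl⟩
        obtain ⟨b, hb, hbe⟩ := hcam c hcH hcY e he
        refine ⟨⟨b, hb⟩, ?_⟩
        change (⟨b, hb⟩ : H) • π c = π c * π e
        rw [hsmul]
        have h5 := congrArg π hbe
        simpa only [map_mul, map_inv] using h5
    have hcard : Nat.card (E.map π) = (MulAction.stabilizer H (π c)).index := by
      rw [MulAction.index_stabilizer, horb]
      rw [Set.ncard_image_of_injective _ (mul_right_injective (π c))]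
      rfl
    have hle : T.subgroupOf H ≤ MulAction.stabilizer H (π c) := by
      intro y hy
      rw [MulAction.mem_stabilizer_iff, hsmul]
      have h2 := mk1 (K := M) (hstab y hy)
      rw [map_mul, map_mul, map_mul, map_inv, map_inv] at h2
      exact mul_inv_eq_one.1 h2
    have hd : (MulAction.stabilizer H (π c)).index ∣ (T.subgroupOf H).index :=
      Subgroup.index_dvd_of_le hle
    have hnd := not_dvd_index hHn hc hp hpe
    obtain ⟨e₀, he₀, he₀M⟩ : ∃ e ∈ E, e ∉ M := by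
      by_contra hcon
      push Not at hcon
      exact hc.ne (le_antisymm hc.le hcon)
    have hEbp : IsPGroup p (E.map π) := by
      rintro ⟨_, e, he, rfl⟩
      refine ⟨1, Subtype.ext ?_⟩
      change (π e) ^ (p ^ 1) = 1
      rw [pow_one, ← map_pow]
      exact mk1 (hpe e he)
    have hdvd : p ∣ Nat.card (E.map π) := by
      rcases hEbp.card_eq_or_dvd with h | h
      · exfalso
        have hne : (⟨π e₀, e₀, he₀, rfl⟩ : E.map π) = 1 := by
          have := (Nat.card_eq_one_iff_unique.1 h).1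
          exact this.elim _ _
        exact he₀M (of1 (congrArg Subtype.val hne))
      · exact h
    rw [hcard] at hdvd
    exact hnd (hdvd.trans hd)
  · intro h hh e he
    have h1 : e ∈ C := hCE' ▸ he
    have h2 := M.inv_mem (h1.2 h hh)
    convert h2 using 1
    group

/-- An element outside `H` trivial on `E / M`. -/
theorem exists_out (s : St H Y) (hc : Chief M (⁅H, H⁆ : Subgroup G)) [Group.IsSolvable G]
    (ha : ∀ h ∈ H, ∀ e ∈ (⁅H, H⁆ : Subgroup G), h * e * h⁻¹ * e⁻¹ ∈ M) :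
    ∃ g, g ∉ H ∧ ∀ e ∈ (⁅H, H⁆ : Subgroup G), g * e * g⁻¹ * e⁻¹ ∈ M := by
  classical
  letI : Fintype G := Fintype.ofFinite G
  letI : Fintype H := Fintype.ofFinite H
  haveI hMn := hc.nK
  haveI hEn := hc.nL
  haveI hHn := s.nH
  set E : Subgroup G := ⁅H, H⁆ with hE
  have hEH : E ≤ H := Subgroup.commutator_le_left H H
  let N' : Subgroup H := E.subgroupOf H
  have hN' : N'.Normal := hEn.subgroupOf H
  letI : Fintype N' := Fintype.ofFinite _
  let ι : ∀ e, e ∈ E → N' := fun e he => ⟨⟨e, hEH he⟩, he⟩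
  let L : Subgroup N' := M.comap (H.subtype.comp N'.subtype)
  have hLn : L.Normal := hMn.comap _
  have hLab : ∀ a b : N', a * b * a⁻¹ * b⁻¹ ∈ L := fun a b =>
    chief_comm hc a a.2 b b.2
  obtain ⟨e₀, he₀, he₀M⟩ : ∃ e ∈ E, e ∉ M := by
    by_contra hcon
    push Not at hcon
    exact hc.ne (le_antisymm hc.le hcon)
  obtain ⟨β, hβL, hβ0⟩ := Cfsg.Agent.Lib.NoDiv.Camina.exists_hom_ne hLn hLab (x := ι e₀ he₀) he₀M
  have hβeq : ∀ a b : N', ((a : H) : G)⁻¹ * ((b : H) : G) ∈ M → β a = β b := by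
    intro a b hab
    have h1 : β (a⁻¹ * b) = 1 := hβL _ hab
    rw [map_mul, map_inv] at h1
    exact inv_mul_eq_one.1 h1
  have hθ : IsIrrCharacter N' (fun n => (β n : ℂ)) := isIrrCharacter_of_hom β
  obtain ⟨ξ, hξ⟩ := Cfsg.Agent.Lib.Blk89.ItoMichler.exists_irr_over hθ
  have hinv : ∀ c : H, conjOn hN' c (fun n => (β n : ℂ)) = fun n => (β n : ℂ) := by
    intro c
    funext n
    rw [conjOn_apply]
    have h0 : β ⟨c * n * c⁻¹, hN'.conj_mem n n.2 c⟩ = β n := by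
      apply hβeq
      change ((c : G) * n * (c : G)⁻¹)⁻¹ * ((n : H) : G) ∈ M
      have h1 := ha c c.2 ((n : H) : G)⁻¹ (E.inv_mem n.2)
      convert h1 using 1
      group
    rw [h0]
  have hres := Cfsg.Agent.Lib.OddChar.CentralBound.restrict_eq_smul hN' ξ.2 hθ hinv hξ
  have hval : ∀ n : N', (ξ : H → ℂ) n = (ξ : H → ℂ) 1 * (β n : ℂ) := by
    intro n
    have h1 := congrFun hres n
    have h2 := congrFun hres 1
    simp only [Pi.smul_apply, smul_eq_mul, map_one, Units.val_one, mul_one, OneMemClass.coe_one] at h1 h2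
    rw [h1, h2]
  have hξ1 : (ξ : H → ℂ) 1 ≠ 1 := by
    intro h1
    have h2 := Cfsg.Agent.Lib.NoDiv.Q78.lam_of_linear ξ.2 h1 hξ (ι e₀ he₀)
      ((Cfsg.Agent.Lib.NoDiv.Camina.mem_comm_iff _).1 he₀)
    exact hβ0 h2
  have hξ0 : (ξ : H → ℂ) 1 ≠ 0 := Cfsg.Agent.Lib.Char.Complete.irr_one_ne_zero ξ.2
  obtain ⟨g, hg, hgξ⟩ := Cfsg.Agent.Lib.NDF.StChar.St.nl_moved s ξ.2 hξ1
  have hgE : ∀ e (he : e ∈ E), g * e * g⁻¹ ∈ E := fun e he => hEn.conj_mem e he g
  have hfix : ∀ e (he : e ∈ E), β (ι (g * e * g⁻¹) (hgE e he)) = β (ι e he) := by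
    intro e he
    have h1 := congrFun hgξ (ι e he : H)
    rw [conjOn_apply] at h1
    have h2 := hval (ι (g * e * g⁻¹) (hgE e he))
    have h3 := hval (ι e he)
    have h4 : (ξ : H → ℂ) (ι (g * e * g⁻¹) (hgE e he)) = (ξ : H → ℂ) (ι e he) := h1
    rw [h2, h3] at h4
    exact Units.ext (mul_left_cancel₀ hξ0 h4)
  refine ⟨g, hg, ?_⟩
  -- the fixed points of `g` on `E / M`
  let C : Subgroup G :=
    { carrier := {e | e ∈ E ∧ g * e * g⁻¹ * e⁻¹ ∈ M}
      one_mem' := ⟨E.one_mem, by simp [M.one_mem]⟩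
      mul_mem' := by
        rintro a b ⟨ha1, ha2⟩ ⟨hb1, hb2⟩
        refine ⟨E.mul_mem ha1 hb1, ?_⟩
        have h1 := hMn.conj_mem _ hb2 a
        have h2 : g * (a * b) * g⁻¹ * (a * b)⁻¹ = (g * a * g⁻¹ * a⁻¹) * (a * (g * b * g⁻¹ * b⁻¹) * a⁻¹) := by
          group
        rw [h2]
        exact M.mul_mem ha2 h1
      inv_mem' := by
        rintro a ⟨ha1, ha2⟩
        refine ⟨E.inv_mem ha1, ?_⟩
        have h1 := hMn.conj_mem _ (M.inv_mem ha2) a⁻¹
        have h2 : g * a⁻¹ * g⁻¹ * a⁻¹⁻¹ = a⁻¹ * (g * a * g⁻¹ * a⁻¹)⁻¹ * a⁻¹⁻¹ := by group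
        rw [h2]
        exact h1 }
  have hCn : C.Normal := by
    refine ⟨fun e he x => ⟨hEn.conj_mem e he.1 x, ?_⟩⟩
    obtain ⟨he1, he2⟩ := he
    set w := x⁻¹ * g * x⁻¹⁻¹ * g⁻¹ with hw
    have hwH : w ∈ H := s.ab _ _
    set e' := g * e * g⁻¹ with he'
    have he'E : e' ∈ E := hEn.conj_mem e he1 g
    have h1 := ha w hwH e' he'E
    have h3 : w * e' * w⁻¹ * e⁻¹ = (w * e' * w⁻¹ * e'⁻¹) * (g * e * g⁻¹ * e⁻¹) := by
      rw [he']; group
    have h4 : w * e' * w⁻¹ * e⁻¹ ∈ M := by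
      rw [h3]
      exact M.mul_mem h1 he2
    have h5 := hMn.conj_mem _ h4 x
    convert h5 using 1
    rw [hw, he']
    group
  have hMC : M ≤ C := by
    intro m hm
    exact ⟨hc.le hm, M.mul_mem (hMn.conj_mem m hm g) (M.inv_mem hm)⟩
  have hCE : C ≤ E := fun x hx => hx.1
  rcases hc.min C hCn hMC hCE with h1 | h1
  · exfalso
    have hf : ∀ a ∈ E, g * a * g⁻¹ * a⁻¹ ∈ M → a ∈ M := by
      intro a haE hgaM
      rw [← h1]
      exact ⟨haE, hgaM⟩
    obtain ⟨b, hb, hbe⟩ := Cfsg.Agent.Lib.NoDiv.XLemma.exists_comm_mod hc.le hMn g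
      (fun a ha => hgE a ha) hf e₀ he₀
    apply hβ0
    have h2 : β (ι e₀ he₀) = β (ι (g * b * g⁻¹) (hgE b hb) * (ι b hb)⁻¹) := by
      apply hβeq
      exact hbe
    rw [h2, map_mul, map_inv, hfix b hb, mul_inv_cancel]
  · intro e he
    have h2 : e ∈ C := h1 ▸ he
    exact h2.2

/-- Part (b). -/
theorem part_b (hcam : ∀ c ∈ H, c ∉ Y → ∀ e ∈ (⁅H, H⁆ : Subgroup G), ∃ b ∈ H, b * c * b⁻¹ = c * e)
    (hc : Chief M (⁅H, H⁆ : Subgroup G)) (hpe : ∀ e ∈ (⁅H, H⁆ : Subgroup G), e ^ p ∈ M)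
    (ha : ∀ h ∈ H, ∀ e ∈ (⁅H, H⁆ : Subgroup G), h * e * h⁻¹ * e⁻¹ ∈ M) :
    ∀ c ∈ H, c ^ p ∈ Y := by
  classical
  haveI hMn := hc.nK
  intro c hcH
  by_contra hcY
  obtain ⟨e₀, he₀, he₀M⟩ : ∃ e ∈ (⁅H, H⁆ : Subgroup G), e ∉ M := by
    by_contra hcon
    push Not at hcon
    exact hc.ne (le_antisymm hc.le hcon)
  obtain ⟨b, hb, hbe⟩ := hcam _ (H.pow_mem hcH p) hcY e₀ he₀
  let π := QuotientGroup.mk' M
  have ht : b * c * b⁻¹ * c⁻¹ ∈ (⁅H, H⁆ : Subgroup G) := Subgroup.commutator_mem_commutator hb hcH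
  set t := b * c * b⁻¹ * c⁻¹ with htd
  have hcomm : Commute (π t) (π c) := by
    have h1 := mk1 (K := M) (ha c hcH t ht)
    rw [map_mul, map_mul, map_mul, map_inv, map_inv] at h1
    exact (mul_inv_eq_iff_eq_mul.1 (mul_inv_eq_one.1 h1) : Commute (π c) (π t)).symm
  have hbc : π b * π c * (π b)⁻¹ = π t * π c := by
    rw [htd]
    simp only [map_mul, map_inv]
    group
  have htp : (π t) ^ p = 1 := by
    rw [← map_pow]
    exact mk1 (hpe t ht)
  have h1 : π b * (π c) ^ p * (π b)⁻¹ = (π c) ^ p := by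
    rw [← conj_pow, hbc, hcomm.mul_pow, htp, one_mul]
  have h2 := congrArg π hbe
  simp only [map_mul, map_inv, map_pow] at h2
  rw [h1] at h2
  have h3 : π e₀ = 1 := by
    have := mul_left_cancel (a := (π c) ^ p) (b := π e₀) (c := 1) (by rw [mul_one]; exact h2.symm)
    exact this
  exact he₀M (of1 h3)

/-- Part (c). -/
theorem part_c (s : St H Y) (hc : Chief M (⁅H, H⁆ : Subgroup G))
    (ha : ∀ h ∈ H, ∀ e ∈ (⁅H, H⁆ : Subgroup G), h * e * h⁻¹ * e⁻¹ ∈ M)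
    {g : G} (hg : g ∉ H) (hgt : ∀ e ∈ (⁅H, H⁆ : Subgroup G), g * e * g⁻¹ * e⁻¹ ∈ M) :
    ∀ d ∈ commutator G, ∀ y ∈ Y, d * y * d⁻¹ * y⁻¹ ∈ M := by
  classical
  haveI hMn := hc.nK
  haveI hEn := hc.nL
  haveI hHn := s.nH
  have hEY : (⁅H, H⁆ : Subgroup G) ≤ Y := by
    rw [← s.GE]; exact inf_le_right
  have hGH : commutator G ≤ H := by
    rw [commutator_def, Subgroup.commutator_le]
    intro a _ b _
    exact s.ab a b
  intro d hd y hy
  have hyH : y ∈ H := s.YH hy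
  let π := QuotientGroup.mk' M
  -- `D`: the centraliser of `y` in `H` modulo `M`
  let D : Subgroup G :=
    { carrier := {x | x ∈ H ∧ π x * π y = π y * π x}
      one_mem' := ⟨H.one_mem, by simp⟩
      mul_mem' := by
        rintro a b ⟨ha1, ha2⟩ ⟨hb1, hb2⟩
        refine ⟨H.mul_mem ha1 hb1, ?_⟩
        rw [map_mul, mul_assoc, hb2, ← mul_assoc, ha2, mul_assoc]
      inv_mem' := by
        rintro a ⟨ha1, ha2⟩
        refine ⟨H.inv_mem ha1, ?_⟩
        rw [map_inv]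
        exact ((show Commute (π a) (π y) from ha2).inv_left) }
  have hcentral : ∀ h ∈ H, ∀ e ∈ (⁅H, H⁆ : Subgroup G), π h * π e = π e * π h := by
    intro h hh e he
    have h1 := mk1 (K := M) (ha h hh e he)
    rw [map_mul, map_mul, map_mul, map_inv, map_inv] at h1
    exact mul_inv_eq_iff_eq_mul.1 (mul_inv_eq_one.1 h1)
  have hgfix : ∀ e ∈ (⁅H, H⁆ : Subgroup G), π g * π e * (π g)⁻¹ = π e := by
    intro e he
    have h1 := mk1 (K := M) (hgt e he)
    rw [map_mul, map_mul, map_mul, map_inv, map_inv] at h1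
    exact mul_inv_eq_one.1 h1
  have hEab : ∀ a ∈ (⁅H, H⁆ : Subgroup G), ∀ b ∈ (⁅H, H⁆ : Subgroup G), π a * π b = π b * π a := by
    intro a ha' b hb
    exact hcentral a (Subgroup.commutator_le_left H H ha') b hb
  have hED : (⁅H, H⁆ : Subgroup G) ≤ D := fun e he =>
    ⟨Subgroup.commutator_le_left H H he, (hcentral y hyH e he).symm⟩
  have hkey : ∀ x ∈ H, g * x * g⁻¹ * x⁻¹ ∈ D := by
    intro x hx
    set u := g * y * g⁻¹ * y⁻¹ with hu
    have huE : u ∈ (⁅H, H⁆ : Subgroup G) := s.Yz y hy g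
    set t := x * y * x⁻¹ * y⁻¹ with ht
    have htE : t ∈ (⁅H, H⁆ : Subgroup G) := Subgroup.commutator_mem_commutator hx hyH
    set x' := g * x * g⁻¹ with hx'
    have hx'H : x' ∈ H := s.nH.conj_mem x hx g
    have e1 : π g * π y * (π g)⁻¹ = π u * π y := by
      rw [hu]; simp only [map_mul, map_inv]; group
    have e2 : π x * π y * (π x)⁻¹ = π t * π y := by
      rw [ht]; simp only [map_mul, map_inv]; group
    have e3 : π x' * π y * (π x')⁻¹ = π x * π y * (π x)⁻¹ := by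
      have e4 : π x' * (π u * π y) * (π x')⁻¹ = π g * (π x * π y * (π x)⁻¹) * (π g)⁻¹ := by
        rw [← e1, hx']
        simp only [map_mul, map_inv]
        group
      have e5 : π g * (π x * π y * (π x)⁻¹) * (π g)⁻¹ = π t * (π u * π y) := by
        rw [e2]
        calc π g * (π t * π y) * (π g)⁻¹ = (π g * π t * (π g)⁻¹) * (π g * π y * (π g)⁻¹) := by group
          _ = π t * (π u * π y) := by rw [hgfix t htE, e1]
      have e6 : π x' * (π u * π y) * (π x')⁻¹ = π u * (π x' * π y * (π x')⁻¹) := by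
        have := hcentral x' hx'H u huE
        calc π x' * (π u * π y) * (π x')⁻¹ = (π x' * π u) * π y * (π x')⁻¹ := by group
          _ = (π u * π x') * π y * (π x')⁻¹ := by rw [this]
          _ = _ := by group
      rw [e5] at e4
      rw [e6] at e4
      have e7 : π t * (π u * π y) = π u * (π t * π y) := by
        rw [← mul_assoc, hEab t htE u huE, mul_assoc]
      rw [e7] at e4
      have e8 := mul_left_cancel e4
      rw [e8, e2]
    refine ⟨s.ab g x, ?_⟩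
    -- `x' x⁻¹` centralises `y` modulo `M`
    have e9 : π (g * x * g⁻¹ * x⁻¹) = π x' * (π x)⁻¹ := by
      rw [hx', map_mul _ (g * x * g⁻¹), map_inv]
    rw [e9]
    -- use the commutation of `x⁻¹ x'` with `y`
    have e10 : (π x)⁻¹ * π x' * π y = π y * ((π x)⁻¹ * π x') := by
      have h1 : π x' * π y = π x * π y * (π x)⁻¹ * π x' := by
        rw [← e3]; group
      calc (π x)⁻¹ * π x' * π y = (π x)⁻¹ * (π x' * π y) := by group
        _ = (π x)⁻¹ * (π x * π y * (π x)⁻¹ * π x') := by rw [h1]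
        _ = _ := by group
    -- now `H / E` is abelian, so `x' x⁻¹ ≡ x⁻¹ x'` modulo `E`
    have h11 : x⁻¹ * x' ∈ D := ⟨H.mul_mem (H.inv_mem hx) hx'H, by
      rw [map_mul, map_inv]; exact e10⟩
    have h12 : (x * (x⁻¹ * x') * x⁻¹) * (x⁻¹ * x')⁻¹ ∈ (⁅H, H⁆ : Subgroup G) :=
      Subgroup.commutator_mem_commutator hx h11.1
    have h13 := D.mul_mem (hED h12) h11
    have h14 : (x * (x⁻¹ * x') * x⁻¹) * (x⁻¹ * x')⁻¹ * (x⁻¹ * x') = x' * x⁻¹ := by group
    rw [h14] at h13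
    have h15 := h13.2
    rwa [map_mul, map_inv] at h15
  have hf : ∀ a ∈ commutator G, g * a * g⁻¹ * a⁻¹ ∈ (⁅H, H⁆ : Subgroup G) → a ∈ (⁅H, H⁆ : Subgroup G) := by
    intro a haG hga
    rw [← s.GE]
    exact ⟨haG, s.fpf g hg a (hGH haG) (hEY hga)⟩
  have hEG : (⁅H, H⁆ : Subgroup G) ≤ commutator G := by
    rw [← s.GE]; exact inf_le_left
  obtain ⟨b, hb, hbe⟩ := Cfsg.Agent.Lib.NoDiv.XLemma.exists_comm_mod hEG
    (Subgroup.commutator_normal H H) g (fun a ha => (inferInstance : (commutator G).Normal).conj_mem a ha g) hf d hd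
  have h1 := D.mul_mem (hkey b (hGH hb)) (D.inv_mem (hED hbe))
  have h2 : g * b * g⁻¹ * b⁻¹ * (d⁻¹ * (g * b * g⁻¹ * b⁻¹))⁻¹ = d := by group
  rw [h2] at h1
  have h3 := h1.2
  apply of1
  change π (d * y * d⁻¹ * y⁻¹) = 1
  rw [map_mul, map_mul, map_mul, map_inv, map_inv, h3]
  group

/-- Part (d). -/
theorem part_d (s : St H Y)
    (hcam : ∀ c ∈ H, c ∉ Y → ∀ e ∈ (⁅H, H⁆ : Subgroup G), ∃ b ∈ H, b * c * b⁻¹ = c * e)
    (hc : Chief M (⁅H, H⁆ : Subgroup G))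
    (hcc : ∀ d ∈ commutator G, ∀ y ∈ Y, d * y * d⁻¹ * y⁻¹ ∈ M) :
    ∀ c ∈ H, ∃ c' ∈ H, ∀ k : ℕ, c' * (c ^ k)⁻¹ ∉ Y := by
  classical
  haveI hMn := hc.nK
  haveI hYn := s.nY
  intro c hcH
  by_contra hcon
  push Not at hcon
  obtain ⟨d, hd, hdc⟩ := s.GY c hcH
  have hdY : d ∉ Y := by
    intro h
    have hcY : c ∈ Y := by
      have := Y.mul_mem h hdc
      simpa using this
    obtain ⟨c₁, hc₁, hc₁Y⟩ := s.ne
    obtain ⟨k, hk⟩ := hcon c₁ hc₁
    have h2 := Y.mul_mem hk (Y.pow_mem hcY k)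
    simp only [inv_mul_cancel_right] at h2
    exact hc₁Y h2
  have hGH : commutator G ≤ H := by
    rw [commutator_def, Subgroup.commutator_le]
    intro a _ b _
    exact s.ab a b
  obtain ⟨e₀, he₀, he₀M⟩ : ∃ e ∈ (⁅H, H⁆ : Subgroup G), e ∉ M := by
    by_contra hcon
    push Not at hcon
    exact hc.ne (le_antisymm hc.le hcon)
  obtain ⟨b, hb, hbe⟩ := hcam d (hGH hd) hdY e₀ he₀
  obtain ⟨k, hk⟩ := hcon b hb
  let πY := QuotientGroup.mk' Y
  have h1 : πY c = πY d := by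
    have := mk1 (K := Y) hdc
    rw [map_mul, map_inv] at this
    exact (inv_mul_eq_one.1 this).symm
  have hy : b * (d ^ k)⁻¹ ∈ Y := by
    apply of1
    have := mk1 (K := Y) hk
    rw [map_mul, map_inv, map_pow] at this ⊢
    change πY b * (πY c ^ k)⁻¹ = 1 at this
    change πY b * (πY d ^ k)⁻¹ = 1
    rw [← h1]
    exact this
  set y := b * (d ^ k)⁻¹ with hyd
  have hbeq : b = y * d ^ k := by rw [hyd]; group
  have h2 : y * d * y⁻¹ = d * e₀ := by
    rw [← hbe, hbeq]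
    have hcomm : d ^ k * d = d * d ^ k := (pow_succ d k).symm.trans (pow_succ' d k)
    calc y * d * y⁻¹ = y * (d ^ k * d * (d ^ k)⁻¹) * y⁻¹ := by
          rw [hcomm]; group
      _ = y * d ^ k * d * (y * d ^ k)⁻¹ := by group
  let π := QuotientGroup.mk' M
  have h3 := mk1 (K := M) (hcc d hd y hy)
  rw [map_mul, map_mul, map_mul, map_inv, map_inv] at h3
  have h4 := congrArg π h2
  simp only [map_mul, map_inv] at h4
  have h5 : π d * π y = π y * π d := mul_inv_eq_iff_eq_mul.1 (mul_inv_eq_one.1 h3)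
  have h6 : π y * π d * (π y)⁻¹ = π d := by
    rw [← h5]; group
  rw [h6] at h4
  have h7 : π e₀ = 1 := by
    have := mul_left_cancel (a := π d) (b := π e₀) (c := 1) (by rw [mul_one]; exact h4.symm)
    exact this
  exact he₀M (of1 h7)

end Main

/-- (L1) -/
theorem lemma3 [Finite G] [Group.IsSolvable G] (s : St H Y) {M : Subgroup G} (hc : Chief M ⁅H, H⁆)
    {p : ℕ} (hp : p.Prime) (hpe : ∀ e ∈ (⁅H, H⁆ : Subgroup G), e ^ p ∈ M) (hpA : p ∣ Y.relIndex H) :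
    (∀ h ∈ H, ∀ e ∈ (⁅H, H⁆ : Subgroup G), h * e * h⁻¹ * e⁻¹ ∈ M) ∧ (∀ c ∈ H, c ^ p ∈ Y) ∧
    (∀ d ∈ commutator G, ∀ y ∈ Y, d * y * d⁻¹ * y⁻¹ ∈ M) ∧
    (∀ c ∈ H, ∃ c' ∈ H, ∀ k : ℕ, c' * (c ^ k)⁻¹ ∉ Y) := by
  have hcam := Cfsg.Agent.Lib.NDF.StChar.St.cam s
  have ha := part_a s hcam hc hp hpe hpA
  obtain ⟨g, hg, hgt⟩ := exists_out s hc ha
  have hcc := part_c s hc ha hg hgt
  exact ⟨ha, part_b hcam hc hpe ha, hcc, part_d s hcam hc hcc⟩

end Cfsg.Agent.Lib.NDF.Lemma3
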