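import Cfsg.Agent.Lib.NDF.IDefs
import Cfsg.Agent.Lib.NoDiv.Main

/-!
# S4780, (IH): `G / C₁` is in the level-analysis setting.
-/

set_option autoImplicit false
set_option linter.unusedSectionVars false

namespace Cfsg.Agent.Lib.NDF.PSOfI1

open Cfsg Cfsg.Agent.Lib.NoDiv.Defs Cfsg.Agent.Lib.NDF.Defs Cfsg.Agent.Lib.NDF.IDefs

universe u

variable {G : Type u} [Group G] {H Y P Q C₁ : Subgroup G} {p : ℕ}

theorem map_commutator_top {Γ : Type u} [Group Γ] (π : G →* Γ) (hπ : Function.Surjective π) :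
    commutator Γ = (commutator G).map π := by
  rw [commutator_def, commutator_def, Subgroup.map_commutator, Subgroup.map_top_of_surjective π hπ]

/-- (IH) `G / C₁` is in the level-analysis setting (I5 of post 5). -/
theorem PS_of_I1 [Finite G] (s : St H Y) (hp : p.Prime) (I : I1D H p P Q C₁) [C₁.Normal]
    (hcp : ∀ c ∈ H, c ^ p ∈ Y) : PS (G ⧸ C₁) p := by
  classical
  haveI := s.nH
  haveI := s.nY
  haveI := I.nP
  let π : G →* G ⧸ C₁ := QuotientGroup.mk' C₁
  have hπ : Function.Surjective π := QuotientGroup.mk'_surjective C₁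
  have hker : ∀ t, π t = 1 ↔ t ∈ C₁ := fun t => QuotientGroup.eq_one_iff t
  have hG' : commutator (G ⧸ C₁) = (commutator G).map π := map_commutator_top π hπ
  have hg2 : g2 (G ⧸ C₁) = (⁅H, H⁆ : Subgroup G).map π := by
    rw [← s.E2]
    show ⁅commutator (G ⧸ C₁), commutator (G ⧸ C₁)⁆ = _
    rw [hG', Subgroup.map_commutator]
  have hEG : (⁅H, H⁆ : Subgroup G) ≤ commutator G := by
    rw [← s.E2]
    exact Subgroup.commutator_le_left _ _
  have hWH : commutator G ≤ H := I.WP.trans I.PH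
  -- membership in the image of `E`
  have hmemE : ∀ t ∈ commutator G, π t ∈ g2 (G ⧸ C₁) → t ∈ (⁅H, H⁆ : Subgroup G) := by
    intro t ht h
    rw [hg2] at h
    obtain ⟨e, he, hee⟩ := h
    have h1 : e⁻¹ * t ∈ C₁ := by
      rw [← hker, map_mul, map_inv, hee, inv_mul_cancel]
    have h2 : e⁻¹ * t ∈ commutator G := mul_mem (inv_mem (hEG he)) ht
    have h3 : e⁻¹ * t ∈ (⁅H, H⁆ : Subgroup G) := I.WCE ⟨h2, h1⟩
    have h4 : t = e * (e⁻¹ * t) := by group
    rw [h4]
    exact mul_mem he h3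
  have hcomm : ∀ g : G, ∀ d ∈ commutator G, g * d * g⁻¹ * d⁻¹ ∈ commutator G := by
    intro g d _
    have := Subgroup.commutator_mem_commutator (Subgroup.mem_top g) (Subgroup.mem_top d)
    rwa [commutatorElement_def, ← commutator_def] at this
  refine
    { hp := hp
      hX := ?_
      hSyl := ?_
      nd := Cfsg.Agent.Lib.NoDiv.Deep1.noDiv_of_surj π hπ s.nd
      el := ?_
      dich := ?_
      cam := ?_ }
  · rw [hG']
    exact (I.Pp.to_le I.WP).map π
  · rw [hG', Subgroup.index_map, MonoidHom.range_eq_top.2 hπ, Subgroup.index_top, mul_one]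
    have hker' : π.ker = C₁ := QuotientGroup.ker_mk' C₁
    have hsup : commutator G ⊔ π.ker = P := by
      rw [hker']
      apply le_antisymm
      · exact sup_le I.WP (fun z hz => ((I.mC z).1 hz).1)
      · intro u hu
        obtain ⟨d, hd, z, hz, rfl⟩ := I.PWC u hu
        exact Subgroup.mul_mem_sup hd hz
    rw [hsup]
    have hcompl : Subgroup.IsComplement' P Q := by
      refine Subgroup.isComplement'_of_disjoint_and_mul_eq_univ ?_ ?_
      · rw [disjoint_iff]
        exact I.PQ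
      · rw [Set.eq_univ_iff_forall]
        intro g
        obtain ⟨u, hu, q, hq, rfl⟩ := I.dec g
        exact Set.mul_mem_mul hu hq
    rw [hcompl.symm.index_eq_card]
    exact I.Qp
  · intro a ha
    rw [hG'] at ha
    obtain ⟨d, hd, rfl⟩ := ha
    rw [← map_pow, hg2]
    refine ⟨d ^ p, ?_, rfl⟩
    show d ^ p ∈ ((⁅H, H⁆ : Subgroup G) : Set G)
    rw [← s.GE]
    exact ⟨pow_mem hd p, hcp d (hWH hd)⟩
  · intro g
    obtain ⟨g₀, rfl⟩ := hπ g
    by_cases hg : g₀ ∈ H
    · left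
      intro a ha
      rw [hG'] at ha
      obtain ⟨d, hd, rfl⟩ := ha
      rw [hg2]
      refine ⟨g₀ * d * g₀⁻¹ * d⁻¹, ?_, by simp only [map_mul, map_inv]⟩
      show _ ∈ ((⁅H, H⁆ : Subgroup G) : Set G)
      rw [← s.GE]
      exact ⟨hcomm _ _ hd, s.HY _ hg _ (hWH hd)⟩
    · right
      intro a ha h
      rw [hG'] at ha
      obtain ⟨d, hd, rfl⟩ := ha
      have h1 : g₀ * d * g₀⁻¹ * d⁻¹ ∈ (⁅H, H⁆ : Subgroup G) := by
        apply hmemE _ (hcomm _ _ hd)
        simpa only [map_mul, map_inv] using h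
      have h2 : g₀ * d * g₀⁻¹ * d⁻¹ ∈ Y := by
        rw [← s.GE] at h1
        exact h1.2
      have h3 : d ∈ Y := s.fpf _ hg _ (hWH hd) h2
      rw [hg2]
      refine ⟨d, ?_, rfl⟩
      show d ∈ ((⁅H, H⁆ : Subgroup G) : Set G)
      rw [← s.GE]
      exact ⟨hd, h3⟩
  · intro a ha ha' e he
    rw [hG'] at ha
    obtain ⟨d, hd, rfl⟩ := ha
    rw [hg2] at he
    obtain ⟨e₀, he₀, rfl⟩ := he
    have hdE : d ∉ (⁅H, H⁆ : Subgroup G) := by
      intro h
      apply ha'
      rw [hg2]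
      exact ⟨d, h, rfl⟩
    obtain ⟨b, hb, hbe⟩ := I.camW d hd hdE e₀ he₀
    refine ⟨π b, ?_, ?_⟩
    · rw [hG']
      exact ⟨b, hb, rfl⟩
    · rw [← map_mul, ← map_mul, ← hbe]
      simp only [map_mul, map_inv]

end Cfsg.Agent.Lib.NDF.PSOfI1
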