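import Cfsg.Agent.Lib.NDF.PSMain
import Cfsg.Agent.Lib.NDF.ExistsI1
import Cfsg.Agent.Lib.NDF.Dichotomy
import Cfsg.Agent.Lib.NDF.Gamma3Bot
import Cfsg.Agent.Lib.NDF.CentralCase
import Cfsg.Agent.Lib.NDF.PSOfI1
import Cfsg.Agent.Lib.NDF.DeltaTrivial
import Cfsg.Agent.Lib.NDF.CentralCompl
import Cfsg.Agent.Lib.NDF.StQuot
import Cfsg.Agent.Lib.NDF.Lemma3
import Cfsg.Agent.Lib.NDF.ChiefE
import Cfsg.Agent.Lib.NoDiv.Deep1
import Cfsg.Agent.Lib.NoDiv.GLA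
import Cfsg.Agent.Lib.FGS.Comm

set_option autoImplicit false
set_option linter.unusedSectionVars false
set_option linter.style.haveILetI false
set_option linter.unusedSimpArgs false

namespace Cfsg.Agent.Lib.NDF.CaseI

open Cfsg Cfsg.Agent.Lib.NoDiv.Defs Cfsg.Agent.Lib.NDF.Defs Cfsg.Agent.Lib.NDF.IDefs
open Cfsg.Agent.Lib.NDF.ExistsI1 Cfsg.Agent.Lib.NDF.Dichotomy Cfsg.Agent.Lib.NDF.Gamma3Bot
open Cfsg.Agent.Lib.NDF.CentralCase Cfsg.Agent.Lib.NDF.PSOfI1 Cfsg.Agent.Lib.NDF.DeltaTrivial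
open Cfsg.Agent.Lib.NDF.CentralCompl Cfsg.Agent.Lib.NDF.StQuot Cfsg.Agent.Lib.NDF.Lemma3
open Cfsg.Agent.Lib.NDF.ChiefE Cfsg.Agent.Lib.NoDiv.Deep1

universe u

variable {G : Type u} [Group G]

theorem mk1 {K : Subgroup G} [K.Normal] {x : G} (h : x ∈ K) : QuotientGroup.mk' K x = 1 :=
  (QuotientGroup.eq_one_iff x).2 h

theorem of1 {K : Subgroup G} [K.Normal] {x : G} (h : QuotientGroup.mk' K x = 1) : x ∈ K :=
  (QuotientGroup.eq_one_iff x).1 h

theorem relIndex_map_mk {H Y K : Subgroup G} [hK : K.Normal] (hKY : K ≤ Y) :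
    (Y.map (QuotientGroup.mk' K)).relIndex (H.map (QuotientGroup.mk' K)) = Y.relIndex H := by
  rw [← Subgroup.relIndex_comap, Subgroup.comap_map_eq, QuotientGroup.ker_mk', sup_eq_left.2 hKY]

theorem E_le_Y {H Y : Subgroup G} (s : St H Y) : (⁅H, H⁆ : Subgroup G) ≤ Y := by
  rw [← s.GE]; exact inf_le_right

theorem g2_eq {H Y : Subgroup G} (s : St H Y) : g2 G = ⁅H, H⁆ := s.E2

theorem g3_eq {H Y : Subgroup G} (s : St H Y) : g3 G = ⁅(⁅H, H⁆ : Subgroup G), commutator G⁆ := by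
  rw [g3, g2_eq s]

theorem g2_normal : (g2 G).Normal := Subgroup.commutator_normal _ _
theorem g3_normal : (g3 G).Normal := by
  haveI := g2_normal (G := G)
  exact Subgroup.commutator_normal _ _
theorem g4_normal : (g4 G).Normal := by
  haveI := g3_normal (G := G)
  exact Subgroup.commutator_normal _ _

theorem g3_le_g2 : g3 G ≤ g2 G := by
  haveI := g2_normal (G := G)
  exact Subgroup.commutator_le_left _ _

theorem g4_le_g3 : g4 G ≤ g3 G := by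
  haveI := g3_normal (G := G)
  exact Subgroup.commutator_le_left _ _

/-- `E' ≤ γ₄`. -/
theorem g2g2_le_g4 : (⁅g2 G, g2 G⁆ : Subgroup G) ≤ g4 G := by
  haveI := g4_normal (G := G)
  have h : (⁅⁅commutator G, commutator G⁆, g2 G⁆ : Subgroup G) ≤ g4 G := by
    apply Cfsg.Agent.Lib.FGS.Comm.three_le
    · rw [Subgroup.commutator_comm (commutator G) (g2 G)]
      exact le_rfl
    · exact le_rfl
  exact h

/-- `E' ≤ γ₃`. -/
theorem g2g2_le_g3 : (⁅g2 G, g2 G⁆ : Subgroup G) ≤ g3 G :=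
  g2g2_le_g4.trans g4_le_g3

theorem charDegrees_finite (Γ : Type u) [Group Γ] [Finite Γ] : (charDegrees Γ).Finite := by
  have := Cfsg.Agent.Lib.Char.Ortho.finite_irrCharacter (G := Γ)
  have h : charDegrees Γ = Set.range (fun χ : IrrCharacter Γ => charDegree (χ : Γ → ℂ)) := rfl
  rw [h]
  exact Set.finite_range _

/-- The elements `c ^ p ∈ Y`. -/
theorem exists_top {H Y : Subgroup G} [Finite G] [Group.IsSolvable G] (s : St H Y) {p : ℕ} (hp : p.Prime)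
    (hpA : p ∣ Y.relIndex H) (hEp : IsPGroup p (⁅H, H⁆ : Subgroup G))
    (hE1 : (⁅H, H⁆ : Subgroup G) ≠ ⊥) : ∀ c ∈ H, c ^ p ∈ Y := by
  haveI := s.nH
  have hEn : (⁅H, H⁆ : Subgroup G).Normal := Subgroup.commutator_normal H H
  obtain ⟨M, -, hc⟩ := exists_chief (G := G) (N := ⊥) (L := ⁅H, H⁆) inferInstance hEn bot_le hE1.symm
  obtain ⟨r, hr, hre⟩ := chief_elem hc
  haveI hMn := hc.nK
  have hrp : r = p := by
    obtain ⟨w, hw, hwK⟩ : ∃ w ∈ (⁅H, H⁆ : Subgroup G), w ∉ M := by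
      by_contra hcon
      push Not at hcon
      exact hc.ne (le_antisymm hc.le hcon)
    by_contra hne
    have h0 : (⟨w, hw⟩ : (⁅H, H⁆ : Subgroup G)) ^ (1 : ℕ) = ⟨w, hw⟩ := pow_one _
    obtain ⟨k, hk⟩ := hEp ⟨w, hw⟩
    have hk' : w ^ (p ^ k) = 1 := by
      have := congrArg Subtype.val hk
      simpa using this
    have hcop : Nat.Coprime r (p ^ k) := Nat.Coprime.pow_right k ((Nat.coprime_primes hr hp).2 hne)
    have h3 : (QuotientGroup.mk' M w) ^ (Nat.gcd r (p ^ k)) = 1 := by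
      refine pow_gcd_eq_one.2 ⟨?_, ?_⟩
      · rw [← map_pow]; exact mk1 (hre w hw)
      · rw [← map_pow, hk', map_one]
    rw [hcop.gcd_eq_one, pow_one] at h3
    exact hwK (of1 h3)
  subst hrp
  exact (Cfsg.Agent.Lib.NDF.Lemma3.lemma3 s hc hr hre hpA).2.1

/-- Type (ii). -/
theorem type_ii [Finite G] [Group.IsSolvable G] {H Y : Subgroup G} (s : St H Y) {p : ℕ} (hp : p.Prime)
    (hpA : p ∣ Y.relIndex H) (hEp : IsPGroup p (⁅H, H⁆ : Subgroup G))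
    (hE1 : (⁅H, H⁆ : Subgroup G) ≠ ⊥) {P Q C₁ : Subgroup G} (I : I1D H p P Q C₁)
    (ht : ∀ e ∈ (⁅H, H⁆ : Subgroup G), (∀ g : G, g * e * g⁻¹ * e⁻¹ ∈ g3 G) → e ∈ g3 G) :
    Nat.card (charDegrees G) ≤ 4 ∧
      (⁅(⁅H, H⁆ : Subgroup G), (⁅H, H⁆ : Subgroup G)⁆ : Subgroup G) = ⊥ := by
  haveI := I.nC
  have hPS : PS (G ⧸ C₁) p := PS_of_I1 s hp I (exists_top s hp hpA hEp hE1)
  obtain ⟨h4, hcard, h2, h3⟩ := Cfsg.Agent.Lib.NDF.PSMain.PS_main hPS
  obtain ⟨hΔ, hg4⟩ := delta_trivial s hp hEp hE1 I ht h4 h2 h3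
  have hsub := central_compl I hΔ
  constructor
  · refine le_trans ?_ hcard
    exact Nat.card_mono (charDegrees_finite _) hsub
  · rw [← g2_eq s]
    have h5 : (⁅g2 G, g2 G⁆ : Subgroup G) ≤ g4 G := g2g2_le_g4
    rw [hg4] at h5
    exact le_bot_iff.1 h5

/-- (I) `E` a `p`-group. -/
theorem caseI_pgroup [Finite G] [Group.IsSolvable G] {H Y : Subgroup G} (s : St H Y) {p : ℕ} (hp : p.Prime)
    (hpA : p ∣ Y.relIndex H) (hEp : IsPGroup p (⁅H, H⁆ : Subgroup G)) (hE1 : (⁅H, H⁆ : Subgroup G) ≠ ⊥) :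
    Nat.card (charDegrees G) ≤ 4 ∧ (⁅(⁅H, H⁆ : Subgroup G), (⁅H, H⁆ : Subgroup G)⁆ : Subgroup G) = ⊥ ∧
    ∀ a ∈ commutator G, a ∉ (⁅H, H⁆ : Subgroup G) → ∀ e ∈ (⁅H, H⁆ : Subgroup G),
      ∃ b ∈ commutator G, b * a * b⁻¹ = a * e := by
  classical
  obtain ⟨P, Q, C₁, I⟩ := exists_I1 s hp hpA hEp hE1
  refine (?_ : _ ∧ _ ).imp_right (fun h => ⟨h, I.camW⟩) |>.imp id id
  haveI := s.nH
  haveI hg3 := g3_normal (G := G)
  have hγE : g3 G ≤ ⁅H, H⁆ := by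
    rw [← g2_eq s]; exact g3_le_g2
  have hbar : (⁅H.map (QuotientGroup.mk' (g3 G)), H.map (QuotientGroup.mk' (g3 G))⁆ : Subgroup (G ⧸ g3 G))
      = (⁅H, H⁆ : Subgroup G).map (QuotientGroup.mk' (g3 G)) := (Subgroup.map_commutator _ _ _).symm
  have hEY := E_le_Y s
  have s₁ := St.quot s (K := g3 G) hγE
  have hpA₁ : p ∣ (Y.map (QuotientGroup.mk' (g3 G))).relIndex (H.map (QuotientGroup.mk' (g3 G))) := by
    rw [relIndex_map_mk (hγE.trans hEY)]; exact hpA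
  have hEp₁ : IsPGroup p (⁅H.map (QuotientGroup.mk' (g3 G)), H.map (QuotientGroup.mk' (g3 G))⁆ : Subgroup (G ⧸ g3 G)) := by
    rw [hbar]
    rintro ⟨x, e, he, rfl⟩
    obtain ⟨k, hk⟩ := hEp ⟨e, he⟩
    refine ⟨k, Subtype.ext ?_⟩
    have := congrArg Subtype.val hk
    change (QuotientGroup.mk' (g3 G) e) ^ (p ^ k) = 1
    rw [← map_pow]
    have h2 : e ^ (p ^ k) = 1 := by simpa using this
    rw [h2, map_one]
  have hne : (⁅H, H⁆ : Subgroup G) ≠ g3 G := by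
    intro h
    apply hE1
    haveI : Fact p.Prime := ⟨hp⟩
    have hWp : IsPGroup p (commutator G) := I.Pp.to_le I.WP
    have hWn : Group.IsNilpotent (commutator G) := hWp.isNilpotent
    have hEW : (⁅H, H⁆ : Subgroup G) ≤ commutator G := by
      rw [← s.E2]
      exact Subgroup.commutator_le_left _ _
    have := Cfsg.Agent.Lib.NoDiv.GLA.le_of_le_sup_commutator (K := ⊥) (L := ⁅H, H⁆) (E := commutator G) inferInstance hWn hEW (by
      rw [bot_sup_eq, ← g3_eq s, ← h])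
    exact le_bot_iff.1 this
  have hE₁ : (⁅H.map (QuotientGroup.mk' (g3 G)), H.map (QuotientGroup.mk' (g3 G))⁆ : Subgroup (G ⧸ g3 G)) ≠ ⊥ := by
    rw [hbar]
    intro h
    apply hne
    apply le_antisymm _ hγE
    intro e he
    have : (QuotientGroup.mk' (g3 G)) e ∈ (⁅H, H⁆ : Subgroup G).map (QuotientGroup.mk' (g3 G)) :=
      Subgroup.mem_map_of_mem _ he
    rw [h, Subgroup.mem_bot] at this
    exact of1 this
  have hEW₁ : ∀ e ∈ (⁅H.map (QuotientGroup.mk' (g3 G)), H.map (QuotientGroup.mk' (g3 G))⁆ : Subgroup (G ⧸ g3 G)),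
      ∀ d ∈ commutator (G ⧸ g3 G), e * d = d * e := by
    rw [hbar]
    rintro _ ⟨e, he, rfl⟩ d hd
    rw [← map_commutator_mk] at hd
    obtain ⟨d₀, hd₀, rfl⟩ := hd
    have h1 : e * d₀ * e⁻¹ * d₀⁻¹ ∈ g3 G := by
      rw [g3_eq s]
      exact Subgroup.commutator_mem_commutator he hd₀
    have h2 := mk1 h1
    rw [map_mul, map_mul, map_mul, map_inv, map_inv] at h2
    calc _ = (QuotientGroup.mk' (g3 G) e * QuotientGroup.mk' (g3 G) d₀ * (QuotientGroup.mk' (g3 G) e)⁻¹ * (QuotientGroup.mk' (g3 G) d₀)⁻¹) * (QuotientGroup.mk' (g3 G) d₀ * QuotientGroup.mk' (g3 G) e) := by group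
      _ = _ := by rw [h2, one_mul]
  obtain ⟨P₁, Q₁, C₁', I₁⟩ := exists_I1 s₁ hp hpA₁ hEp₁ hE₁
  rcases dichotomy_of_I1 s₁ hp I₁ hEp₁ hEW₁ with hd | hd
  · have ht : ∀ g : G, ∀ e ∈ (⁅H, H⁆ : Subgroup G), g * e * g⁻¹ * e⁻¹ ∈ g3 G := by
      intro g e he
      have h1 := hd (QuotientGroup.mk' (g3 G) g) (QuotientGroup.mk' (g3 G) e) (by
        rw [hbar]; exact Subgroup.mem_map_of_mem _ he)
      apply of1
      rw [map_mul, map_mul, map_mul, map_inv, map_inv]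
      exact h1
    have hγ := gamma3_of_I1 s hp I ht
    have hc : ∀ g : G, ∀ e ∈ (⁅H, H⁆ : Subgroup G), g * e * g⁻¹ * e⁻¹ = 1 := by
      intro g e he
      have := ht g e he
      rwa [hγ, Subgroup.mem_bot] at this
    refine ⟨central_of_I1 s hp I hc, ?_⟩
    rw [← g2_eq s]
    exact le_bot_iff.1 (hγ ▸ g2g2_le_g3)
  · apply type_ii s hp hpA hEp hE1 I
    intro e he hall
    have h1 := hd (QuotientGroup.mk' (g3 G) e) (by rw [hbar]; exact Subgroup.mem_map_of_mem _ he) (by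
      intro g
      obtain ⟨g₀, rfl⟩ := QuotientGroup.mk'_surjective _ g
      have := mk1 (hall g₀)
      rwa [map_mul, map_mul, map_mul, map_inv, map_inv] at this)
    exact of1 h1

end Cfsg.Agent.Lib.NDF.CaseI
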