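import Cfsg.Agent.Lib.NDF.IIM2
import Cfsg.Agent.Lib.NDF.UniqueFixed

/-!
# S4780, block II, S4 (M3): nonlinear characters of `E` are fully ramified over `E'`.

`X = ↥E`, `N = commutator E` central in `X` (`IIM1`). `θ` nonlinear: `θ|N = θ(1) ρ` (`Q78.restrict_central` or similar), `ρ ≠ 1` (else `N ≤ ker θ`, `θ` linear).
Every `θ'` over `ρ` is nonlinear for the same reason, so has `z' ` with `ZP` (`hZ`). Uniqueness, `θ₁, θ₂` over `ρ`, `z₁, z₂`: `NDF.UniqueFixed.unique_fixed_irr` (A7; helper75, `α = conj z_i`, `hfix` from `ZP`,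
`hμ` since `z_i` centralises `E'`): `θ_i` is the only `z_i`-fixed character over `ρ`. `conjOn z₂ θ₁` is over `ρ` and `z₁`-fixed (`z₁ z₂ = z₂ z₁`, `hZ`), so `= θ₁`: `θ₁` is `z₂`-fixed; so `θ₁ = θ₂`.
`NDF.UniqueOver.unique_over` (A8) gives the claim.
-/

set_option autoImplicit false
set_option linter.unusedSectionVars false

namespace Cfsg.Agent.Lib.NDF.IIM3

open Cfsg Cfsg.Agent.Lib.NoDiv.Defs Cfsg.Agent.Lib.NDF.Defs Cfsg.Agent.Lib.NDF.IIDefs
open Cfsg.Agent.Lib.NoDiv.XLemma Cfsg.Agent.Lib.NDF.IIBasic Cfsg.Agent.Lib.NDF.IIChar Cfsg.Agent.Lib.NDF.IIM2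
open Cfsg.Agent.Lib.Char.Basic Cfsg.Agent.Lib.Char.Conj Cfsg.Agent.Lib.Char.CliffordCorr
open Cfsg.Agent.Lib.Char.Ortho Cfsg.Agent.Lib.Char.Degree Cfsg.Agent.Lib.Char.Linear
open Cfsg.Agent.Lib.NDF.UniqueFixed Cfsg.Agent.Lib.NDF.UniqueOver Cfsg.Agent.Lib.Char.Complete

universe u

variable {G : Type u} [Group G] {H Y E L : Subgroup G}

/-- A character trivial on the derived subgroup is linear. -/
theorem deg_one_of_trivial {X : Type u} [Group X] [Finite X] {χ : X → ℂ} (hχ : IsIrrCharacter X χ)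
    (htr : ∀ n ∈ commutator X, χ n = χ 1) : χ 1 = 1 := by
  obtain ⟨ψ, hψ, hψe⟩ := isIrrCharacter_descend (QuotientGroup.mk' (commutator X))
    (QuotientGroup.mk'_surjective _) hχ (by
      intro k hk
      rw [QuotientGroup.ker_mk'] at hk
      exact htr k hk)
  have h3 := isIrr_deg_one_of_comm (G := X ⧸ commutator X) (by
    intro a b
    obtain ⟨a, rfl⟩ := QuotientGroup.mk'_surjective _ a
    obtain ⟨b, rfl⟩ := QuotientGroup.mk'_surjective _ b
    have : a * b * a⁻¹ * b⁻¹ ∈ commutator X :=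
      Subgroup.commutator_mem_commutator (Subgroup.mem_top a) (Subgroup.mem_top b)
    rw [← QuotientGroup.ker_mk' (commutator X), MonoidHom.mem_ker] at this
    simp only [map_mul, map_inv] at this ⊢
    calc _ = (QuotientGroup.mk' _ a * QuotientGroup.mk' _ b * (QuotientGroup.mk' _ a)⁻¹ *
          (QuotientGroup.mk' _ b)⁻¹) * (QuotientGroup.mk' _ b * QuotientGroup.mk' _ a) := by group
      _ = _ := by rw [this, one_mul]) hψ
  have h4 := congrFun hψe 1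
  simp only [Function.comp_apply, map_one] at h4
  rw [h4, h3]

/-- A linear character is trivial on the derived subgroup. -/
theorem trivial_of_deg_one {X : Type u} [Group X] {χ : X → ℂ} (hχ : IsCharacter X χ) (h1 : χ 1 = 1)
    (n : X) (hn : n ∈ commutator X) : χ n = 1 := by
  obtain ⟨δ, rfl⟩ := exists_hom_of_deg_one hχ h1
  have hle : commutator X ≤ δ.ker := by
    rw [commutator_def, Subgroup.commutator_le]
    intro a _ b _
    rw [MonoidHom.mem_ker, commutatorElement_def, map_mul, map_mul, map_mul, map_inv, map_inv, mul_comm (δ a) (δ b)]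
    group
  have := hle hn
  rw [MonoidHom.mem_ker] at this
  simp [this]

/-- M3. -/
theorem vanish_nonlinear [Fintype G] [Group.IsSolvable G] [Fintype E] [Fintype (commutator E)]
    (h : IID H Y E L) (hE : E.Normal)
    (hZ : ∀ θ : E → ℂ, IsIrrCharacter E θ → θ 1 ≠ 1 → ∃ z : L, ZP hE Y L θ z)
    (hmin : Chief ⊥ (⁅E, E⁆ : Subgroup G))
    {θ : E → ℂ} (hθ : IsIrrCharacter E θ) (hθ1 : θ 1 ≠ 1) :
    θ 1 ^ 2 = ((commutator E).index : ℂ) ∧ ∀ x, x ∉ commutator E → θ x = 0 := by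
  classical
  obtain ⟨-, hcen, -⟩ := Cfsg.Agent.Lib.NDF.IIM1.min_struct h hmin
  have hmemN : ∀ n : E, (n : G) ∈ (⁅E, E⁆ : Subgroup G) ↔ n ∈ commutator E :=
    Cfsg.Agent.Lib.NoDiv.Camina.mem_comm_iff
  have hNc : ∀ n ∈ commutator E, ∀ x : E, x * n = n * x := by
    intro n hn x
    apply Subtype.ext
    exact (hcen n ((hmemN n).2 hn) x x.2).symm
  let μ : commutator E →* ℂˣ := cenChar hNc ⟨θ, hθ⟩
  have hμ : ∀ n : commutator E, θ n = ((μ n : ℂˣ) : ℂ) * θ 1 := by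
    intro n
    have h0 := irr_one_ne_zero hθ
    change θ n = (θ n / θ 1) * θ 1
    rw [div_mul_cancel₀ _ h0]
  -- any character over `μ` is nonlinear
  have hnl : ∀ χ : IrrCharacter E, (∀ n : commutator E, (χ : E → ℂ) n = ((μ n : ℂˣ) : ℂ) * (χ : E → ℂ) 1) →
      (χ : E → ℂ) 1 ≠ 1 := by
    intro χ hχ h1
    apply hθ1
    apply deg_one_of_trivial hθ
    intro n hn
    have h2 := trivial_of_deg_one (isCharacter_of_isIrrCharacter χ.2) h1 n hn
    have h3 := hχ ⟨n, hn⟩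
    rw [h1, mul_one] at h3
    have h4 : ((μ ⟨n, hn⟩ : ℂˣ) : ℂ) = 1 := by rw [← h3]; exact h2
    have h5 := hμ ⟨n, hn⟩
    rw [h4, one_mul] at h5
    exact h5
  -- uniqueness for a fixed `z`
  have key : ∀ (z : L) (θ₀ : E → ℂ), ZP hE Y L θ₀ z → ∀ χ₁ χ₂ : IrrCharacter E,
      conjOn hE (z : G) χ₁ = χ₁ → conjOn hE (z : G) χ₂ = χ₂ →
      (∀ n : commutator E, (χ₁ : E → ℂ) n = ((μ n : ℂˣ) : ℂ) * (χ₁ : E → ℂ) 1) →
      (∀ n : commutator E, (χ₂ : E → ℂ) n = ((μ n : ℂˣ) : ℂ) * (χ₂ : E → ℂ) 1) → χ₁ = χ₂ := by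
    rintro z θ₀ ⟨-, -, ⟨q, k, hq, hzq, hqE⟩, hzc, hzf⟩ χ₁ χ₂ h1 h2 o1 o2
    have := hE
    let α : MulAut E := MulAut.conjNormal (z : G)
    have hα : ∀ x : E, ((α x : E) : G) = z * x * (z : G)⁻¹ := fun x => MulAut.conjNormal_apply _ _
    have hαpow : α ^ (q ^ k) = 1 := by
      change (MulAut.conjNormal (z : G)) ^ (q ^ k) = 1
      rw [← map_pow, hzq, map_one]
    have hαN : ∀ n ∈ commutator E, α n = n := by
      intro n hn
      apply Subtype.ext
      rw [hα, hzc n ((hmemN n).2 hn)]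
      group
    have hfix : ∀ x, α x = x → x ∈ commutator E := by
      intro x hx
      apply (hmemN x).1
      apply hzf x x.2
      have h3 := congrArg Subtype.val hx
      rw [hα] at h3
      exact mul_inv_eq_iff_eq_mul.1 h3
    have hαN' : ∀ n ∈ commutator E, α n ∈ commutator E := fun n hn => by
      rw [hαN n hn]; exact hn
    have hcard : ¬ q ∣ Nat.card E := hqE
    obtain ⟨χ₀, -, huq⟩ := unique_fixed_irr hNc α hq hαpow hcard hαN' hfix μ (fun n => by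
      congr 1
      exact Subtype.ext (hαN n n.2))
    have hconv : ∀ χ : IrrCharacter E, conjOn hE (z : G) χ = χ → ∀ x, (χ : E → ℂ) (α x) = (χ : E → ℂ) x := by
      intro χ hχ x
      have h3 := congrFun hχ x
      rw [conjOn_apply] at h3
      rw [← h3]
      congr 1
    rw [huq χ₁ ⟨hconv χ₁ h1, o1⟩, huq χ₂ ⟨hconv χ₂ h2, o2⟩]
  have huniq : ∀ χ : IrrCharacter E,
      (∀ n : commutator E, (χ : E → ℂ) n = ((μ n : ℂˣ) : ℂ) * (χ : E → ℂ) 1) → χ = ⟨θ, hθ⟩ := by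
    intro χ hχ
    obtain ⟨z₁, hz₁⟩ := hZ θ hθ hθ1
    obtain ⟨z₂, hz₂⟩ := hZ χ χ.2 (hnl χ hχ)
    have hcomm : (z₁ : G) * z₂ = z₂ * z₁ := by
      have := congrArg Subtype.val (Cfsg.Agent.Lib.NDF.IIBasic.hZ h z₂ hz₂.1 z₁)
      exact this
    have hfixc : conjOn hE (z₂ : G) (conjOn hE (z₁ : G) (χ : E → ℂ)) = conjOn hE (z₁ : G) (χ : E → ℂ) := by
      rw [← conjOn_mul, hcomm, conjOn_mul, hz₂.2.1]
    have hctr : ∀ n : E, n ∈ commutator E → conjOn hE (z₁ : G) (χ : E → ℂ) n = (χ : E → ℂ) n := by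
      intro n hn
      have h9 : (⟨(z₁ : G) * n * (z₁ : G)⁻¹, hE.conj_mem n n.2 z₁⟩ : E) = n := by
        apply Subtype.ext
        change (z₁ : G) * n * (z₁ : G)⁻¹ = n
        rw [hz₁.2.2.2.1 n ((hmemN n).2 hn)]
        group
      rw [conjOn_apply, h9]
    have hconj : (⟨conjOn hE (z₁ : G) (χ : E → ℂ), isIrrCharacter_conjOn hE (z₁ : G) χ.2⟩ : IrrCharacter E) = χ := by
      apply key z₂ χ hz₂ _ _ hfixc hz₂.2.1 _ hχ
      intro n
      change conjOn hE (z₁ : G) (χ : E → ℂ) n = _ * conjOn hE (z₁ : G) (χ : E → ℂ) 1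
      rw [hctr n n.2, hctr 1 (one_mem _)]
      exact hχ n
    have hχfix : conjOn hE (z₁ : G) (χ : E → ℂ) = χ := congrArg Subtype.val hconj
    exact key z₁ θ hz₁ χ ⟨θ, hθ⟩ hχfix hz₁.2.1 hχ hμ
  exact unique_over hNc μ ⟨θ, hθ⟩ hμ huniq

end Cfsg.Agent.Lib.NDF.IIM3
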