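import Cfsg.Agent.Lib.NDF.IIS1
import Cfsg.Agent.Lib.NDF.IIS3
import Cfsg.Agent.Lib.NDF.IIS5
import Cfsg.Agent.Lib.NDF.IIM3
import Cfsg.Agent.Lib.NDF.IIM4
import Cfsg.Agent.Lib.NDF.IIM5
import Cfsg.Agent.Lib.NDF.StQuot

/-!
# S4780, block II: assembly.
-/

set_option autoImplicit false
set_option linter.unusedSectionVars false
set_option linter.style.haveILetI false

namespace Cfsg.Agent.Lib.NDF.CaseII

open Cfsg Cfsg.Agent.Lib.NoDiv.Defs Cfsg.Agent.Lib.NDF.Defs Cfsg.Agent.Lib.NDF.IIDefs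
open Cfsg.Agent.Lib.NoDiv.XLemma Cfsg.Agent.Lib.NDF.IIBasic Cfsg.Agent.Lib.NDF.IIChar
open Cfsg.Agent.Lib.NDF.IIS1 Cfsg.Agent.Lib.NDF.IIS3 Cfsg.Agent.Lib.NDF.IIS5 Cfsg.Agent.Lib.NDF.IIM1
open Cfsg.Agent.Lib.NDF.IIM2 Cfsg.Agent.Lib.NDF.IIM3 Cfsg.Agent.Lib.NDF.IIM4 Cfsg.Agent.Lib.NDF.IIM5
open Cfsg.Agent.Lib.Char.Basic Cfsg.Agent.Lib.Char.Conj Cfsg.Agent.Lib.Char.CliffordCorr
open Cfsg.Agent.Lib.Char.Ortho Cfsg.Agent.Lib.Char.Degree Cfsg.Agent.Lib.Char.Linear
open Cfsg.Agent.Lib.NoDiv.Camina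
open scoped commutatorElement

universe u

variable {G : Type u} [Group G] {H Y E L : Subgroup G}

/-- S4: `E'` is not a minimal normal subgroup. -/
theorem E2_min [Finite G] [Group.IsSolvable G] (h : IID H Y E L)
    (hmin : Chief ⊥ (⁅E, E⁆ : Subgroup G)) : False := by
  classical
  letI : Fintype G := Fintype.ofFinite _
  letI : Fintype E := Fintype.ofFinite _
  letI : Fintype (commutator E) := Fintype.ofFinite _
  have hE := en h
  obtain ⟨R₂, d₀, hS, hirr⟩ := s3 h hE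
  have hZ : ∀ θ : E → ℂ, IsIrrCharacter E θ → θ 1 ≠ 1 → ∃ z : L, ZP hE Y L θ z :=
    fun θ hθ h1 => z_props h hE hS hirr hmin hθ h1
  have hv := fun (θ : E → ℂ) (hθ : IsIrrCharacter E θ) (h1 : θ 1 ≠ 1) =>
    vanish_nonlinear h hE hZ hmin hθ h1
  obtain ⟨-, hcent, r, hr, hel⟩ := min_struct h hmin
  have hmemE : ∀ c : E, (c : G) ∈ (⁅E, E⁆ : Subgroup G) ↔ c ∈ commutator E := mem_comm_iff
  have hne : commutator E ≠ ⊥ := by
    intro h0
    apply hmin.ne
    symm
    rw [eq_bot_iff, Subgroup.commutator_le]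
    intro a ha b hb
    have h1 : (⟨a, ha⟩ : E) * ⟨b, hb⟩ * (⟨a, ha⟩ : E)⁻¹ * (⟨b, hb⟩ : E)⁻¹ ∈ commutator E :=
      Subgroup.commutator_mem_commutator (Subgroup.mem_top _) (Subgroup.mem_top _)
    rw [h0] at h1
    have h2 := congrArg Subtype.val (Subgroup.mem_bot.1 h1)
    simpa [commutatorElement_def] using h2
  have hZc : ∀ e ∈ commutator E, ∀ x : E, x * e = e * x := by
    intro e he x
    apply Subtype.ext
    exact (hcent e ((hmemE e).2 he) x x.2).symm
  have helc : ∀ e ∈ commutator E, e ^ r = 1 := by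
    intro e he
    apply Subtype.ext
    have := hel e ((hmemE e).2 he)
    simpa using this
  have hbeis := beis hr hZc helc hne (fun θ hθ h1 x hx => (hv θ hθ h1).2 x hx)
  -- a nonlinear character
  obtain ⟨θ, hθ, hθ1⟩ : ∃ θ : E → ℂ, IsIrrCharacter E θ ∧ θ 1 ≠ 1 := by
    by_contra hcon
    push Not at hcon
    apply hne
    rw [eq_bot_iff, commutator_def, Subgroup.commutator_le]
    intro a _ b _
    have hcomm : ∀ a b : E, a * b = b * a :=
      comm_iff_all_deg_one.2 (fun χ => hcon χ.1 χ.2)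
    rw [Subgroup.mem_bot, commutatorElement_def, hcomm a b]
    group
  have h1 := (hv θ hθ hθ1).1
  have hd : θ 1 = (charDegree θ : ℕ) := (charDegree_natCast (isCharacter_of_isIrrCharacter hθ)).symm
  rw [hd] at h1
  have hv' : charDegree θ ^ 2 = (commutator E).index := by exact_mod_cast h1
  exact final_count h hE hS hne hv' hbeis

/-- (II) The case `π(E) ∩ π(A) = ∅`. -/
theorem caseII [Finite G] [Group.IsSolvable G] (s : St H Y) (hE1 : (⁅H, H⁆ : Subgroup G) ≠ ⊥)
    (hII : ∀ p : ℕ, p.Prime → p ∣ Y.relIndex H → ¬ p ∣ Nat.card (⁅H, H⁆ : Subgroup G)) :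
    Nat.card (charDegrees G) ≤ 4 ∧ (⁅(⁅H, H⁆ : Subgroup G), (⁅H, H⁆ : Subgroup G)⁆ : Subgroup G) = ⊥ := by
  classical
  letI : Fintype G := Fintype.ofFinite _
  have hcam := StChar.St.cam s
  have hidx := StChar.St.index_mem s
  haveI hHn : H.Normal := s.nH
  haveI hEn : (⁅H, H⁆ : Subgroup G).Normal := Subgroup.commutator_normal H H
  haveI hE2n : (⁅(⁅H, H⁆ : Subgroup G), (⁅H, H⁆ : Subgroup G)⁆ : Subgroup G).Normal :=
    Subgroup.commutator_normal _ _
  obtain ⟨L, h⟩ := exists_L s hE1 hII hcam hidx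
  have hE2 : (⁅(⁅H, H⁆ : Subgroup G), (⁅H, H⁆ : Subgroup G)⁆ : Subgroup G) = ⊥ := by
    by_contra hne
    obtain ⟨K, -, hK⟩ := Cfsg.Agent.Lib.NoDiv.Deep1.exists_chief (N := ⊥) Subgroup.normal_bot hE2n bot_le
      (Ne.symm hne)
    haveI hKn := hK.nK
    have hKE : K ≤ ⁅H, H⁆ := hK.le.trans (Subgroup.commutator_le_left _ _)
    have s' := StQuot.St.quot s hKE
    let π := QuotientGroup.mk' K
    have hπs : Function.Surjective π := QuotientGroup.mk'_surjective K
    have hcomm1 : (⁅H.map π, H.map π⁆ : Subgroup (G ⧸ K)) = (⁅H, H⁆ : Subgroup G).map π :=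
      (Subgroup.map_commutator _ _ _).symm
    have hcomm2 : (⁅(⁅H.map π, H.map π⁆ : Subgroup (G ⧸ K)), (⁅H.map π, H.map π⁆ : Subgroup (G ⧸ K))⁆ :
        Subgroup (G ⧸ K)) = (⁅(⁅H, H⁆ : Subgroup G), (⁅H, H⁆ : Subgroup G)⁆ : Subgroup G).map π := by
      rw [hcomm1, ← Subgroup.map_commutator]
    have hkerπ : π.ker = K := QuotientGroup.ker_mk' K
    have hmemK : ∀ x, π x = 1 ↔ x ∈ K := fun x => QuotientGroup.eq_one_iff x
    have hmap_eq_bot : ∀ A : Subgroup G, A.map π = ⊥ → A ≤ K := by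
      intro A h0
      have := (Subgroup.map_eq_bot_iff (f := π) (H := A)).1 h0
      rwa [hkerπ] at this
    have hE1' : (⁅H.map π, H.map π⁆ : Subgroup (G ⧸ K)) ≠ ⊥ := by
      rw [hcomm1]
      intro h0
      have h1 := hmap_eq_bot _ h0
      exact hK.ne (le_antisymm hK.le ((Subgroup.commutator_le_left _ _).trans h1))
    have hKY : K ≤ Y := hKE.trans (E_le_Y h)
    have hYH : Y ≤ H := s.YH
    have hrel : (Y.map π).relIndex (H.map π) = Y.relIndex H := by
      rw [Subgroup.relIndex_map_map, hkerπ, sup_eq_left.2 hKY, sup_eq_left.2 (hKY.trans hYH)]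
    have hII' : ∀ p : ℕ, p.Prime → p ∣ (Y.map π).relIndex (H.map π) →
        ¬ p ∣ Nat.card (⁅H.map π, H.map π⁆ : Subgroup (G ⧸ K)) := by
      intro p hp hd hd'
      rw [hrel] at hd
      rw [hcomm1] at hd'
      exact hII p hp hd (hd'.trans (Subgroup.card_map_dvd _ _))
    obtain ⟨L', h'⟩ := exists_L s' hE1' hII' (StChar.St.cam s') (StChar.St.index_mem s')
    haveI hE'n : (⁅H.map π, H.map π⁆ : Subgroup (G ⧸ K)).Normal := by
      haveI := s'.nH
      exact Subgroup.commutator_normal _ _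
    refine E2_min h' ⟨Subgroup.normal_bot, Subgroup.commutator_normal _ _, bot_le, ?_, ?_⟩
    · rw [hcomm2]
      intro h0
      exact hK.ne (le_antisymm hK.le (hmap_eq_bot _ h0.symm))
    · intro N hN _ hNT
      rw [hcomm2] at hNT ⊢
      have hc1 : (N.comap π).Normal := hN.comap π
      have hc2 : K ≤ N.comap π := fun x hx => by
        change π x ∈ N
        rw [(hmemK x).2 hx]
        exact N.one_mem
      have hc3 : N.comap π ≤ (⁅(⁅H, H⁆ : Subgroup G), (⁅H, H⁆ : Subgroup G)⁆ : Subgroup G) := by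
        intro x hx
        obtain ⟨y, hy, hyx⟩ := hNT hx
        have h1 : y⁻¹ * x ∈ K := by
          apply (hmemK _).1
          rw [map_mul, map_inv, inv_mul_eq_one]
          exact hyx
        have := Subgroup.mul_mem _ hy (hK.le h1)
        simpa using this
      rcases hK.min _ hc1 hc2 hc3 with h1 | h1
      · left
        rw [eq_bot_iff]
        intro n hn
        obtain ⟨x, rfl⟩ := hπs n
        have h2 : x ∈ N.comap π := hn
        rw [h1] at h2
        exact (hmemK x).2 h2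
      · right
        apply le_antisymm hNT
        rintro _ ⟨y, hy, rfl⟩
        have h2 : y ∈ N.comap π := by
          rw [h1]
          exact hy
        exact h2
  -- the degrees
  letI : Fintype (⁅H, H⁆ : Subgroup G) := Fintype.ofFinite _
  obtain ⟨R₂, d₀, hS, hirr⟩ := s3 h hEn
  have hab : ∀ a ∈ (⁅H, H⁆ : Subgroup G), ∀ b ∈ (⁅H, H⁆ : Subgroup G), a * b = b * a := by
    intro a ha b hb
    have h1 : ⁅a, b⁆ ∈ (⁅(⁅H, H⁆ : Subgroup G), (⁅H, H⁆ : Subgroup G)⁆ : Subgroup G) :=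
      Subgroup.commutator_mem_commutator ha hb
    rw [hE2, Subgroup.mem_bot, commutatorElement_def] at h1
    have h2 : a * b * a⁻¹ = b := mul_inv_eq_one.1 h1
    exact mul_inv_eq_iff_eq_mul.1 h2
  have hq : ∀ d ∈ charDegrees (G ⧸ (⁅H, H⁆ : Subgroup G)), d = 1 ∨ d = H.index := by
    have s'' := StQuot.St.quot s (le_refl (⁅H, H⁆ : Subgroup G))
    let π := QuotientGroup.mk' (⁅H, H⁆ : Subgroup G)
    have hbot : (⁅H.map π, H.map π⁆ : Subgroup (G ⧸ (⁅H, H⁆ : Subgroup G))) = ⊥ := by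
      rw [← Subgroup.map_commutator, Subgroup.map_eq_bot_iff, QuotientGroup.ker_mk']
    have h1 := StQuot.St.noE s'' hbot
    have hidxE : (H.map π).index = H.index := by
      have h2 := Subgroup.index_comap_of_surjective (H.map π) (QuotientGroup.mk'_surjective (⁅H, H⁆ : Subgroup G))
      rw [← h2, Subgroup.comap_map_eq, QuotientGroup.ker_mk', sup_eq_left.2 (Subgroup.commutator_le_left _ _)]
    intro d hd
    rw [← hidxE]
    exact h1 d hd
  have hsub := s5 h hEn hS hirr hab (hq_of_quot hq)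
  refine ⟨?_, hE2⟩
  have hsub' : charDegrees G ⊆ (({1, H.index, d₀} : Finset ℕ) : Set ℕ) := by
    intro d hd
    simpa using hsub d hd
  calc Nat.card (charDegrees G) = (charDegrees G).ncard := Nat.card_coe_set_eq _
    _ ≤ (({1, H.index, d₀} : Finset ℕ) : Set ℕ).ncard := Set.ncard_le_ncard hsub' (Finset.finite_toSet _)
    _ = ({1, H.index, d₀} : Finset ℕ).card := Set.ncard_coe_finset _
    _ ≤ 3 := Finset.card_le_three
    _ ≤ 4 := by norm_num

end Cfsg.Agent.Lib.NDF.CaseII
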