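import Cfsg.Agent.Lib.NDF.IDefs
import Cfsg.Agent.Lib.NoDiv.Main

/-!
# S4780, (IG), the core: `E` central in `G`.
-/

set_option autoImplicit false
set_option linter.unusedSectionVars false

namespace Cfsg.Agent.Lib.NDF.CentralCore

open Cfsg Cfsg.Agent.Lib.NoDiv.Defs Cfsg.Agent.Lib.NDF.Defs Cfsg.Agent.Lib.NDF.IDefs
open Cfsg.Agent.Lib.Char.Basic Cfsg.Agent.Lib.Char.Conj Cfsg.Agent.Lib.Char.CliffordCorr
open Cfsg.Agent.Lib.Char.Clifford
open Cfsg.Agent.Lib.Char.Linear Cfsg.Agent.Lib.Char.Degree Cfsg.Agent.Lib.Char.Ortho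
open Cfsg.Agent.Lib.Char.Induced Cfsg.Agent.Lib.Char.Complete

universe u

variable {G : Type u} [Group G] {H Y P Q C₁ : Subgroup G} {p : ℕ}

/-- A constituent over a central subgroup on which `χ` is not trivial. -/
theorem exists_eta [Fintype G] {F E : Subgroup G} [Fintype F] (hFn : F.Normal) (hEF : E ≤ F)
    (hc : ∀ g : G, ∀ e ∈ E, g * e * g⁻¹ * e⁻¹ = 1) {χ : G → ℂ} (hχ : IsIrrCharacter G χ)
    {e : G} (he : e ∈ E) (hne : χ e ≠ χ 1) :
    ∃ η : F → ℂ, IsIrrCharacter F η ∧ classInner (fun f : F => χ f) η ≠ 0 ∧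
      ∃ e' : F, (e' : G) ∈ E ∧ η e' ≠ η 1 := by
  classical
  have hres : IsCharacter F (fun n : F => χ n) :=
    isCharacter_restrict F (isCharacter_of_isIrrCharacter hχ)
  have hne0 : (fun n : F => χ n) ≠ 0 := by
    intro h
    have h1 := congrFun h 1
    exact irr_one_ne_zero hχ (by simpa using h1)
  obtain ⟨η, hη, hcη⟩ := exists_irr_constituent (isClassFunction_of_isCharacter hres) hne0
  refine ⟨η, hη, hcη, ?_⟩
  by_contra hcon
  push Not at hcon
  apply hne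
  have hcl := clifford_restrict hFn hχ hη hcη
  have hcentral : ∀ g : G, g * e * g⁻¹ = e := by
    intro g
    have := hc g e he
    exact mul_inv_eq_one.mp this
  have h1 := congrFun hcl ⟨e, hEF he⟩
  have h2 := congrFun hcl 1
  simp only [Pi.smul_apply, Finset.sum_apply, smul_eq_mul] at h1 h2
  have hsum : ∑ ψ ∈ orbitFinset hFn η, ψ ⟨e, hEF he⟩ = ∑ ψ ∈ orbitFinset hFn η, ψ 1 := by
    apply Finset.sum_congr rfl
    intro ψ hψ
    obtain ⟨g, rfl⟩ := (mem_orbitFinset hFn η ψ).mp hψ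
    have hv : conjOn hFn g η ⟨e, hEF he⟩ = η ⟨e, hEF he⟩ := by
      show η ⟨g * e * g⁻¹, _⟩ = _
      congr 1
      exact Subtype.ext (hcentral g)
    rw [hv, conjOn_apply_one, hcon ⟨e, hEF he⟩ he]
  have h3 : χ ((1 : F) : G) = χ 1 := rfl
  rw [← h3, h2, h1, hsum]

/-- Conjugation by `g` on `F = E C₁` is inner when `E` is central. -/
theorem conj_inner (I : I1D H p P Q C₁) (hc : ∀ g : G, ∀ e ∈ (⁅H, H⁆ : Subgroup G), g * e * g⁻¹ * e⁻¹ = 1)
    {F : Subgroup G} (hF : F = ⁅H, H⁆ ⊔ C₁) (g f : G) (hf : f ∈ F) :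
    ∃ z ∈ F, g * f * g⁻¹ = z * f * z⁻¹ := by
  haveI hnC := I.nC
  have hcentral : ∀ (g e : G), e ∈ (⁅H, H⁆ : Subgroup G) → g * e = e * g := by
    intro g e he
    have := hc g e he
    exact mul_inv_eq_iff_eq_mul.mp (mul_inv_eq_one.mp this)
  rw [hF] at hf ⊢
  have hf' : f ∈ ((⁅H, H⁆ ⊔ C₁ : Subgroup G) : Set G) := hf
  rw [Subgroup.mul_normal, Set.mem_mul] at hf'
  obtain ⟨e, he, c, hc', rfl⟩ := hf'
  obtain ⟨u, hu, q, hq, rfl⟩ := I.dec g
  obtain ⟨d, hd, z, hz, rfl⟩ := I.PWC u hu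
  refine ⟨z, Subgroup.mem_sup_right hz, ?_⟩
  have hqc : q * c = c * q := ((I.mC c).mp hc').2 q hq
  have hzcz : z * c * z⁻¹ ∈ C₁ := hnC.conj_mem c hc' z
  have hdz : d * (z * c * z⁻¹) = (z * c * z⁻¹) * d := I.WC d hd _ hzcz
  have e1 : d * z * q * (e * c) * (d * z * q)⁻¹ = e * (d * z * (q * c * q⁻¹) * z⁻¹ * d⁻¹) := by
    have hde : d * z * q * e = e * (d * z * q) := hcentral _ e he
    calc d * z * q * (e * c) * (d * z * q)⁻¹ = (d * z * q * e) * c * (d * z * q)⁻¹ := by group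
      _ = (e * (d * z * q)) * c * (d * z * q)⁻¹ := by rw [hde]
      _ = _ := by group
  have e2 : q * c * q⁻¹ = c := by rw [hqc]; group
  have e3 : d * z * c * z⁻¹ * d⁻¹ = z * c * z⁻¹ := by
    calc d * z * c * z⁻¹ * d⁻¹ = d * (z * c * z⁻¹) * d⁻¹ := by group
      _ = (z * c * z⁻¹) * d * d⁻¹ := by rw [hdz]
      _ = _ := by group
  have e4 : z * (e * c) * z⁻¹ = e * (z * c * z⁻¹) := by
    have hze : z * e = e * z := hcentral z e he
    calc z * (e * c) * z⁻¹ = (z * e) * c * z⁻¹ := by group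
      _ = (e * z) * c * z⁻¹ := by rw [hze]
      _ = _ := by group
  rw [e1, e2, e4, ← e3]

/-- The inertia group of a character of `F = E C₁` is everything when `E` is central. -/
theorem inertia_top (I : I1D H p P Q C₁) (hc : ∀ g : G, ∀ e ∈ (⁅H, H⁆ : Subgroup G), g * e * g⁻¹ * e⁻¹ = 1)
    {F : Subgroup G} (hFn : F.Normal) (hF : F = ⁅H, H⁆ ⊔ C₁) {η : F → ℂ} (hη : IsClassFunction F η) :
    inertia hFn η = ⊤ := by
  rw [eq_top_iff]
  intro g _
  rw [mem_inertia]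
  funext f
  obtain ⟨z, hz, e⟩ := conj_inner I hc hF g f f.2
  show η ⟨g * f * g⁻¹, _⟩ = η f
  rw [← hη f ⟨z, hz⟩]
  congr 1
  exact Subtype.ext e

/-- (IG), the core. -/
theorem central_core [Fintype G] [(⁅H, H⁆ : Subgroup G).Normal] (s : St H Y) (hp : p.Prime) (I : I1D H p P Q C₁)
    (hc : ∀ g : G, ∀ e ∈ (⁅H, H⁆ : Subgroup G), g * e * g⁻¹ * e⁻¹ = 1)
    (hno : ∀ d ∈ charDegrees (G ⧸ (⁅H, H⁆ : Subgroup G)), d = 1 ∨ d = H.index)
    {F : Subgroup G} [Fintype F] (hFn : F.Normal) (hF : F = ⁅H, H⁆ ⊔ C₁)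
    (hdeg : ∃ s₀ : ℕ, 1 < s₀ ∧ (∃ k, s₀ = p ^ k) ∧
      ∀ η : F → ℂ, IsIrrCharacter F η → (∃ e : F, (e : G) ∈ (⁅H, H⁆ : Subgroup G) ∧ η e ≠ η 1) →
        ∀ χ : G → ℂ, IsIrrCharacter G χ → classInner (fun f : F => χ f) η ≠ 0 →
          charDegree χ = (inertia hFn η).index * (s₀ * charDegree η)) :
    Nat.card (charDegrees G) ≤ 4 := by
  classical
  haveI : Fact p.Prime := ⟨hp⟩
  haveI := I.nP
  obtain ⟨s₀, hs₀, ⟨k₀, hk₀⟩, hd⟩ := hdeg
  have hEF : (⁅H, H⁆ : Subgroup G) ≤ F := by rw [hF]; exact le_sup_left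
  have hFP : F ≤ P := by
    rw [hF]
    refine sup_le ?_ (fun z hz => ((I.mC z).1 hz).1)
    rw [← I.PP]
    exact Subgroup.commutator_le_left _ _
  have hFp : IsPGroup p F := I.Pp.to_le hFP
  have hmain : ∀ d ∈ charDegrees G, d = 1 ∨ d = H.index ∨ (1 < d ∧ ∃ k, d = p ^ k) := by
    rintro d ⟨⟨χ, hχ⟩, rfl⟩
    by_cases hall : ∀ e ∈ (⁅H, H⁆ : Subgroup G), χ e = χ 1
    · -- the character lives on `G / E`
      let π := QuotientGroup.mk' (⁅H, H⁆ : Subgroup G)
      have hπs : Function.Surjective π := QuotientGroup.mk'_surjective _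
      obtain ⟨φ, hφ, hφe⟩ := isIrrCharacter_descend π hπs hχ (by
        intro k hk
        apply hall
        rw [QuotientGroup.ker_mk'] at hk
        exact hk)
      have hdeg1 : charDegree χ = charDegree φ := by
        subst hφe
        simp [charDegree]
      have hmem : charDegree φ ∈ charDegrees (G ⧸ (⁅H, H⁆ : Subgroup G)) := ⟨⟨φ, hφ⟩, rfl⟩
      show charDegree χ = 1 ∨ charDegree χ = H.index ∨ _
      rw [hdeg1]
      rcases hno _ hmem with h | h
      · exact Or.inl h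
      · exact Or.inr (Or.inl h)
    · push Not at hall
      obtain ⟨e, he, hne⟩ := hall
      obtain ⟨η, hη, hcη, e', he', hne'⟩ := exists_eta hFn hEF hc hχ he hne
      have h1 := hd η hη ⟨e', he', hne'⟩ χ hχ hcη
      rw [inertia_top I hc hFn hF (isClassFunction_of_isIrrCharacter hη), Subgroup.index_top, one_mul] at h1
      obtain ⟨n, hn⟩ := IsPGroup.iff_card.mp hFp
      have hdvd : charDegree η ∣ p ^ n := hn ▸ charDegree_dvd_card hη
      obtain ⟨j, _, hj⟩ := (Nat.dvd_prime_pow hp).mp hdvd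
      right
      right
      show 1 < charDegree χ ∧ ∃ k, charDegree χ = p ^ k
      rw [h1, hj, hk₀]
      refine ⟨?_, k₀ + j, (pow_add _ _ _).symm⟩
      have h2 : 1 < p ^ k₀ := by rw [← hk₀]; exact hs₀
      have h3 : 0 < p ^ j := pow_pos hp.pos _
      nlinarith
  have huniq : ∀ a ∈ charDegrees G, ∀ b ∈ charDegrees G, (1 < a ∧ ∃ k, a = p ^ k) →
      (1 < b ∧ ∃ k, b = p ^ k) → a = b := by
    have key : ∀ a ∈ charDegrees G, ∀ b ∈ charDegrees G, (1 < a ∧ ∃ k, a = p ^ k) →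
        (1 < b ∧ ∃ k, b = p ^ k) → ¬ a < b := by
      rintro a ha b hb ⟨ha1, k, hk⟩ ⟨hb1, l, hl⟩ hlt
      refine s.nd a ha b hb ha1 hlt ?_
      rw [hk, hl]
      apply pow_dvd_pow
      have : p ^ k < p ^ l := by rw [← hk, ← hl]; exact hlt
      exact ((Nat.pow_lt_pow_iff_right hp.one_lt).1 this).le
    intro a ha b hb h1 h2
    have h3 := key a ha b hb h1 h2
    have h4 := key b hb a ha h2 h1
    omega
  -- count
  rw [Nat.card_coe_set_eq]
  by_cases hD : ∃ D ∈ charDegrees G, 1 < D ∧ ∃ k, D = p ^ k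
  · obtain ⟨D, hDm, hD1⟩ := hD
    have hsub : charDegrees G ⊆ (({1, H.index, D} : Finset ℕ) : Set ℕ) := by
      intro d hd'
      simp only [Finset.coe_insert, Finset.coe_singleton, Set.mem_insert_iff, Set.mem_singleton_iff]
      rcases hmain d hd' with h | h | h
      · exact Or.inl h
      · exact Or.inr (Or.inl h)
      · exact Or.inr (Or.inr (huniq d hd' D hDm h hD1))
    have h1 := Set.ncard_le_ncard hsub (Finset.finite_toSet _)
    rw [Set.ncard_coe_finset] at h1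
    have h3 : ({1, H.index, D} : Finset ℕ).card ≤ 3 := Finset.card_le_three
    omega
  · have hsub : charDegrees G ⊆ (({1, H.index} : Finset ℕ) : Set ℕ) := by
      intro d hd'
      simp only [Finset.coe_insert, Finset.coe_singleton, Set.mem_insert_iff, Set.mem_singleton_iff]
      rcases hmain d hd' with h | h | h
      · exact Or.inl h
      · exact Or.inr h
      · exact (hD ⟨d, hd', h⟩).elim
    have h1 := Set.ncard_le_ncard hsub (Finset.finite_toSet _)
    rw [Set.ncard_coe_finset] at h1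
    have h3 : ({1, H.index} : Finset ℕ).card ≤ 2 := Finset.card_le_two
    omega

end Cfsg.Agent.Lib.NDF.CentralCore
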