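import Cfsg.Agent.Lib.NDF.IIBasic
import Cfsg.Agent.Lib.NDF.ChiefE
import Cfsg.Agent.Lib.NoDiv.Main

/-!
# S4780, block II, S4 (M1): `E'` minimal normal: `E` nilpotent, `E'` central in `E`, elementary.

`NoDiv.Main.nil_E` with `z ∈ BL` of prime order (`IID.cam`, `cop_BE`). `⁅E', E⁆` is normal in `G`, `≤ E'`, `≠ E'` by nilpotency, so `⊥`
(`Chief.min`). `ChiefE.chief_elem`.
-/

set_option autoImplicit false
set_option linter.unusedSectionVars false

namespace Cfsg.Agent.Lib.NDF.IIM1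

open Cfsg Cfsg.Agent.Lib.NoDiv.Defs Cfsg.Agent.Lib.NDF.Defs Cfsg.Agent.Lib.NDF.IIDefs
open Cfsg.Agent.Lib.NDF.IIBasic
open scoped commutatorElement

universe u

variable {G : Type u} [Group G] {H Y E L : Subgroup G}

/-- In a nilpotent normal subgroup, `⁅A, E⁆ = A` forces `A = ⊥`. -/
theorem eq_bot_of_comm_self (hnil : Group.IsNilpotent E) {A : Subgroup G} (hA : A ≤ E)
    (hAE : (⁅A, E⁆ : Subgroup G) = A) : A = ⊥ := by
  let A' : Subgroup E := A.subgroupOf E
  have hmap : A'.map E.subtype = A := by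
    exact Subgroup.map_subgroupOf_eq_of_le hA
  have hcomm : (⁅A', (⊤ : Subgroup E)⁆ : Subgroup E) = A' := by
    apply Subgroup.map_injective E.subtype_injective
    rw [Subgroup.map_commutator, hmap]
    have h1 : (⊤ : Subgroup E).map E.subtype = E := by
      rw [← MonoidHom.range_eq_map, Subgroup.range_subtype]
    rw [h1, hAE]
  have hle : ∀ n, A' ≤ (⊤ : Subgroup E).lowerCentralSeries n := by
    intro n
    induction n with
    | zero => exact le_top
    | succ n ih =>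
      rw [← hcomm]
      exact Subgroup.commutator_mono ih le_top
  obtain ⟨n, hn⟩ := (Subgroup.nilpotent_iff_lowerCentralSeries).mp hnil
  have h2 : A' = ⊥ := le_bot_iff.mp (hn ▸ hle n)
  rw [← hmap, h2, Subgroup.map_bot]

/-- M1. -/
theorem min_struct [Finite G] [Group.IsSolvable G] (h : IID H Y E L) (hmin : Chief ⊥ (⁅E, E⁆ : Subgroup G)) :
    Group.IsNilpotent E ∧ (∀ a ∈ (⁅E, E⁆ : Subgroup G), ∀ b ∈ E, a * b = b * a) ∧
      ∃ r : ℕ, r.Prime ∧ ∀ a ∈ (⁅E, E⁆ : Subgroup G), a ^ r = 1 := by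
  classical
  have hEn : E.Normal := en h
  obtain ⟨z₀, hz₀, hz₀1⟩ : ∃ z : L, z ∈ BL L ∧ z ≠ 1 := by
    obtain ⟨z, hz, hz1⟩ := (Subgroup.bot_or_exists_ne_one (BL L)).resolve_left (BL_ne h)
    exact ⟨z, hz, hz1⟩
  have hord : orderOf z₀ ≠ 1 := by
    rwa [Ne, orderOf_eq_one_iff]
  obtain ⟨p, hp, hpd⟩ := Nat.exists_prime_and_dvd hord
  have hzord : orderOf (z₀ ^ (orderOf z₀ / p)) = p :=
    orderOf_pow_orderOf_div (orderOf_pos z₀).ne' hpd
  obtain ⟨z, hzdef⟩ : ∃ z, z = z₀ ^ (orderOf z₀ / p) := ⟨_, rfl⟩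
  rw [← hzdef] at hzord
  have hzB : z ∈ BL L := by
    rw [hzdef]
    exact (BL L).pow_mem hz₀ _
  have hzp : z ^ p = 1 := by
    rw [← hzord]
    exact pow_orderOf_eq_one z
  have hz1 : z ≠ 1 := by
    intro hh
    rw [hh, orderOf_one] at hzord
    exact hp.one_lt.ne hzord
  have hpB : p ∣ Nat.card (BL L) := by
    have h1 := Subgroup.orderOf_dvd_natCard (BL L) hzB
    rwa [hzord] at h1
  have hpE : ¬ p ∣ Nat.card E := by
    intro hh
    have h1 := Nat.dvd_gcd hpB hh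
    have h2 : Nat.gcd (Nat.card (BL L)) (Nat.card E) = 1 := cop_BE h
    rw [h2] at h1
    exact hp.one_lt.ne' (Nat.dvd_one.mp h1)
  have hzG : (z : G) ∈ commutator G := hzB
  have hzH : (z : G) ∈ H := G'_le_H h hzG
  have hzY : (z : G) ∉ Y := by
    intro hh
    exact hz1 (hBY h z hzB hh)
  have hnil : Group.IsNilpotent E := by
    refine Cfsg.Agent.Lib.NoDiv.Main.nil_E hEn hp hpE (z := (z : G)) ?_ ?_ ?_
    · have := congrArg Subtype.val hzp
      simpa using this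
    · intro hh
      exact hz1 (Subtype.ext hh)
    · intro e he
      obtain ⟨b, -, hb⟩ := h.cam z hzH hzY e he
      exact ⟨b, hb⟩
  have hE'n : (⁅E, E⁆ : Subgroup G).Normal := hmin.nL
  have hNn : (⁅(⁅E, E⁆ : Subgroup G), E⁆ : Subgroup G).Normal := Subgroup.commutator_normal _ _
  have hNle : (⁅(⁅E, E⁆ : Subgroup G), E⁆ : Subgroup G) ≤ ⁅E, E⁆ := Subgroup.commutator_le_left _ _
  have hE'E : (⁅E, E⁆ : Subgroup G) ≤ E := Subgroup.commutator_le_left _ _
  have hN : (⁅(⁅E, E⁆ : Subgroup G), E⁆ : Subgroup G) = ⊥ := by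
    rcases hmin.min _ hNn bot_le hNle with h1 | h1
    · exact h1
    · exact absurd (eq_bot_of_comm_self hnil hE'E h1).symm hmin.ne
  obtain ⟨r, hr, hrr⟩ := Cfsg.Agent.Lib.NDF.ChiefE.chief_elem hmin
  refine ⟨hnil, ?_, r, hr, ?_⟩
  · intro a ha b hb
    have h1 : ⁅a, b⁆ ∈ (⁅(⁅E, E⁆ : Subgroup G), E⁆ : Subgroup G) :=
      Subgroup.commutator_mem_commutator ha hb
    rw [hN, Subgroup.mem_bot] at h1
    exact commutatorElement_eq_one_iff_mul_comm.mp h1
  · intro a ha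
    have := hrr a ha
    simpa using this

end Cfsg.Agent.Lib.NDF.IIM1
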