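import Cfsg.Agent.Lib.NDF.IIChar
import Cfsg.Agent.Lib.NDF.IIM1

/-!
# S4780, block II, S4 (M2): the elements `z_θ`.

`θ` nonlinear. `hirr` (contrapositive) gives `x ∈ L_θ ∩ R`, `x ∉ R₂`; `(x : G) ∈ Y` (`LI_R_le_Y`). Prime power part: some power `z` of `x` of
prime power order `q^k` is `∉ R₂` (split the order of `x` into coprime factors, induct). `z ∈ Y` central in `L` (`hZ`), `z ∈ R`, `z ∉ R₂`:
by `S3D.hR`, `z` fixes no `δ ≠ 1`.
(a) `q ∤ |E : E'|`: `⟨z⟩` is a `q`-group acting on `Hom(E, ℂˣ)` with exactly one fixed point, so `|E : E'| = |V| ≡ 1 mod q`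
(`card_V`, `IsPGroup.card_modEq_card_fixedPoints`).
(b) `q ∤ |E'|`: else `q = r` (`E'` elementary, `≠ 1`), `r ∤ |E : E'|`, so `E' ` is a normal central Hall subgroup of `E`: Schur-Zassenhaus: `E = E' × T`,
so `E' = T' ≤ T`, `E' = 1`. Contradiction. So `q ∤ |E|`.
(c) `e ∈ E`, `[z, e] ∈ E'` ⟹ `e ∈ E'`: the `[z, e']` generate with `E'` a normal subgroup `I ≤ E` (E / E' abelian); if `I ≠ E`, a `δ ≠ 1` trivial on `I`
(`Camina.exists_hom_ne`) is fixed by `z`, contradiction. So `e' ↦ [z, e']` is onto, hence injective on the finite group `E / E'`.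
(d) `z` centralises `E'`: `C_{E'}(z)` is normal in `G` (`E` centralises `E'`, `L` commutes with `z`). If it is `⊥`, (c) gives `C_E(z) = 1`, `fix_trivial`: `θ` trivial. Contradiction.
So it is `E'` (`Chief.min`).
-/

set_option autoImplicit false
set_option linter.unusedSectionVars false

namespace Cfsg.Agent.Lib.NDF.IIM2

open Cfsg Cfsg.Agent.Lib.NoDiv.Defs Cfsg.Agent.Lib.NDF.Defs Cfsg.Agent.Lib.NDF.IIDefs
open Cfsg.Agent.Lib.NoDiv.XLemma Cfsg.Agent.Lib.NDF.IIBasic Cfsg.Agent.Lib.NDF.IIChar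
open Cfsg.Agent.Lib.Char.Basic Cfsg.Agent.Lib.Char.Conj Cfsg.Agent.Lib.Char.CliffordCorr
open Cfsg.Agent.Lib.Char.Ortho Cfsg.Agent.Lib.Char.Degree

universe u

variable {G : Type u} [Group G] {H Y E L : Subgroup G}

/-- The conclusion of `z_props`. -/
def ZP (hE : E.Normal) (Y L : Subgroup G) (θ : E → ℂ) (z : L) : Prop :=
  (z : G) ∈ Y ∧ conjOn hE (z : G) θ = θ ∧
    (∃ q k : ℕ, q.Prime ∧ (z : G) ^ (q ^ k) = 1 ∧ ¬ q ∣ Nat.card E) ∧
    (∀ e ∈ (⁅E, E⁆ : Subgroup G), (z : G) * e = e * z) ∧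
    (∀ e ∈ E, (z : G) * e = e * z → e ∈ (⁅E, E⁆ : Subgroup G))

/-- The prime power part of an element outside a normal subgroup. -/
theorem exists_pp {K : Type*} [Group K] [Finite K] (R : Subgroup K) (hR : R.Normal) {x : K}
    (hx : x ∉ R) : ∃ q k t : ℕ, q.Prime ∧ (x ^ t) ^ (q ^ k) = 1 ∧ x ^ t ∉ R := by
  haveI := hR
  set xb : K ⧸ R := (x : K ⧸ R) with hxb
  have hne : xb ≠ 1 := fun h => hx ((QuotientGroup.eq_one_iff x).mp h)
  have hm : orderOf xb ≠ 1 := fun h => hne (orderOf_eq_one_iff.mp h)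
  have hq := Nat.minFac_prime hm
  set q := (orderOf xb).minFac with hqdef
  have hn : orderOf x ≠ 0 := (orderOf_pos x).ne'
  obtain ⟨k, n', hn', hnn⟩ := Nat.exists_eq_pow_mul_and_not_dvd hn q hq.ne_one
  refine ⟨q, k, n', hq, ?_, ?_⟩
  · rw [← pow_mul, mul_comm, ← hnn, pow_orderOf_eq_one]
  · intro hmem
    have h1 : xb ^ n' = 1 := by
      rw [hxb, ← QuotientGroup.mk_pow]
      exact (QuotientGroup.eq_one_iff _).mpr hmem
    exact hn' ((Nat.minFac_dvd _).trans (orderOf_dvd_of_pow_eq_one h1))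

theorem coe_mem_comm {a : E} : a ∈ commutator E ↔ (a : G) ∈ (⁅E, E⁆ : Subgroup G) := by
  rw [← Subgroup.map_subtype_commutator]
  constructor
  · intro h
    exact Subgroup.mem_map_of_mem _ h
  · rintro ⟨b, hb, hba⟩
    have : b = a := Subtype.ext hba
    rwa [← this]

/-- (a) `q ∤ |Hom(E, ℂˣ)|`. -/
theorem not_dvd_V [Finite G] (hE : E.Normal) {z : L} {q k : ℕ} (hq : q.Prime) (hzq : z ^ (q ^ k) = 1)
    (hfix : ∀ δ : E →* ℂˣ, conjHom hE (z : G) δ = δ → δ = 1) :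
    ¬ q ∣ Nat.card (E →* ℂˣ) := by
  classical
  haveI : Fact q.Prime := ⟨hq⟩
  letI := (actV hE L).toMulAction
  have hp : IsPGroup q (Subgroup.zpowers z) := by
    rintro ⟨y, i, rfl⟩
    refine ⟨k, Subtype.ext ?_⟩
    change ((z ^ i) ^ (q ^ k) : L) = 1
    rw [← zpow_natCast, zpow_comm, zpow_natCast, hzq, one_zpow]
  have hfin : Finite (E →* ℂˣ) := by
    apply Nat.finite_of_card_ne_zero
    rw [card_V]
    exact Subgroup.index_ne_zero_of_finite
  have hmod := hp.card_modEq_card_fixedPoints (E →* ℂˣ)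
  have hone : Nat.card (MulAction.fixedPoints (Subgroup.zpowers z) (E →* ℂˣ)) = 1 := by
    rw [Nat.card_eq_one_iff_unique]
    refine ⟨⟨?_⟩, ⟨⟨1, ?_⟩⟩⟩
    · rintro ⟨a, ha⟩ ⟨b, hb⟩
      have key : ∀ δ : E →* ℂˣ, δ ∈ MulAction.fixedPoints (Subgroup.zpowers z) (E →* ℂˣ) → δ = 1 := by
        intro δ hδ
        apply hfix
        have h1 := hδ ⟨z, Subgroup.mem_zpowers z⟩
        exact (conjHom_inv_eq_iff hE _ δ).mp h1
      exact Subtype.ext ((key a ha).trans (key b hb).symm)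
    · rintro ⟨g, hg⟩
      ext e
      rfl
  rw [hone] at hmod
  intro hd
  have h1 : Nat.card (E →* ℂˣ) % q = 0 := Nat.mod_eq_zero_of_dvd hd
  have h2 : 1 % q = 1 := Nat.mod_eq_of_lt hq.one_lt
  have h3 : Nat.card (E →* ℂˣ) % q = 1 % q := hmod
  omega

/-- (b) `q ∤ |E|`: a central elementary `E'` with `q ∤ |E : E'|` and `q ∣ |E'|` would be complemented. -/
theorem not_dvd_E [Finite G] {q r : ℕ} (hq : q.Prime) (hr : r.Prime) (hV : ¬ q ∣ (commutator E).index)
    (hne : commutator E ≠ ⊥) (hcent : ∀ a ∈ commutator E, ∀ b : E, a * b = b * a)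
    (hexp : ∀ a ∈ commutator E, a ^ r = 1) : ¬ q ∣ Nat.card E := by
  classical
  intro hd
  haveI : Fact q.Prime := ⟨hq⟩
  set N : Subgroup E := commutator E with hN
  haveI : N.Normal := by
    rw [hN]
    infer_instance
  have hcard : Nat.card N * N.index = Nat.card E := Subgroup.card_mul_index N
  have hdN : q ∣ Nat.card N := by
    rw [← hcard] at hd
    exact (hq.dvd_mul.mp hd).resolve_right hV
  obtain ⟨a, ha⟩ := exists_prime_orderOf_dvd_card' (G := N) q hdN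
  have hqr : q = r := by
    have h1 : orderOf a ∣ r := by
      apply orderOf_dvd_of_pow_eq_one
      apply Subtype.ext
      exact hexp a a.2
    rw [ha] at h1
    exact (Nat.prime_dvd_prime_iff_eq hq hr).mp h1
  subst hqr
  have hP : IsPGroup q N := by
    intro g
    refine ⟨1, Subtype.ext ?_⟩
    simpa using hexp g g.2
  obtain ⟨n, hn⟩ := IsPGroup.iff_card.mp hP
  have hcop : Nat.Coprime (Nat.card N) N.index := by
    rw [hn]
    exact Nat.Coprime.pow_left n ((Nat.Prime.coprime_iff_not_dvd hq).2 hV)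
  obtain ⟨T, hT⟩ := Subgroup.exists_right_complement'_of_coprime hcop
  have hsup : N ≤ T := by
    rw [hN, commutator_def, Subgroup.commutator_le]
    intro a _ b _
    obtain ⟨⟨⟨c₁, hc₁⟩, ⟨t₁, ht₁⟩⟩, h1, -⟩ := hT.existsUnique a
    obtain ⟨⟨⟨c₂, hc₂⟩, ⟨t₂, ht₂⟩⟩, h2, -⟩ := hT.existsUnique b
    simp only at h1 h2
    have e1 : ∀ x, c₁ * x = x * c₁ := fun x => hcent c₁ hc₁ x
    have e2 : ∀ x, c₂ * x = x * c₂ := fun x => hcent c₂ hc₂ x
    have hab : a * b = (c₁ * c₂) * (t₁ * t₂) := by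
      rw [← h1, ← h2]
      calc c₁ * t₁ * (c₂ * t₂) = c₁ * (t₁ * c₂) * t₂ := by group
        _ = c₁ * (c₂ * t₁) * t₂ := by rw [e2 t₁]
        _ = c₁ * c₂ * (t₁ * t₂) := by group
    have hba : b * a = (c₁ * c₂) * (t₂ * t₁) := by
      rw [← h1, ← h2]
      calc c₂ * t₂ * (c₁ * t₁) = c₂ * (t₂ * c₁) * t₁ := by group
        _ = c₂ * (c₁ * t₂) * t₁ := by rw [e1 t₂]
        _ = (c₂ * c₁) * (t₂ * t₁) := by group
        _ = (c₁ * c₂) * (t₂ * t₁) := by rw [e1 c₂]
    have h3 : a * b * a⁻¹ * b⁻¹ = (t₁ * t₂) * (t₂ * t₁)⁻¹ := by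
      have e : a * b * a⁻¹ * b⁻¹ = (a * b) * (b * a)⁻¹ := by group
      rw [e, hab, hba]
      have e5 : ∀ x, (c₁ * c₂) * x = x * (c₁ * c₂) := fun x => by
        rw [mul_assoc, e2 x, ← mul_assoc, e1 x, mul_assoc]
      calc c₁ * c₂ * (t₁ * t₂) * (c₁ * c₂ * (t₂ * t₁))⁻¹
          = (c₁ * c₂) * ((t₁ * t₂) * (t₂ * t₁)⁻¹) * (c₁ * c₂)⁻¹ := by group
        _ = (t₁ * t₂) * (t₂ * t₁)⁻¹ := by rw [e5, mul_inv_cancel_right]
    change a * b * a⁻¹ * b⁻¹ ∈ T
    rw [h3]
    exact T.mul_mem (T.mul_mem ht₁ ht₂) (T.inv_mem (T.mul_mem ht₂ ht₁))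
  apply hne
  rw [eq_bot_iff]
  intro x hx
  have := (Subgroup.disjoint_def.mp hT.disjoint) hx (hsup hx)
  simpa using this

/-- (c) `e ∈ E`, `[z, e] = 1` implies `e ∈ E'`. -/
theorem mem_comm_of_comm [Finite G] (hE : E.Normal) {z : G}
    (hfix : ∀ δ : E →* ℂˣ, conjHom hE z δ = δ → δ = 1) {e : E} (hze : z * e = e * z) :
    e ∈ commutator E := by
  classical
  let A := Abelianization E
  let σ : A →* A := Abelianization.map (conjEquiv hE z).toMonoidHom
  let φ : A →* A := σ / MonoidHom.id A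
  have hsurj : Function.Surjective φ := by
    by_contra hcon
    have hx : ∃ x, x ∉ φ.range := by
      by_contra h
      push Not at h
      exact hcon (fun y => by simpa using h y)
    obtain ⟨x, hx⟩ := hx
    obtain ⟨β, hβ, hβx⟩ := Cfsg.Agent.Lib.NoDiv.Camina.exists_hom_ne (K := A) (L := φ.range) inferInstance
      (fun a b => by
        have : a * b * a⁻¹ * b⁻¹ = 1 := by
          rw [mul_comm a b, mul_assoc, mul_assoc, mul_inv_cancel_left, mul_inv_cancel]
        rw [this]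
        exact one_mem _) hx
    let δ : E →* ℂˣ := β.comp Abelianization.of
    have hδ : conjHom hE z δ = δ := by
      ext c
      have h1 : β (φ (Abelianization.of c)) = 1 := hβ _ ⟨_, rfl⟩
      have h2 : φ (Abelianization.of c) = σ (Abelianization.of c) * (Abelianization.of c)⁻¹ := by
        exact (MonoidHom.div_apply _ _ _).trans (div_eq_mul_inv _ _)
      rw [h2, map_mul, map_inv, mul_inv_eq_one] at h1
      have h3 : σ (Abelianization.of c) = Abelianization.of ((conjEquiv hE z) c) :=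
        Abelianization.map_of _ _
      rw [h3] at h1
      have h4 : conjHom hE z δ c = β (Abelianization.of ((conjEquiv hE z) c)) := rfl
      rw [h4, h1]
      rfl
    have hδ1 := hfix δ hδ
    obtain ⟨c, rfl⟩ := QuotientGroup.mk_surjective x
    apply hβx
    have := DFunLike.congr_fun hδ1 c
    exact this
  have hinj : Function.Injective φ := Finite.injective_iff_surjective.mpr hsurj
  have h1 : φ (Abelianization.of e) = 1 := by
    have h2 : φ (Abelianization.of e) = σ (Abelianization.of e) * (Abelianization.of e)⁻¹ := by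
      exact (MonoidHom.div_apply _ _ _).trans (div_eq_mul_inv _ _)
    have h3 : σ (Abelianization.of e) = Abelianization.of ((conjEquiv hE z) e) :=
      Abelianization.map_of _ _
    have h4 : (conjEquiv hE z) e = e := by
      apply Subtype.ext
      change z * e * z⁻¹ = e
      rw [hze, mul_inv_cancel_right]
    rw [h2, h3, h4, mul_inv_cancel]
  have h5 : Abelianization.of e = 1 := hinj (by rw [h1, map_one])
  have h6 : e ∈ (Abelianization.of (G := E)).ker := h5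
  rwa [Abelianization.ker_of] at h6

/-- M2. -/
theorem z_props [Fintype G] [Group.IsSolvable G] [Fintype E] (h : IID H Y E L) (hE : E.Normal)
    {R₂ : Subgroup L} {d₀ : ℕ} (hS : S3D hE H L R₂ d₀)
    (hirr : ∀ θ : E → ℂ, IsIrrCharacter E θ → θ ≠ (fun _ => 1) → (∀ x ∈ LI hE L θ, x ∈ RL H L → x ∈ R₂) →
        ∀ χ : G → ℂ, IsIrrCharacter G χ → classInner (fun n : E => χ n) θ ≠ 0 →
          charDegree χ = d₀ ∧ charDegree θ = 1)
    (hmin : Chief ⊥ (⁅E, E⁆ : Subgroup G))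
    {θ : E → ℂ} (hθ : IsIrrCharacter E θ) (hθ1 : θ 1 ≠ 1) : ∃ z : L, ZP hE Y L θ z := by
  classical
  have hθne : θ ≠ fun _ => 1 := fun h => hθ1 (by rw [h])
  have hx : ∃ x ∈ LI hE L θ, x ∈ RL H L ∧ x ∉ R₂ := by
    by_contra hcon
    push Not at hcon
    obtain ⟨χ, hχ, hov⟩ := exists_over (G := G) hθ
    have h1 := (hirr θ hθ hθne hcon χ hχ hov).2
    apply hθ1
    rw [← charDegree_natCast (isCharacter_of_isIrrCharacter hθ), h1]
    simp
  obtain ⟨x, hxθ, hxR, hxR₂⟩ := hx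
  obtain ⟨q, k, t, hq, hzq, hzR₂⟩ := exists_pp R₂ hS.n hxR₂
  set z : L := x ^ t with hz
  have hzθ : z ∈ LI hE L θ := Subgroup.pow_mem _ hxθ t
  have hzR : z ∈ RL H L := Subgroup.pow_mem _ hxR t
  have hzY : (z : G) ∈ Y := LI_R_le_Y h hE hθ hθne hzθ hzR
  have hzfix : ∀ δ : E →* ℂˣ, conjHom hE (z : G) δ = δ → δ = 1 := by
    intro δ hδ
    by_contra hne
    exact hzR₂ (hS.hR z hzR δ hne hδ)
  have hV := not_dvd_V hE hq hzq hzfix
  rw [card_V] at hV
  obtain ⟨hnil, hcent, r, hr, hexp⟩ := Cfsg.Agent.Lib.NDF.IIM1.min_struct h hmin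
  have hne : commutator E ≠ ⊥ := by
    intro h0
    apply hmin.ne
    rw [← Subgroup.map_subtype_commutator, h0, Subgroup.map_bot]
  have hcent' : ∀ a ∈ commutator E, ∀ b : E, a * b = b * a := by
    intro a ha b
    exact Subtype.ext (hcent a (coe_mem_comm.mp ha) b b.2)
  have hexp' : ∀ a ∈ commutator E, a ^ r = 1 := by
    intro a ha
    exact Subtype.ext (hexp a (coe_mem_comm.mp ha))
  have hqE := not_dvd_E hq hr hV hne hcent' hexp'
  have hc : ∀ e ∈ E, (z : G) * e = e * z → e ∈ (⁅E, E⁆ : Subgroup G) := by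
    intro e he hze
    exact coe_mem_comm.mp (mem_comm_of_comm (e := ⟨e, he⟩) hE hzfix hze)
  have hzq' : (z : G) ^ (q ^ k) = 1 := by
    have := congrArg (Subtype.val) hzq
    simpa using this
  -- the centraliser of `z` in `E'`
  let D : Subgroup G :=
    { carrier := {e | e ∈ (⁅E, E⁆ : Subgroup G) ∧ (z : G) * e = e * z}
      one_mem' := ⟨one_mem _, by simp⟩
      mul_mem' := by
        rintro a b ⟨ha, ha'⟩ ⟨hb, hb'⟩
        refine ⟨mul_mem ha hb, ?_⟩
        rw [← mul_assoc, ha', mul_assoc, hb', mul_assoc]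
      inv_mem' := by
        rintro a ⟨ha, ha'⟩
        refine ⟨inv_mem ha, ?_⟩
        rw [mul_inv_eq_iff_eq_mul, mul_assoc, eq_inv_mul_iff_mul_eq]
        exact ha'.symm }
  have hDn : D.Normal := by
    refine ⟨fun d hd g => ?_⟩
    obtain ⟨e₀, he₀, l, hl, rfl⟩ := h.dec g
    obtain ⟨hd1, hd2⟩ := hd
    have hdl : l * d * l⁻¹ ∈ (⁅E, E⁆ : Subgroup G) := hmin.nL.conj_mem d hd1 l
    have hcomm : ∀ y : G, y ∈ (⁅E, E⁆ : Subgroup G) → e₀ * y * e₀⁻¹ = y := by
      intro y hy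
      rw [mul_inv_eq_iff_eq_mul]
      exact (hcent y hy e₀ he₀).symm
    have e1 : (e₀ * l) * d * (e₀ * l)⁻¹ = l * d * l⁻¹ := by
      have : (e₀ * l) * d * (e₀ * l)⁻¹ = e₀ * (l * d * l⁻¹) * e₀⁻¹ := by group
      rw [this, hcomm _ hdl]
    rw [e1]
    refine ⟨hdl, ?_⟩
    have hlz : l * (z : G) = z * l := by
      have := Cfsg.Agent.Lib.NDF.IIBasic.hZ h z hzY ⟨l, hl⟩
      exact congrArg Subtype.val this
    have hlz' : (z : G) * l⁻¹ = l⁻¹ * z := by
      rw [eq_inv_mul_iff_mul_eq, ← mul_assoc, hlz, mul_assoc, mul_inv_cancel, mul_one]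
    calc (z : G) * (l * d * l⁻¹) = (z * l) * d * l⁻¹ := by group
      _ = l * (z * d) * l⁻¹ := by rw [← hlz]; group
      _ = l * (d * z) * l⁻¹ := by rw [hd2]
      _ = l * d * (z * l⁻¹) := by group
      _ = l * d * (l⁻¹ * z) := by rw [hlz']
      _ = l * d * l⁻¹ * z := by group
  have hDle : D ≤ (⁅E, E⁆ : Subgroup G) := fun _ hd => hd.1
  rcases hmin.min D hDn bot_le hDle with h0 | h1
  · exfalso
    apply hθne
    refine fix_trivial hE hq hzq' hqE ?_ hθ hzθ
    intro e he hze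
    have hmem : e ∈ D := ⟨hc e he hze, hze⟩
    rw [h0] at hmem
    simpa using hmem
  · refine ⟨z, hzY, hzθ, ⟨q, k, hq, hzq', hqE⟩, ?_, hc⟩
    intro e he
    have : e ∈ D := by
      rw [h1]
      exact he
    exact this.2

end Cfsg.Agent.Lib.NDF.IIM2
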