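import Cfsg.Agent.Lib.NDF.DDefs
import Cfsg.Agent.Lib.NDF.ChiefE
import Cfsg.Agent.Lib.NoDiv.Main
import Cfsg.Agent.Lib.NDF.CyclicFpf
import Cfsg.Agent.Lib.NDF.BurnsideLayer
import Cfsg.Agent.Lib.NDF.Beisiegel

/-!
# S4780, block D: the layer `G' = N ⋊ W₁`
-/

set_option autoImplicit false
set_option linter.unusedSectionVars false
set_option linter.style.haveILetI false
set_option linter.unusedSimpArgs false

namespace Cfsg.Agent.Lib.NDF.Layer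

open Cfsg Cfsg.Agent.Lib.NoDiv.Defs Cfsg.Agent.Lib.NDF.Defs Cfsg.Agent.Lib.NDF.DDefs
open Cfsg.Agent.Lib.NDF.ChiefE

universe u

variable {G : Type u} [Group G] {H Y : Subgroup G} {p : ℕ}

theorem G_le_H (s : St H Y) : commutator G ≤ H := by
  rw [commutator_def, Subgroup.commutator_le]
  intro a _ b _
  exact s.ab a b

theorem E_le_Y (s : St H Y) : (⁅H, H⁆ : Subgroup G) ≤ Y := by
  rw [← s.GE]; exact inf_le_right

theorem E_le_G (s : St H Y) : (⁅H, H⁆ : Subgroup G) ≤ commutator G := by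
  rw [← s.GE]; exact inf_le_left

theorem mem_E_of (s : St H Y) {d : G} (hd : d ∈ commutator G) (hy : d ∈ Y) : d ∈ (⁅H, H⁆ : Subgroup G) := by
  rw [← s.GE]; exact ⟨hd, hy⟩

theorem comm_mem_E (s : St H Y) {a b : G} (ha : a ∈ commutator G) (hb : b ∈ commutator G) :
    a * b * a⁻¹ * b⁻¹ ∈ (⁅H, H⁆ : Subgroup G) := by
  rw [← s.E2]
  exact Subgroup.commutator_mem_commutator ha hb

/-- Elements of `G'` have `p`-power order modulo `N`. -/
theorem torsion (s : St H Y) (hel : ∀ c ∈ H, c ^ p ∈ Y) {N : Subgroup G}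
    (hEN : ∀ e ∈ (⁅H, H⁆ : Subgroup G), ∃ k : ℕ, e ^ (p ^ k) ∈ N) {d : G} (hd : d ∈ commutator G) :
    ∃ k : ℕ, d ^ (p ^ k) ∈ N := by
  have h1 : d ^ p ∈ (⁅H, H⁆ : Subgroup G) :=
    mem_E_of s (Subgroup.pow_mem _ hd p) (hel d (G_le_H s hd))
  obtain ⟨k, hk⟩ := hEN _ h1
  refine ⟨k + 1, ?_⟩
  rwa [pow_succ', pow_mul]

/-- A complement of `N` in `G'`. -/
theorem exists_complement [Finite G] (s : St H Y) (hel : ∀ c ∈ H, c ^ p ∈ Y) (hp : p.Prime)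
    {N : Subgroup G} (hNn : N.Normal) (hNE : N ≤ ⁅H, H⁆) {r : ℕ} (hr : r.Prime) (hrp : r ≠ p)
    (hNr : ∀ n ∈ N, n ^ r = 1) (hEN : ∀ e ∈ (⁅H, H⁆ : Subgroup G), ∃ k : ℕ, e ^ (p ^ k) ∈ N) :
    ∃ W₁ : Subgroup G, W₁ ≤ commutator G ∧ N ⊓ W₁ = ⊥ ∧
      ∀ d ∈ commutator G, ∃ n ∈ N, ∃ w ∈ W₁, d = n * w := by
  classical
  set W : Subgroup G := commutator G with hW
  have hNW : N ≤ W := hNE.trans (E_le_G s)
  let N' : Subgroup W := N.subgroupOf W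
  haveI hN' : N'.Normal := hNn.subgroupOf W
  have hNp : IsPGroup r N' := by
    rintro ⟨⟨n, hnW⟩, hn⟩
    refine ⟨1, Subtype.ext (Subtype.ext ?_)⟩
    have : n ∈ N := hn
    simpa using hNr n this
  have hQp : IsPGroup p (W ⧸ N') := by
    intro x
    obtain ⟨⟨d, hd⟩, rfl⟩ := QuotientGroup.mk'_surjective N' x
    obtain ⟨k, hk⟩ := torsion s hel hEN hd
    refine ⟨k, ?_⟩
    rw [← map_pow]
    refine (QuotientGroup.eq_one_iff _).2 ?_
    exact hk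
  have hcop : Nat.Coprime (Nat.card N') N'.index := by
    have h2 : N'.index = Nat.card (W ⧸ N') := rfl
    rw [h2]
    haveI : Fact p.Prime := ⟨hp⟩
    haveI : Fact r.Prime := ⟨hr⟩
    obtain ⟨a, ha⟩ := IsPGroup.iff_card.1 hNp
    obtain ⟨b, hb⟩ := IsPGroup.iff_card.1 hQp
    rw [ha, hb]
    exact Nat.Coprime.pow _ _ ((Nat.coprime_primes hr hp).2 hrp)
  obtain ⟨K, hK⟩ := Subgroup.exists_right_complement'_of_coprime hcop
  refine ⟨K.map W.subtype, ?_, ?_, ?_⟩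
  · rintro _ ⟨x, -, rfl⟩
    exact x.2
  · rw [eq_bot_iff]
    rintro x ⟨hxN, y, hy, rfl⟩
    have hy' : y ∈ N' := hxN
    have := Subgroup.disjoint_def.1 hK.disjoint hy' hy
    rw [this]
    simp
  · intro d hd
    have hxy := hK.sup_eq_top
    have : (⟨d, hd⟩ : W) ∈ N' ⊔ K := by rw [hxy]; trivial
    obtain ⟨n, hn, k, hk, e⟩ := Subgroup.mem_sup_of_normal_left.1 this
    refine ⟨n, hn, k, ⟨k, hk, rfl⟩, ?_⟩
    have := congrArg Subtype.val e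
    simpa using this.symm

/-- Two facts in a quotient of exponent `p`. -/
theorem exists_pow_eq_of {Q : Type*} [Group Q] [Finite Q] {c a b : Q} {i k : ℕ} (hp : p.Prime) (hc : c ^ p = 1)
    (ha : a = c ^ i) (ha1 : a ≠ 1) (hb : b = c ^ k) : ∃ t : ℕ, b = a ^ t := by
  haveI : Fact p.Prime := ⟨hp⟩
  have hc1 : c ≠ 1 := by
    rintro rfl
    exact ha1 (by simpa using ha)
  have ho : orderOf c = p := orderOf_eq_prime hc hc1
  have hcop : Nat.Coprime i (orderOf c) := by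
    rw [ho]
    by_contra h
    have hd : p ∣ i := by
      by_contra h4
      exact h ((Nat.Prime.coprime_iff_not_dvd hp).2 h4).symm
    obtain ⟨u, rfl⟩ := hd
    apply ha1
    rw [ha, pow_mul, hc, one_pow]
  obtain ⟨m, hm⟩ := exists_pow_eq_self_of_coprime hcop
  refine ⟨m * k, ?_⟩
  rw [hb, ha, pow_mul, hm]

/-- The step (b). -/
theorem comm_step [Finite G] (s : St H Y) (hp : p.Prime) (hel : ∀ c ∈ H, c ^ p ∈ Y) {N W₁ L : Subgroup G}
    (hNab : ∀ a ∈ N, ∀ b ∈ N, a * b = b * a) (hN1 : N ≠ ⊥) (hNn : N.Normal)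
    (hWG : W₁ ≤ commutator G)
    (hmL : ∀ x, x ∈ L ↔ x ∈ W₁ ∧ x ∈ (⁅H, H⁆ : Subgroup G))
    (hfp : ∀ g ∈ W₁, g ∉ L → ∀ n ∈ N, g * n = n * g → n = 1)
    {a b : G} (ha : a ∈ W₁) (hb : b ∈ W₁) (haL : a ∉ L) (hab : a * b = b * a) :
    ∃ k : ℕ, b * (a ^ k)⁻¹ ∈ L := by
  classical
  -- the abelian subgroup `⟨a, b⟩`
  set U : Subgroup G := Subgroup.closure {a, b} with hU
  have hUW : U ≤ W₁ := by
    rw [hU, Subgroup.closure_le]
    rintro x (rfl | rfl)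
    · exact ha
    · exact hb
  have hUc : ∀ u ∈ U, ∀ v ∈ U, u * v = v * u := by
    have hcomm : ∀ x ∈ ({a, b} : Set G), ∀ y ∈ ({a, b} : Set G), x * y = y * x := by
      rintro x (rfl | rfl) y (rfl | rfl)
      · rfl
      · exact hab
      · exact hab.symm
      · rfl
    intro u hu v hv
    haveI := Subgroup.isMulCommutative_closure hcomm
    have := mul_comm' (⟨u, hu⟩ : Subgroup.closure {a, b}) ⟨v, hv⟩
    exact congrArg Subtype.val this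
  have hcomm' : ∀ u ∈ U, ∀ v ∈ U, ∀ n ∈ N, u * (v * n * v⁻¹) * u⁻¹ = v * (u * n * u⁻¹) * v⁻¹ := by
    intro u hu v hv n _
    have h1 := hUc u hu v hv
    calc u * (v * n * v⁻¹) * u⁻¹ = (u * v) * n * (u * v)⁻¹ := by group
      _ = (v * u) * n * (v * u)⁻¹ := by rw [h1]
      _ = _ := by group
  obtain ⟨c, hcU, hc⟩ := Cfsg.Agent.Lib.NDF.CyclicFpf.cyclic_fpf (N := N) (U := U) (J := U ⊓ L) hNab hN1
    (fun u _ n hn => hNn.conj_mem n hn u) hcomm' inf_le_left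
    (by
      intro u hu huJ n hn hfix
      have huL : u ∉ L := fun h => huJ ⟨hu, h⟩
      apply hfp u (hUW hu) huL n hn
      calc u * n = (u * n * u⁻¹) * u := by group
        _ = n * u := by rw [hfix])
  -- everything modulo `L`, inside `W₁`
  have hLn : ∀ x ∈ L, ∀ w ∈ W₁, w * x * w⁻¹ ∈ L := by
    intro x hx w hw
    rw [hmL] at hx ⊢
    haveI := s.nH
    haveI : (⁅H, H⁆ : Subgroup G).Normal := Subgroup.commutator_normal H H
    exact ⟨W₁.mul_mem (W₁.mul_mem hw hx.1) (W₁.inv_mem hw), Subgroup.Normal.conj_mem inferInstance _ hx.2 w⟩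
  let L' : Subgroup W₁ := L.subgroupOf W₁
  haveI hL' : L'.Normal := ⟨fun n hn g => hLn n hn g g.2⟩
  let π := QuotientGroup.mk' L'
  have hπ : ∀ x y : W₁, (x : G) * (y : G)⁻¹ ∈ L → π x = π y := by
    intro x y h
    refine QuotientGroup.eq.2 ?_
    change ((x⁻¹ * y : W₁) : G) ∈ L
    have h1 := hLn _ (L.inv_mem h) (x⁻¹ : W₁) (x⁻¹ : W₁).2
    convert h1 using 1
    simp [mul_assoc]
  obtain ⟨i, hi⟩ := hc a (Subgroup.subset_closure (by simp))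
  obtain ⟨k, hk⟩ := hc b (Subgroup.subset_closure (by simp))
  set a' : W₁ := ⟨a, ha⟩
  set b' : W₁ := ⟨b, hb⟩
  set c' : W₁ := ⟨c, hUW hcU⟩
  have e1 : π a' = (π c') ^ i := by
    rw [← map_pow]
    apply hπ
    exact hi.2
  have e2 : π b' = (π c') ^ k := by
    rw [← map_pow]
    apply hπ
    exact hk.2
  have e3 : (π c') ^ p = 1 := by
    rw [← map_pow]
    refine (QuotientGroup.eq_one_iff _).2 ?_
    change c ^ p ∈ L
    rw [hmL]
    exact ⟨W₁.pow_mem (hUW hcU) p, mem_E_of s (Subgroup.pow_mem _ (hWG (hUW hcU)) p)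
      (hel c (G_le_H s (hWG (hUW hcU))))⟩
  have e4 : π a' ≠ 1 := by
    intro h
    have h' : a' ∈ L' := (QuotientGroup.eq_one_iff a').1 h
    exact haL h'
  obtain ⟨t, ht⟩ := exists_pow_eq_of hp e3 e1 e4 e2
  refine ⟨t, ?_⟩
  have h5 : π (b' * (a' ^ t)⁻¹) = 1 := by
    rw [map_mul, map_inv, map_pow, ht, mul_inv_cancel]
  have h6 : (b' * (a' ^ t)⁻¹ : W₁) ∈ L' := (QuotientGroup.eq_one_iff _).1 h5
  exact h6

/-- The step (a). -/
theorem fpf_step [Finite G] (s : St H Y)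
    (hcam : ∀ c ∈ H, c ∉ Y → ∀ e ∈ (⁅H, H⁆ : Subgroup G), ∃ b ∈ H, b * c * b⁻¹ = c * e)
    {N : Subgroup G} (hNE : N ≤ ⁅H, H⁆) (hp : p.Prime)
    {r : ℕ} (hr : r.Prime) (hrp : r ≠ p)
    (hNr : ∀ n ∈ N, n ^ r = 1) {g : G} (hg : g ∈ commutator G) (hgE : g ∉ (⁅H, H⁆ : Subgroup G))
    {k : ℕ} (hgp : g ^ (p ^ k) = 1) {n : G} (hn : n ∈ N) (hc : g * n = n * g) : n = 1 := by
  have hgY : g ∉ Y := fun h => hgE (mem_E_of s hg h)
  obtain ⟨b, -, hb⟩ := hcam g (G_le_H s hg) hgY n (hNE hn)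
  have h1 : (g * n) ^ (p ^ k) = 1 := by
    rw [← hb, conj_pow, hgp]
    simp
  have hcomm : Commute g n := hc
  rw [hcomm.mul_pow, hgp, one_mul] at h1
  have hcop : Nat.Coprime r (p ^ k) := Nat.Coprime.pow_right k ((Nat.coprime_primes hr hp).2 hrp)
  have h3 : n ^ (Nat.gcd r (p ^ k)) = 1 := pow_gcd_eq_one.2 ⟨hNr n hn, h1⟩
  rwa [hcop.gcd_eq_one, pow_one] at h3

/-- (D1) The layer. `hcam` is `St.cam s`. -/
theorem exists_layer [Finite G] [Group.IsSolvable G] (s : St H Y)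
    (hcam₀ : ∀ c ∈ H, c ∉ Y → ∀ e ∈ (⁅H, H⁆ : Subgroup G), ∃ b ∈ H, b * c * b⁻¹ = c * e) (hp : p.Prime)
    (hel : ∀ c ∈ H, c ^ p ∈ Y)
    {N : Subgroup G} (hN : Chief ⊥ N) (hNE : N ≤ ⁅H, H⁆) {r : ℕ} (hr : r.Prime) (hrp : r ≠ p)
    (hNr : ∀ n ∈ N, n ^ r = 1) (hEN : ∀ e ∈ (⁅H, H⁆ : Subgroup G), ∃ k : ℕ, e ^ (p ^ k) ∈ N)
    (hE1 : N ≠ ⁅H, H⁆) (hEab : (⁅(⁅H, H⁆ : Subgroup G), (⁅H, H⁆ : Subgroup G)⁆ : Subgroup G) ≤ N)
    (hcamW : ∀ a ∈ commutator G, a ∉ (⁅H, H⁆ : Subgroup G) → ∀ e ∈ (⁅H, H⁆ : Subgroup G),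
      ∃ b ∈ commutator G, (b * a * b⁻¹)⁻¹ * (a * e) ∈ N) :
    ∃ W₁ L : Subgroup G, DL H p N W₁ L := by
  classical
  haveI : Fact p.Prime := ⟨hp⟩
  have hNn := hN.nL
  haveI := hNn
  haveI := s.nH
  have hEn : (⁅H, H⁆ : Subgroup G).Normal := Subgroup.commutator_normal H H
  obtain ⟨W₁, hWG, hNW, hdec⟩ := exists_complement s hel hp hNn hNE hr hrp hNr hEN
  have hWp : IsPGroup p W₁ := by
    rintro ⟨w, hw⟩
    obtain ⟨k, hk⟩ := torsion s hel hEN (hWG hw)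
    refine ⟨k, Subtype.ext ?_⟩
    have h1 : w ^ (p ^ k) ∈ N ⊓ W₁ := ⟨hk, W₁.pow_mem hw _⟩
    rw [hNW, Subgroup.mem_bot] at h1
    simpa using h1
  set L : Subgroup G := W₁ ⊓ ⁅H, H⁆ with hL
  have hmL : ∀ x, x ∈ L ↔ x ∈ W₁ ∧ x ∈ (⁅H, H⁆ : Subgroup G) := fun x => Iff.rfl
  have hN1 : N ≠ ⊥ := hN.ne.symm
  have hNab : ∀ a ∈ N, ∀ b ∈ N, a * b = b * a := by
    intro a ha b hb
    have h1 := chief_comm hN a ha b hb
    rw [Subgroup.mem_bot] at h1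
    have h3 : a * b = (a * b * a⁻¹ * b⁻¹) * (b * a) := by group
    rw [h3, h1, one_mul]
  have hfp : ∀ g ∈ W₁, g ∉ L → ∀ n ∈ N, g * n = n * g → n = 1 := by
    intro g hg hgL n hn hc
    obtain ⟨k, hk⟩ := hWp ⟨g, hg⟩
    have hk' : g ^ (p ^ k) = 1 := by
      have := congrArg Subtype.val hk
      simpa using this
    exact fpf_step s hcam₀ hNE hp hr hrp hNr (hWG hg) (fun h => hgL ⟨hg, h⟩) hk' hn hc
  let L' : Subgroup W₁ := L.subgroupOf W₁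
  have hL'mem : ∀ x : W₁, x ∈ L' ↔ (x : G) ∈ (⁅H, H⁆ : Subgroup G) :=
    fun x => ⟨fun h => h.2, fun h => ⟨x.2, h⟩⟩
  have hL'n : L'.Normal := ⟨fun n hn g => (hL'mem _).2 (by
    have := hEn.conj_mem _ ((hL'mem n).1 hn) (g : G)
    simpa using this)⟩
  have hL'ab : ∀ a ∈ L', ∀ b ∈ L', a * b = b * a := by
    intro a ha b hb
    have h1 : (a : G) * b * (a : G)⁻¹ * (b : G)⁻¹ ∈ (⁅(⁅H, H⁆ : Subgroup G), (⁅H, H⁆ : Subgroup G)⁆ : Subgroup G) :=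
      Subgroup.commutator_mem_commutator ((hL'mem a).1 ha) ((hL'mem b).1 hb)
    have h3 : (a : G) * b * (a : G)⁻¹ * (b : G)⁻¹ ∈ W₁ :=
      W₁.mul_mem (W₁.mul_mem (W₁.mul_mem a.2 b.2) (W₁.inv_mem a.2)) (W₁.inv_mem b.2)
    have h4 : (a : G) * b * (a : G)⁻¹ * (b : G)⁻¹ ∈ N ⊓ W₁ := ⟨hEab h1, h3⟩
    rw [hNW, Subgroup.mem_bot] at h4
    apply Subtype.ext
    change (a : G) * b = b * a
    have h5 : (a : G) * b = ((a : G) * b * (a : G)⁻¹ * (b : G)⁻¹) * (b * a) := by group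
    rw [h5, h4, one_mul]
  have hL'ne : L' ≠ ⊤ := by
    obtain ⟨c, hcH, hcY⟩ := s.ne
    obtain ⟨d, hd, hdc⟩ := s.GY c hcH
    have hdY : d ∉ Y := fun h => hcY (by
      have := Y.mul_mem h hdc
      simpa using this)
    obtain ⟨n, hn, w, hw, rfl⟩ := hdec d hd
    have hwE : w ∉ (⁅H, H⁆ : Subgroup G) := fun h =>
      hdY (E_le_Y s (Subgroup.mul_mem _ (hNE hn) h))
    intro htop
    have h1 : (⟨w, hw⟩ : W₁) ∈ L' := by rw [htop]; trivial
    exact hwE ((hL'mem _).1 h1)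
  have hL'ab2 : ∀ a b : W₁, a * b * a⁻¹ * b⁻¹ ∈ L' := fun a b =>
    (hL'mem _).2 (comm_mem_E s (hWG a.2) (hWG b.2))
  have hL'el : ∀ a : W₁, a ^ p ∈ L' := fun a =>
    (hL'mem _).2 (mem_E_of s (Subgroup.pow_mem _ (hWG a.2) p) (hel _ (G_le_H s (hWG a.2))))
  have hcam : ∀ a, a ∉ L' → ∀ e ∈ L', ∃ b, b * a * b⁻¹ = a * e := by
    intro a haL e he
    obtain ⟨b, hb, hbe⟩ := hcamW a (hWG a.2) (mt (hL'mem a).2 haL) e ((hL'mem e).1 he)
    obtain ⟨n, hn, w, hw, rfl⟩ := hdec b hb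
    refine ⟨⟨w, hw⟩, Subtype.ext ?_⟩
    change w * (a : G) * w⁻¹ = a * e
    set y : G := w * (a : G) * w⁻¹ with hy
    set z : G := (a : G) * e with hz
    have hyW : y ∈ W₁ := W₁.mul_mem (W₁.mul_mem hw a.2) (W₁.inv_mem hw)
    have hzW : z ∈ W₁ := W₁.mul_mem a.2 e.2
    have hxN : y⁻¹ * z ∈ N := by
      have h1 : ((n * w) * (a : G) * (n * w)⁻¹)⁻¹ * z = n * (y⁻¹ * n⁻¹ * z) := by
        rw [hy]; group
      rw [h1] at hbe
      have h2 : y⁻¹ * n⁻¹ * z ∈ N := by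
        have h3 := N.mul_mem (N.inv_mem hn) hbe
        rwa [inv_mul_cancel_left] at h3
      have h4 : y⁻¹ * n * y ∈ N := by
        have := hNn.conj_mem _ hn y⁻¹
        rwa [inv_inv] at this
      have h5 := N.mul_mem h4 h2
      have h6 : y⁻¹ * n * y * (y⁻¹ * n⁻¹ * z) = y⁻¹ * z := by group
      rwa [h6] at h5
    have hx1 : y⁻¹ * z ∈ N ⊓ W₁ := ⟨hxN, W₁.mul_mem (W₁.inv_mem hyW) hzW⟩
    rw [hNW, Subgroup.mem_bot] at hx1
    exact (inv_mul_eq_one.1 hx1)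
  have hcomm : ∀ a b : W₁, a ∉ L' → a * b = b * a → ∃ k : ℕ, b * (a ^ k)⁻¹ ∈ L' := by
    intro a b haL hab
    obtain ⟨k, hk⟩ := comm_step s hp hel hNab hN1 hNn hWG hmL hfp a.2 b.2
      (fun h => haL h) (congrArg Subtype.val hab)
    refine ⟨k, ?_⟩
    exact hk
  obtain ⟨hidx, hcen⟩ := Cfsg.Agent.Lib.NDF.BurnsideLayer.burnside_layer hp hWp hL'n hL'ab hL'ne
    hL'ab2 hL'el hcam hcomm
  -- the commutator of `W₁`
  have hcmt : commutator W₁ = L' := by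
    apply le_antisymm
    · rw [commutator_def, Subgroup.commutator_le]
      intro a _ b _
      exact hL'ab2 a b
    · intro e he
      obtain ⟨a, ha⟩ : ∃ a : W₁, a ∉ L' := by
        by_contra hcon
        push Not at hcon
        exact hL'ne (eq_top_iff.2 fun x _ => hcon x)
      obtain ⟨b, hb⟩ := hcam a ha e he
      have h5 : b * a * b⁻¹ * a⁻¹ = e := by
        rw [hb]
        have := hcen e he a
        calc a * e * a⁻¹ = e * a * a⁻¹ := by rw [this]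
          _ = e := by group
      rw [← h5]
      exact Subgroup.commutator_mem_commutator trivial trivial
  have hbei := Cfsg.Agent.Lib.NDF.Beisiegel.beisiegel_grp hp hWp
    (by rw [hcmt]; exact fun e he x => (hcen e he x))
    (by rw [hcmt]; exact hL'el)
    (by rw [hcmt]; exact hcam)
  rw [hcmt, hidx] at hbei
  have hL'bot : ∃ x : W₁, x ∈ L' ∧ x ≠ 1 := by
    obtain ⟨e, he, heN⟩ : ∃ e ∈ (⁅H, H⁆ : Subgroup G), e ∉ N := by
      by_contra hcon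
      push Not at hcon
      exact hE1 (le_antisymm hNE hcon)
    obtain ⟨n, hn, w, hw, rfl⟩ := hdec e (E_le_G s he)
    have hwE : w ∈ (⁅H, H⁆ : Subgroup G) := by
      have := Subgroup.mul_mem _ (Subgroup.inv_mem _ (hNE hn)) he
      simpa using this
    refine ⟨⟨w, hw⟩, (hL'mem _).2 hwE, ?_⟩
    intro h
    have h1 : w = 1 := congrArg Subtype.val h
    rw [h1, mul_one] at heN
    exact heN hn
  have hLp : IsPGroup p L' := hWp.to_subgroup L'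
  obtain ⟨k, hk⟩ := IsPGroup.iff_card.1 hLp
  have hk0 : k ≠ 0 := by
    rintro rfl
    rw [pow_zero] at hk
    obtain ⟨x, hx, hx1⟩ := hL'bot
    have := (Nat.card_eq_one_iff_unique.1 hk).1
    apply hx1
    have h2 := this.elim (⟨x, hx⟩ : L') 1
    exact congrArg Subtype.val h2
  have hcardL : Nat.card L' = p := by
    have h1 : Nat.card L' ≤ p := by
      have hpos : 0 < Nat.card L' := Nat.card_pos
      nlinarith
    rw [hk] at h1 ⊢
    have h2 : p ^ k ≥ p ^ 1 := Nat.pow_le_pow_right hp.pos (Nat.one_le_iff_ne_zero.2 hk0)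
    rw [pow_one] at h2
    omega
  have hcardL2 : Nat.card L = Nat.card L' :=
    (Nat.card_congr (Subgroup.subgroupOfEquivOfLe (inf_le_left : L ≤ W₁)).toEquiv).symm
  refine ⟨W₁, L, ?_⟩
  refine ⟨hWG, hNW, hdec, hWp, hmL, hcardL2.trans hcardL, ?_, ?_, hfp⟩
  · change L'.index = p ^ 2
    rw [hidx, hcardL, sq]
  · intro e he w hw
    exact congrArg Subtype.val (hcen ⟨e, he.1⟩ he ⟨w, hw⟩)

end Cfsg.Agent.Lib.NDF.Layer
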