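import Cfsg.Agent.Lib.NDF.DDefs
import Cfsg.Agent.Lib.NDF.StChar
import Cfsg.Agent.Lib.NDF.Lemma3
import Cfsg.Agent.Lib.NDF.CpOver
import Cfsg.Agent.Lib.NoDiv.Main
import Cfsg.Agent.Lib.Blk89.ItoMichler
import Cfsg.Agent.Lib.Char.TwoDeg.Main
import Cfsg.Agent.Lib.CharDeep.ThompsonDeg
import Mathlib.Tactic

/-!
# S4780, block D, (D3): `p = 2` is impossible
-/

set_option autoImplicit false
set_option linter.unusedSectionVars false
set_option linter.style.haveILetI false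
set_option linter.style.longLine false

namespace Cfsg.Agent.Lib.NDF.LayerTwo

open Cfsg Module Cfsg.Agent.Lib.NoDiv.Defs Cfsg.Agent.Lib.NDF.Defs Cfsg.Agent.Lib.NDF.DDefs
open Cfsg.Agent.Lib.Char.Basic Cfsg.Agent.Lib.Char.Conj Cfsg.Agent.Lib.Char.CliffordCorr
open Cfsg.Agent.Lib.Char.Linear Cfsg.Agent.Lib.Char.Degree Cfsg.Agent.Lib.Char.Ortho
open Cfsg.Agent.Lib.Char.Induced Cfsg.Agent.Lib.Char.Complete
open Cfsg.Agent.Lib.NoDiv.XLemma Cfsg.Agent.Lib.NoDiv.Camina Cfsg.Agent.Lib.NoDiv.Mid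
open Cfsg.Agent.Lib.Char.GoingDown Cfsg.Agent.Lib.Char.Clifford Cfsg.Agent.Lib.Char.FreeAction
open Cfsg.Agent.Lib.Char.DegDvd
open Cfsg.Agent.Lib.NDF.StChar
open scoped ComplexConjugate

universe u

/-- Separation of a nontrivial element by an irreducible character. -/
theorem exists_irr_ne {F : Type u} [Group F] [Fintype F] {e : F} (he : e ≠ 1) :
    ∃ η : F → ℂ, IsIrrCharacter F η ∧ η e ≠ η 1 := by
  classical
  have := finite_irrCharacter (G := F)
  letI : Fintype (IrrCharacter F) := Fintype.ofFinite _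
  by_contra hcon
  push Not at hcon
  have h1 := sum_irr_mul_conj (G := F) e 1
  have h2 := sum_irr_mul_conj (G := F) 1 1
  have h3 : ∑ χ : IrrCharacter F, (χ : F → ℂ) e * conj ((χ : F → ℂ) 1) =
      ∑ χ : IrrCharacter F, (χ : F → ℂ) 1 * conj ((χ : F → ℂ) 1) := by
    refine Finset.sum_congr rfl fun χ _ => ?_
    rw [hcon χ χ.2]
  rw [h1, h2] at h3
  have h4 : ¬ IsConj e 1 := by
    rw [isConj_comm, isConj_one_right]
    exact he
  rw [if_neg h4, if_pos (IsConj.refl _)] at h3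
  have h5 : (Nat.card (Subgroup.centralizer ({(1 : F)} : Set F)) : ℂ) ≠ 0 := by
    exact_mod_cast Nat.card_pos.ne'
  exact h5 h3.symm

/-- The last step, in `Γ = H`. -/
theorem final_step {Γ : Type u} [Group Γ] [Fintype Γ] {N A T W : Subgroup Γ} [hNn : N.Normal]
    (hNA : N ≤ A) (hAab : ∀ a ∈ A, ∀ b ∈ A, a * b = b * a) (hAT : A ≤ T) (hTn : T.Normal)
    (hT4 : T.index = 4)
    (hWT : ∀ w ∈ W, ∀ y ∈ T, w * y * w⁻¹ * y⁻¹ ∈ N)
    (hdec : ∀ u : Γ, ∃ w ∈ W, ∃ y ∈ T, u = w * y)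
    (hcam : ∀ a ∈ W, a ∉ T → ∀ e ∈ W, e ∈ T → ∃ b, b * a * b⁻¹ = a * e)
    {e₀ : Γ} (he₀W : e₀ ∈ W) (he₀T : e₀ ∈ T) (he₀N : e₀ ∉ N)
    (hdeg : ∀ ξ : IrrCharacter Γ, (ξ : Γ → ℂ) 1 ≠ 1 → charDegree (ξ : Γ → ℂ) = A.index) : False := by
  classical
  set π := QuotientGroup.mk' N with hπ
  have hπs : Function.Surjective π := QuotientGroup.mk'_surjective N
  have hπ1 : ∀ x, π x = 1 ↔ x ∈ N := fun x => by simp [hπ]
  have hNT : N ≤ T := hNA.trans hAT
  let F : Subgroup (Γ ⧸ N) := T.map π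
  let Wb : Subgroup (Γ ⧸ N) := W.map π
  letI : Fintype (Γ ⧸ N) := Fintype.ofFinite _
  letI : Fintype F := Fintype.ofFinite _
  have hmemF : ∀ x, π x ∈ F ↔ x ∈ T := by
    intro x
    constructor
    · rintro ⟨y, hy, hxy⟩
      have h1 : y⁻¹ * x ∈ N := by
        rw [← hπ1, map_mul, map_inv, ← hxy]
        group
      have h2 := T.mul_mem hy (hNT h1)
      simpa using h2
    · intro hx
      exact ⟨x, hx, rfl⟩
  have hFn : F.Normal := hTn.map π hπs
  have hcomm : ∀ w ∈ W, ∀ y ∈ T, π w * π y = π y * π w := by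
    intro w hw y hy
    have h1 := (hπ1 _).2 (hWT w hw y hy)
    simp only [map_mul, map_inv] at h1
    calc π w * π y = (π w * π y * (π w)⁻¹ * (π y)⁻¹) * (π y * π w) := by group
      _ = π y * π w := by rw [h1, one_mul]
  have hWF : ∀ w ∈ Wb, ∀ f ∈ F, w * f = f * w := by
    rintro _ ⟨w, hw, rfl⟩ _ ⟨y, hy, rfl⟩
    exact hcomm w hw y hy
  have hX : ∀ u : Γ ⧸ N, ∃ w ∈ Wb, ∃ f ∈ F, u = w * f := by
    intro u
    obtain ⟨x, rfl⟩ := hπs u
    obtain ⟨w, hw, y, hy, rfl⟩ := hdec x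
    exact ⟨π w, ⟨w, hw, rfl⟩, π y, ⟨y, hy, rfl⟩, map_mul _ _ _⟩
  have hcamb : ∀ a ∈ Wb, a ∉ F → ∀ e ∈ Wb, e ∈ F → ∃ b ∈ Wb, b * a * b⁻¹ = a * e := by
    rintro _ ⟨a, ha, rfl⟩ haF _ ⟨e, he, rfl⟩ heF
    have haT : a ∉ T := fun h => haF ((hmemF a).2 h)
    have heT : e ∈ T := (hmemF e).1 heF
    obtain ⟨b, hb⟩ := hcam a ha haT e he heT
    obtain ⟨w, hw, y, hy, rfl⟩ := hdec b
    refine ⟨π w, ⟨w, hw, rfl⟩, ?_⟩
    have h1 := congrArg π hb
    simp only [map_mul, map_inv] at h1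
    rw [← h1]
    have h2 := hcomm a ha y hy
    have h3 : π y * π a * (π y)⁻¹ = π a := by
      rw [← h2]
      group
    calc π w * π a * (π w)⁻¹ = π w * (π y * π a * (π y)⁻¹) * (π w)⁻¹ := by rw [h3]
      _ = π w * π y * π a * ((π w * π y)⁻¹) := by group
      _ = _ := by group
  -- the character `η`
  have hene : (⟨π e₀, (hmemF e₀).2 he₀T⟩ : F) ≠ 1 := by
    intro h
    have h1 : π e₀ = 1 := congrArg Subtype.val h
    exact he₀N ((hπ1 _).1 h1)
  obtain ⟨η, hη, hηe⟩ := exists_irr_ne hene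
  obtain ⟨s, hs, ξ, hξ, hξη, -, -⟩ := Cfsg.Agent.Lib.NDF.CpOver.cp_over hFn hWF hX hcamb hη
    ⟨⟨π e₀, (hmemF e₀).2 he₀T⟩, ⟨e₀, he₀W, rfl⟩, hηe⟩
  have hFi : F.index = 4 := by
    have h1 : F.index = (T ⊔ π.ker).index * π.range.index := Subgroup.index_map _ _
    rw [h1, hπ, QuotientGroup.ker_mk', (QuotientGroup.mk' N).range_eq_top_of_surjective hπs,
      Subgroup.index_top, mul_one, sup_eq_left.mpr hNT, hT4]
  have hs2 : s = 2 := by
    rw [hFi] at hs
    nlinarith [sq_nonneg (s : ℤ), Nat.zero_le s, show s ≤ 2 ∨ 2 < s from le_or_gt s 2]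
  subst hs2
  -- degrees
  have hξ' : IsIrrCharacter Γ (ξ ∘ π) := Cfsg.Agent.Lib.Char.Linear.isIrrCharacter_comp π hπs hξ
  obtain ⟨k, hk⟩ := exists_deg_of_isCharacter (isCharacter_of_isIrrCharacter hη)
  have hk0 : k ≠ 0 := by
    rintro rfl
    apply irr_one_ne_zero hη
    simpa using hk
  have hξ1 : (ξ ∘ π) 1 = ((2 * k : ℕ) : ℂ) := by
    have h1 := hξη 1
    simp only [Function.comp, map_one]
    have h2 : ξ 1 = ξ ((1 : F) : Γ ⧸ N) := by simp
    rw [h2, h1, hk]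
    push_cast
    ring
  have hξ2 : (ξ ∘ π) 1 ≠ 1 := by
    rw [hξ1]
    intro h
    have h3 : 2 * k = 1 := by exact_mod_cast h
    omega
  have hdA := hdeg ⟨ξ ∘ π, hξ'⟩ hξ2
  have hdd : charDegree (ξ ∘ π) = 2 * k := charDegree_eq_of_eq_natCast hξ1
  change charDegree (ξ ∘ π) = A.index at hdA
  rw [hdd] at hdA
  -- `η` pulled back to `T`
  let f : T →* F := π.subgroupMap T
  have hfs : Function.Surjective f := π.subgroupMap_surjective T
  have hη' : IsIrrCharacter T (η ∘ f) := Cfsg.Agent.Lib.Char.Linear.isIrrCharacter_comp f hfs hη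
  have hηk : (η ∘ f) 1 = (k : ℂ) := by
    simp only [Function.comp, map_one]
    exact hk
  have hle := Cfsg.Agent.Lib.Char.TwoDeg.CaseA.le_index_of_abelian hη' hηk (A.subgroupOf T)
    (fun a ha b hb => by
      have h1 := hAab a (Subgroup.mem_subgroupOf.mp ha) b (Subgroup.mem_subgroupOf.mp hb)
      exact Subtype.ext h1)
  have hrel : A.relIndex T * T.index = A.index := Subgroup.relIndex_mul_index hAT
  have hAi : A.index ≠ 0 := Subgroup.index_ne_zero_of_finite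
  change k ≤ A.relIndex T at hle
  rw [hT4] at hrel
  omega

/-- A normal subgroup with an abelian supplement contains the derived subgroup. -/
theorem comm_le_of_sup {Γ : Type*} [Group Γ] {P A : Subgroup Γ} [P.Normal]
    (hAab : ∀ a ∈ A, ∀ b ∈ A, a * b = b * a) (hPAt : P ⊔ A = ⊤) : commutator Γ ≤ P := by
  rw [commutator_def, Subgroup.commutator_le]
  intro a _ b _
  rw [← QuotientGroup.eq_one_iff]
  have hsup : ∀ z : Γ, ∃ y ∈ P, ∃ w ∈ A, y * w = z := by
    intro z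
    have hz : z ∈ ((P ⊔ A : Subgroup Γ) : Set Γ) := by
      rw [hPAt]
      trivial
    rw [Subgroup.normal_mul] at hz
    obtain ⟨y, hy, w, hw, h⟩ := Set.mem_mul.mp hz
    exact ⟨y, hy, w, hw, h⟩
  obtain ⟨y, hy, w, hw, rfl⟩ := hsup a
  obtain ⟨y', hy', w', hw', rfl⟩ := hsup b
  have h1 : ((y : Γ) : Γ ⧸ P) = 1 := (QuotientGroup.eq_one_iff _).mpr hy
  have h2 : ((y' : Γ) : Γ ⧸ P) = 1 := (QuotientGroup.eq_one_iff _).mpr hy'
  have h3 : ((w * w' : Γ) : Γ ⧸ P) = ((w' * w : Γ) : Γ ⧸ P) := by rw [hAab w hw w' hw']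
  simp only [commutatorElement_def, QuotientGroup.mk_mul, QuotientGroup.mk_inv, h1, h2, one_mul] at h3 ⊢
  rw [h3]
  group

section Top

variable {G : Type u} [Group G] {H Y : Subgroup G}

/-- `G / H` acts semiregularly on the three nontrivial elements of `H / Y`. -/
theorem index_three [Finite G] (s : St H Y) (h4 : Y.relIndex H = 4) : H.index = 3 := by
  classical
  obtain ⟨c, hc, hcY⟩ := s.ne
  haveI := s.nY
  haveI hn : (Y.subgroupOf H).Normal := s.nY.subgroupOf H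
  let X := ↥H ⧸ Y.subgroupOf H
  let f : G → X := fun g => QuotientGroup.mk ⟨g * c * g⁻¹, s.nH.conj_mem c hc g⟩
  have hf : ∀ g g', f g = f g' → g⁻¹ * g' ∈ H := by
    intro g g' h
    have h1 := QuotientGroup.eq.mp h
    have h2 : (g * c * g⁻¹)⁻¹ * (g' * c * g'⁻¹) ∈ Y := Subgroup.mem_subgroupOf.mp h1
    by_contra hu
    apply hcY
    refine s.fpf (g⁻¹ * g') hu c hc ?_
    have h3 := s.nY.conj_mem _ h2 (c * g⁻¹)
    have h5 : g⁻¹ * g' * c * (g⁻¹ * g')⁻¹ * c⁻¹ =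
        c * g⁻¹ * ((g * c * g⁻¹)⁻¹ * (g' * c * g'⁻¹)) * (c * g⁻¹)⁻¹ := by group
    rw [h5]
    exact h3
  have hf1 : ∀ g, f g ≠ 1 := by
    intro g h
    have h1 : (⟨g * c * g⁻¹, s.nH.conj_mem c hc g⟩ : H) ∈ Y.subgroupOf H :=
      (QuotientGroup.eq_one_iff _).mp h
    have h2 : g * c * g⁻¹ ∈ Y := Subgroup.mem_subgroupOf.mp h1
    have h3 := s.nY.conj_mem _ h2 g⁻¹
    apply hcY
    have h5 : c = g⁻¹ * (g * c * g⁻¹) * g⁻¹⁻¹ := by group
    rw [h5]
    exact h3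
  let F : G ⧸ H → {x : X // x ≠ 1} := fun q => ⟨f q.out, hf1 _⟩
  have hFi : Function.Injective F := by
    intro q q' h
    have h1 : f q.out = f q'.out := congrArg Subtype.val h
    have h2 := hf _ _ h1
    have h3 : ((q.out : G) : G ⧸ H) = (q'.out : G) := QuotientGroup.eq.mpr h2
    simpa using h3
  letI : Fintype X := Fintype.ofFinite _
  letI : Fintype (G ⧸ H) := Fintype.ofFinite _
  have hle : H.index ≤ 3 := by
    have h1 := Fintype.card_le_of_injective F hFi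
    have h2 : Fintype.card {x : X // x ≠ 1} = Fintype.card X - 1 := by
      have := Fintype.card_subtype_compl (fun x : X => x = 1)
      rw [Fintype.card_subtype_eq] at this
      simp
    have h3 : Fintype.card X = 4 := by
      rw [← Nat.card_eq_fintype_card]
      exact h4
    have h5 : H.index = Fintype.card (G ⧸ H) := by
      rw [Subgroup.index, Nat.card_eq_fintype_card]
    omega
  have h1 := StChar.St.one_lt_index s
  have hcop := s.cop
  rw [h4] at hcop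
  interval_cases h : H.index
  · revert hcop; decide
  · rfl

/-- Nonlinear degrees of `H` are degrees of `G`. -/
theorem nl_degree [Fintype G] [Fintype H] (s : St H Y) (h3 : H.index = 3) {ξ : H → ℂ}
    (hξ : IsIrrCharacter H ξ) (hξ1 : ξ 1 ≠ 1) : charDegree ξ ∈ charDegrees G := by
  classical
  obtain ⟨g, hg, hfix⟩ := StChar.St.nl_moved s hξ hξ1
  have hC := s.nH
  have hle : H ≤ inertia hC ξ := le_inertia hC (isClassFunction_of_isIrrCharacter hξ)
  have hI : (inertia hC ξ).index = 1 := by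
    have h1 : H.relIndex (inertia hC ξ) * (inertia hC ξ).index = H.index :=
      Subgroup.relIndex_mul_index hle
    rw [h3] at h1
    have h2 : H.relIndex (inertia hC ξ) ≠ 1 := by
      intro h
      exact hg (Subgroup.relIndex_eq_one.mp h (show g ∈ inertia hC ξ from hfix))
    have h5 : (inertia hC ξ).index ∣ 3 := ⟨_, by rw [← h1, mul_comm]⟩
    rcases (Nat.dvd_prime Nat.prime_three).mp h5 with h6 | h6
    · exact h6
    · rw [h6] at h1
      omega
  obtain ⟨χ', hχ'⟩ := Cfsg.Agent.Lib.Blk89.ItoMichler.exists_irr_over (G := G) (N := H) hξ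
  have hab : ∀ a b : G, a * b * a⁻¹ * b⁻¹ ∈ H := s.ab
  obtain ⟨e, he, hsq⟩ := exists_sq_mul_index hC hab χ'.2 hξ hχ'
  have hstab : Nat.card (stab H (χ' : G → ℂ)) ≤ H.index := by
    have := finite_hom (K := G)
    have h1 : Nat.card (stab H (χ' : G → ℂ)) ≤ Nat.card (dualOf H) :=
      Nat.card_mono (Set.toFinite _) (stab_le_dualOf H _)
    rwa [card_dualOf hC hab] at h1
  rw [hI, mul_one] at hsq
  have he1 : e = 1 := by
    have h1 : e ^ 2 ≤ 3 := by rw [hsq]; omega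
    have h2 : e ≠ 0 := by
      rintro rfl
      apply hχ'
      rw [he]
      simp
    have h5 : e ≤ 1 := by
      by_contra h6
      have : 2 ≤ e := by omega
      nlinarith
    omega
  have hdeg2 := deg_eq_of_constituent hC χ'.2 hξ hχ'
  rw [he, he1, hI] at hdeg2
  have hd : (χ' : G → ℂ) 1 = ξ 1 := by
    rw [hdeg2]
    simp
  have hdc : charDegree (χ' : G → ℂ) = charDegree ξ := by
    apply charDegree_eq_of_eq_natCast
    rw [hd]
    exact charDegree_natCast (isCharacter_of_isIrrCharacter hξ) |>.symm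
  rw [← hdc]
  exact ⟨χ', rfl⟩

/-- An abelian subgroup of `H` containing `E` lies in `Y`. -/
theorem abelian_le_Y [Finite G] (s : St H Y) (hel : ∀ c ∈ H, c ^ 2 ∈ Y) {N : Subgroup G}
    (hN1 : N ≠ ⊥) (hNE : N ≤ ⁅H, H⁆) (hNH : N ≤ H) {r : ℕ} (hr : r.Prime) (hrp : r ≠ 2)
    (hNr : ∀ n ∈ N, n ^ r = 1) {A : Subgroup H} (hAab : ∀ a ∈ A, ∀ b ∈ A, a * b = b * a)
    (hNA : ∀ n (hn : n ∈ N), (⟨n, hNH hn⟩ : H) ∈ A) :
    A ≤ Y.subgroupOf H := by
  classical
  intro c hcA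
  rw [Subgroup.mem_subgroupOf]
  by_contra hcY
  have ho : orderOf c ≠ 0 := (orderOf_pos c).ne'
  obtain ⟨a, u, hu, hau⟩ := Nat.exists_eq_two_pow_mul_odd ho
  obtain ⟨t, ht⟩ := hu
  set c₂ : H := c ^ u with hc₂
  have hc₂A : c₂ ∈ A := A.pow_mem hcA u
  have hc₂Y : (c₂ : G) ∉ Y := by
    intro h
    apply hcY
    have h1 : ((c : G) ^ 2) ^ t ∈ Y := Y.pow_mem (hel _ c.2) t
    have h2 : (c₂ : G) = ((c : G) ^ 2) ^ t * c := by
      rw [hc₂, ht]
      simp only [Subgroup.coe_pow]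
      rw [← pow_mul, pow_succ]
    rw [h2] at h
    have h3 := Y.mul_mem (Y.inv_mem h1) h
    simpa using h3
  have hc₂o : c₂ ^ (2 ^ a) = 1 := by
    rw [hc₂, ← pow_mul, mul_comm, ← hau, pow_orderOf_eq_one]
  apply hN1
  rw [eq_bot_iff]
  intro n hn
  rw [Subgroup.mem_bot]
  obtain ⟨b, hb, hbc⟩ := StChar.St.cam s c₂ c₂.2 hc₂Y n (hNE hn)
  have hcomm : Commute (c₂ : G) n := by
    have h1 := hAab c₂ hc₂A _ (hNA n hn)
    exact congrArg Subtype.val h1
  have hc₂o' : (c₂ : G) ^ (2 ^ a) = 1 := by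
    have := congrArg Subtype.val hc₂o
    simpa using this
  have h1 : ((c₂ : G) * n) ^ (2 ^ a) = 1 := by
    rw [← hbc, conj_pow, hc₂o']
    group
  rw [hcomm.mul_pow, hc₂o', one_mul] at h1
  have h2 := hNr n hn
  have hcop : Nat.Coprime (2 ^ a) r := by
    apply Nat.Coprime.pow_left
    exact (Nat.coprime_primes Nat.prime_two hr).mpr (Ne.symm hrp)
  have h3 := pow_gcd_eq_one.mpr ⟨h1, h2⟩
  rw [hcop] at h3
  simpa using h3

/-- `|H : Y| = 4`. -/
theorem rel_four (s : St H Y) {N W₁ L : Subgroup G} (hNE : N ≤ ⁅H, H⁆) (D : DL H 2 N W₁ L) :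
    Y.relIndex H = 4 := by
  haveI := s.nH
  haveI := s.nY
  have hGH : commutator G ≤ H := by
    rw [commutator_def, Subgroup.commutator_le]
    intro a _ b _
    exact s.ab a b
  have hEG : (⁅H, H⁆ : Subgroup G) ≤ commutator G := by
    rw [← s.GE]; exact inf_le_left
  have hH : commutator G ⊔ Y = H := by
    apply le_antisymm (sup_le hGH s.YH)
    intro c hc
    obtain ⟨d, hd, hdY⟩ := s.GY c hc
    have h1 : c = d * (d⁻¹ * c) := by group
    rw [h1]
    exact Subgroup.mul_mem_sup hd hdY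
  have hG : W₁ ⊔ (⁅H, H⁆ : Subgroup G) = commutator G := by
    apply le_antisymm (sup_le D.WG hEG)
    intro d hd
    obtain ⟨n, hn, w, hw, rfl⟩ := D.dec d hd
    rw [sup_comm]
    exact Subgroup.mul_mem_sup (hNE hn) hw
  have hLeq : L = (⁅H, H⁆ : Subgroup G) ⊓ W₁ := by
    ext x
    rw [D.mL x]
    exact and_comm
  haveI hEn : (⁅H, H⁆ : Subgroup G).Normal := Subgroup.commutator_normal H H
  have e1 : Y.relIndex H = Y.relIndex (commutator G) := by
    rw [← hH]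
    exact Subgroup.relIndex_sup_right _ _
  have e2 : Y.relIndex (commutator G) = (⁅H, H⁆ : Subgroup G).relIndex (commutator G) := by
    rw [← s.GE, inf_comm]
    exact (Subgroup.inf_relIndex_right _ _).symm
  have e3 : (⁅H, H⁆ : Subgroup G).relIndex (commutator G) = (⁅H, H⁆ : Subgroup G).relIndex W₁ := by
    rw [← hG]
    exact Subgroup.relIndex_sup_right _ _
  have e4 : (⁅H, H⁆ : Subgroup G).relIndex W₁ = L.relIndex W₁ := by
    rw [hLeq]
    exact (Subgroup.inf_relIndex_right _ _).symm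
  rw [e1, e2, e3, e4, D.iL]
  norm_num

set_option maxHeartbeats 1000000 in
/-- (D3) Post 7, (f): `p = 2` is impossible. `r` is odd here (`r ≠ p`). -/
theorem layer_two [Finite G] [Group.IsSolvable G] (s : St H Y)
    (hel : ∀ c ∈ H, c ^ 2 ∈ Y) (hnc : ∀ c ∈ H, ∃ c' ∈ H, ∀ k : ℕ, c' * (c ^ k)⁻¹ ∉ Y)
    {N W₁ L : Subgroup G} (hN : Chief ⊥ N) (hNE : N ≤ ⁅H, H⁆) {r : ℕ} (hr : r.Prime) (hrp : r ≠ 2)
    (hNr : ∀ n ∈ N, n ^ r = 1) (hEN : ∀ e ∈ (⁅H, H⁆ : Subgroup G), ∃ k : ℕ, e ^ (2 ^ k) ∈ N)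
    (D : DL H 2 N W₁ L) : False := by
  classical
  letI : Fintype G := Fintype.ofFinite G
  letI : Fintype H := Fintype.ofFinite _
  haveI := s.nH
  haveI := s.nY
  have hGH : commutator G ≤ H := by
    rw [commutator_def, Subgroup.commutator_le]
    intro a _ b _
    exact s.ab a b
  have hEY : (⁅H, H⁆ : Subgroup G) ≤ Y := by
    rw [← s.GE]; exact inf_le_right
  have hEG : (⁅H, H⁆ : Subgroup G) ≤ commutator G := by
    rw [← s.GE]; exact inf_le_left
  have hEH : (⁅H, H⁆ : Subgroup G) ≤ H := Subgroup.commutator_le_left H H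
  have hnN : N.Normal := hN.nL
  haveI := hnN
  have hN1 : N ≠ ⊥ := fun h => hN.ne h.symm
  -- the element `e₀` of `L`
  have hLc : Nat.card L = 2 := D.cL
  obtain ⟨⟨e₀, he₀L⟩, he₀1, huniq⟩ := (Nat.card_eq_two_iff' (1 : L)).mp hLc
  have he₀ne : e₀ ≠ 1 := fun h => he₀1 (Subtype.ext h)
  have hLtwo : ∀ w ∈ L, w = 1 ∨ w = e₀ := by
    intro w hw
    by_cases h : w = 1
    · exact Or.inl h
    · right
      have h1 := huniq ⟨w, hw⟩ (fun h' => h (congrArg Subtype.val h'))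
      exact congrArg Subtype.val h1
  have hLsq : ∀ w ∈ L, w ^ 2 = 1 := by
    intro w hw
    have h1 := pow_card_eq_one' (x := (⟨w, hw⟩ : L))
    rw [hLc] at h1
    have := congrArg Subtype.val h1
    simpa using this
  have he₀W : e₀ ∈ W₁ := ((D.mL e₀).mp he₀L).1
  have he₀E : e₀ ∈ (⁅H, H⁆ : Subgroup G) := ((D.mL e₀).mp he₀L).2
  have he₀N : e₀ ∉ N := by
    intro h
    have h1 : e₀ ∈ N ⊓ W₁ := ⟨h, he₀W⟩
    rw [D.NW] at h1
    exact he₀ne h1
  have hEdec : ∀ e ∈ (⁅H, H⁆ : Subgroup G), ∃ n ∈ N, ∃ w ∈ L, e = n * w := by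
    intro e he
    obtain ⟨n, hn, w, hw, rfl⟩ := D.dec e (hEG he)
    refine ⟨n, hn, w, (D.mL w).mpr ⟨hw, ?_⟩, rfl⟩
    have h1 := Subgroup.mul_mem _ (Subgroup.inv_mem _ (hNE hn)) he
    simpa using h1
  have hChief : Chief N (⁅H, H⁆ : Subgroup G) := by
    refine ⟨hnN, Subgroup.commutator_normal H H, hNE, fun h => he₀N (h ▸ he₀E), ?_⟩
    intro K hKn hNK hKE
    by_cases hKN : K ≤ N
    · exact Or.inl (le_antisymm hKN hNK)
    · right
      obtain ⟨k, hk, hkN⟩ := Set.not_subset.mp hKN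
      obtain ⟨n, hn, w, hw, rfl⟩ := hEdec k (hKE hk)
      have hw1 : w ≠ 1 := by
        rintro rfl
        exact hkN (by simpa using hn)
      have hwe := (hLtwo w hw).resolve_left hw1
      subst hwe
      have he₀K : w ∈ K := by
        have h1 := K.mul_mem (K.inv_mem (hNK hn)) hk
        simpa using h1
      apply le_antisymm hKE
      intro e he
      obtain ⟨n', hn', w', hw', rfl⟩ := hEdec e he
      rcases hLtwo w' hw' with rfl | rfl
      · simpa using hNK hn'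
      · exact K.mul_mem (hNK hn') he₀K
  have hpe : ∀ e ∈ (⁅H, H⁆ : Subgroup G), e ^ 2 ∈ N := by
    intro e he
    obtain ⟨n, hn, w, hw, rfl⟩ := hEdec e he
    have h1 : (n * w) ^ 2 = n * (w * n * w⁻¹) * w ^ 2 := by
      simp only [sq]
      group
    rw [h1, hLsq w hw, mul_one]
    exact N.mul_mem hn (hnN.conj_mem n hn w)
  have h4 : Y.relIndex H = 4 := rel_four s hNE D
  have hm := index_three s h4
  obtain ⟨-, -, hGY, -⟩ := Lemma3.lemma3 s hChief Nat.prime_two hpe (by rw [h4]; norm_num)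
  -- `NoDiv H`
  have hND : NoDiv H := by
    rintro a ⟨ξ, rfl⟩ b ⟨ξ', rfl⟩ h1 h2 h3
    have hξc := isCharacter_of_isIrrCharacter ξ.2
    have hξ'c := isCharacter_of_isIrrCharacter ξ'.2
    have ha : (ξ : H → ℂ) 1 ≠ 1 := fun h => h1.ne' ((charDegree_eq_one_iff hξc).mpr h)
    have hb : (ξ' : H → ℂ) 1 ≠ 1 := fun h => by
      have := (charDegree_eq_one_iff hξ'c).mpr h
      omega
    exact s.nd _ (nl_degree s hm ξ.2 ha) _ (nl_degree s hm ξ'.2 hb) h1 h2 h3
  have hdeg : ∀ ξ : IrrCharacter H, (ξ : H → ℂ) 1 = 1 ∨ 2 ∣ charDegree (ξ : H → ℂ) := by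
    intro ξ
    by_cases h : (ξ : H → ℂ) 1 = 1
    · exact Or.inl h
    · exact Or.inr (StChar.St.deg_p s Nat.prime_two (by rw [h4]; norm_num) ξ.2 h)
  haveI : Fact (Nat.Prime 2) := ⟨Nat.prime_two⟩
  obtain ⟨L₀, hL₀n, hL₀k, hL₀2⟩ :=
    Cfsg.Agent.Lib.CharDeep.ThompsonDeg.exists_normal_complement (G := H) (p := 2) hdeg
  -- elements of `E` are commutators of `H`
  have hcomH : ∀ x (hx : x ∈ (⁅H, H⁆ : Subgroup G)), (⟨x, hEH hx⟩ : H) ∈ commutator H := by
    intro x hx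
    rw [← Subgroup.map_subtype_commutator] at hx
    obtain ⟨y, hy, rfl⟩ := hx
    exact hy
  have hnab : ¬ commutator H ≤ L₀ := by
    intro h
    have h1 := h (hcomH e₀ he₀E)
    have h2 : orderOf (⟨⟨e₀, hEH he₀E⟩, h1⟩ : L₀) = 2 := by
      apply orderOf_eq_prime
      · apply Subtype.ext
        apply Subtype.ext
        simpa using hLsq e₀ he₀L
      · intro h3
        apply he₀ne
        have := congrArg (fun x : L₀ => ((x : H) : G)) h3
        simpa using this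
    apply hL₀2
    rw [← h2]
    exact orderOf_dvd_natCard _
  obtain ⟨x, hx⟩ := Cfsg.Agent.Lib.NoDiv.CaseA.case_a Nat.prime_two hdeg hND L₀ hL₀n hL₀k hL₀2 hnab
  -- `H` is not abelian
  have hexn : ∃ ξ : IrrCharacter H, (ξ : H → ℂ) 1 ≠ 1 := by
    by_contra hc
    push Not at hc
    have h1 := comm_iff_all_deg_one.mpr hc
    have h2 : commutator H = ⊥ := by
      rw [commutator_def, eq_bot_iff, Subgroup.commutator_le]
      intro a _ b _
      rw [Subgroup.mem_bot, commutatorElement_def, h1 a b]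
      group
    have h3 := hcomH e₀ he₀E
    rw [h2, Subgroup.mem_bot] at h3
    exact he₀ne (congrArg Subtype.val h3)
  obtain ⟨ξ₀, hξ₀⟩ := hexn
  have hx1 : x ≠ 1 := by
    rintro rfl
    exact hξ₀ ((charDegree_eq_one_iff (isCharacter_of_isIrrCharacter ξ₀.2)).mp (hx ξ₀ hξ₀))
  have hcd : ∀ χ : IrrCharacter H, charDegree (χ : H → ℂ) = 1 ∨ charDegree (χ : H → ℂ) = x := by
    intro χ
    by_cases h : (χ : H → ℂ) 1 = 1
    · exact Or.inl ((charDegree_eq_one_iff (isCharacter_of_isIrrCharacter χ.2)).mpr h)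
    · exact Or.inr (hx χ h)
  rcases Cfsg.Agent.Lib.Char.TwoDeg.Main.main (G := H) hcd ⟨ξ₀, hx ξ₀ hξ₀⟩ hx1 with
    ⟨A, hAn, hAab, hAi, hAc⟩ | ⟨p, e, hp, hxp, P, A, hPn, hAn, hPp, hAab, hPA, hPAt, hnil⟩
  · -- the main case
    have hNA : ∀ n (hn : n ∈ N), (⟨n, (hNE.trans hEH) hn⟩ : H) ∈ A :=
      fun n hn => hAc (hcomH n (hNE hn))
    have hAT := abelian_le_Y s hel hN1 hNE (hNE.trans hEH) hr hrp hNr hAab hNA
    haveI hNt : (N.subgroupOf H).Normal := hnN.subgroupOf H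
    refine final_step (N := N.subgroupOf H) (A := A) (T := Y.subgroupOf H)
      (W := (commutator G).subgroupOf H) (e₀ := ⟨e₀, hEH he₀E⟩) ?_ hAab hAT (s.nY.subgroupOf H) h4
      ?_ ?_ ?_ ?_ ?_ ?_ ?_
    · intro n hn
      exact hNA n.1 (Subgroup.mem_subgroupOf.mp hn)
    · intro w hw y hy
      rw [Subgroup.mem_subgroupOf]
      exact hGY w.1 (Subgroup.mem_subgroupOf.mp hw) y.1 (Subgroup.mem_subgroupOf.mp hy)
    · intro u
      obtain ⟨d, hd, hdY⟩ := s.GY u.1 u.2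
      refine ⟨⟨d, hGH hd⟩, Subgroup.mem_subgroupOf.mpr hd, ⟨d⁻¹ * u.1, s.YH hdY⟩,
        Subgroup.mem_subgroupOf.mpr hdY, ?_⟩
      apply Subtype.ext
      simp
    · intro a ha haT e he heT
      have haY : (a : G) ∉ Y := fun h => haT (Subgroup.mem_subgroupOf.mpr h)
      have heE : (e : G) ∈ (⁅H, H⁆ : Subgroup G) := by
        rw [← s.GE]
        exact ⟨Subgroup.mem_subgroupOf.mp he, Subgroup.mem_subgroupOf.mp heT⟩
      obtain ⟨b, hb, hbc⟩ := StChar.St.cam s a.1 a.2 haY e.1 heE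
      refine ⟨⟨b, hb⟩, ?_⟩
      apply Subtype.ext
      simpa using hbc
    · exact Subgroup.mem_subgroupOf.mpr (hEG he₀E)
    · exact Subgroup.mem_subgroupOf.mpr (hEY he₀E)
    · intro h
      exact he₀N (Subgroup.mem_subgroupOf.mp h)
    · intro ξ hξ
      rw [hAi]
      exact hx ξ hξ
  · -- the nilpotent case
    exfalso
    haveI := hPn
    have hHP : commutator H ≤ P := comm_le_of_sup hAab hPAt
    -- `p = 2`
    have hp2 : p = 2 := by
      obtain ⟨k, hk⟩ := hPp ⟨_, hHP (hcomH e₀ he₀E)⟩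
      have h1 : e₀ ^ (p ^ k) = 1 := by
        have := congrArg (fun x : P => ((x : H) : G)) hk
        simpa using this
      by_contra hne
      have hcop : Nat.Coprime (p ^ k) 2 := by
        apply Nat.Coprime.pow_left
        exact (Nat.coprime_primes hp Nat.prime_two).mpr hne
      have h3 := pow_gcd_eq_one.mpr ⟨h1, hLsq e₀ he₀L⟩
      rw [hcop] at h3
      exact he₀ne (by simpa using h3)
    have hpr : p = r := by
      obtain ⟨n, hn, hn1⟩ : ∃ n ∈ N, n ≠ 1 := by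
        by_contra hc
        push Not at hc
        exact hN1 ((Subgroup.eq_bot_iff_forall N).mpr hc)
      obtain ⟨k, hk⟩ := hPp ⟨_, hHP (hcomH n (hNE hn))⟩
      have h1 : n ^ (p ^ k) = 1 := by
        have := congrArg (fun x : P => ((x : H) : G)) hk
        simpa using this
      by_contra hne
      have hcop : Nat.Coprime (p ^ k) r := by
        apply Nat.Coprime.pow_left
        exact (Nat.coprime_primes hp hr).mpr hne
      have h3 := pow_gcd_eq_one.mpr ⟨h1, hNr n hn⟩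
      rw [hcop] at h3
      exact hn1 (by simpa using h3)
    exact hrp (by omega)

end Top

end Cfsg.Agent.Lib.NDF.LayerTwo
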