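import Cfsg.Agent.Lib.NDF.Layer
import Cfsg.Agent.Lib.NDF.LayerOdd
import Cfsg.Agent.Lib.NDF.LayerTwo
import Cfsg.Agent.Lib.NDF.StChar

/-!
# S4780, block D: no prime-to-`p` layer in `E`
-/

set_option autoImplicit false
set_option linter.unusedSectionVars false
set_option linter.style.haveILetI false

namespace Cfsg.Agent.Lib.NDF.NoLayer0

open Cfsg Cfsg.Agent.Lib.NoDiv.Defs Cfsg.Agent.Lib.NDF.Defs
open Cfsg.Agent.Lib.NDF.DDefs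

universe u

variable {G : Type u} [Group G] {H Y : Subgroup G}

/-- (D) No prime-to-`p` layer in `E`. -/
theorem no_layer0 [Finite G] [Group.IsSolvable G] (s : St H Y) {p : ℕ} (hp : p.Prime)
    (hel : ∀ c ∈ H, c ^ p ∈ Y) (hnc : ∀ c ∈ H, ∃ c' ∈ H, ∀ k : ℕ, c' * (c ^ k)⁻¹ ∉ Y)
    {N : Subgroup G} (hN : Chief ⊥ N) (hNE : N ≤ ⁅H, H⁆) {r : ℕ} (hr : r.Prime) (hrp : r ≠ p)
    (hNr : ∀ n ∈ N, n ^ r = 1) (hEN : ∀ e ∈ (⁅H, H⁆ : Subgroup G), ∃ k : ℕ, e ^ (p ^ k) ∈ N)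
    (hE1 : N ≠ ⁅H, H⁆) (hEab : (⁅(⁅H, H⁆ : Subgroup G), (⁅H, H⁆ : Subgroup G)⁆ : Subgroup G) ≤ N)
    (hcamW : ∀ a ∈ commutator G, a ∉ (⁅H, H⁆ : Subgroup G) → ∀ e ∈ (⁅H, H⁆ : Subgroup G),
      ∃ b ∈ commutator G, (b * a * b⁻¹)⁻¹ * (a * e) ∈ N) : False := by
  obtain ⟨W₁, L, D⟩ := Cfsg.Agent.Lib.NDF.Layer.exists_layer s (Cfsg.Agent.Lib.NDF.StChar.St.cam s) hp hel
    hN hNE hr hrp hNr hEN hE1 hEab hcamW
  by_cases h2 : p = 2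
  · subst h2
    exact Cfsg.Agent.Lib.NDF.LayerTwo.layer_two s hel hnc hN hNE hr hrp hNr hEN D
  · refine Cfsg.Agent.Lib.NDF.LayerOdd.layer_odd s hp h2 hel hnc hN ?_ D
    intro a ha b hb
    have := Cfsg.Agent.Lib.NDF.ChiefE.chief_comm hN a ha b hb
    rw [Subgroup.mem_bot] at this
    have h3 : a * b = (a * b * a⁻¹ * b⁻¹) * (b * a) := by group
    rw [h3, this, one_mul]

end Cfsg.Agent.Lib.NDF.NoLayer0
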