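import Cfsg.Agent.Lib.NDF.Defs
import Cfsg.Agent.Lib.NDF.StChar
import Cfsg.Agent.Lib.CharDeep.ThompsonDeg
import Mathlib.Tactic

/-!
# S4780 (L3): the normal `p`-complement of `H`, intersected with `E`.
-/

set_option autoImplicit false
set_option linter.unusedSectionVars false
set_option linter.style.haveILetI false

namespace Cfsg.Agent.Lib.NDF.PComplement

open Cfsg Cfsg.Agent.Lib.NoDiv.Defs Cfsg.Agent.Lib.NDF.Defs
open Cfsg.Agent.Lib.Char.Basic

universe u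

variable {G : Type u} [Group G] {H Y : Subgroup G}

/-- (L3), from the divisibility of the nonlinear degrees of `H` by `p` (T7). -/
theorem exists_p_complement_of_deg [Fintype G] (hH : H.Normal) {p : ℕ} (hp : p.Prime)
    (hdeg : ∀ ξ : H → ℂ, IsIrrCharacter H ξ → ξ 1 ≠ 1 → p ∣ charDegree ξ)
    (hpE : p ∣ Nat.card (⁅H, H⁆ : Subgroup G)) :
    ∃ N₀ : Subgroup G, N₀.Normal ∧ N₀ ≤ ⁅H, H⁆ ∧ N₀ ≠ ⁅H, H⁆ ∧ ¬ p ∣ Nat.card N₀ ∧
      ∀ e ∈ (⁅H, H⁆ : Subgroup G), ∃ k : ℕ, e ^ (p ^ k) ∈ N₀ := by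
  classical
  haveI : Fact p.Prime := ⟨hp⟩
  haveI : H.Normal := hH
  letI : Fintype H := Fintype.ofFinite H
  obtain ⟨L₀, hL₀n, ⟨k, hk⟩, hL₀p⟩ :=
    Cfsg.Agent.Lib.CharDeep.ThompsonDeg.exists_normal_complement (G := H) (p := p) (by
      intro χ
      by_cases h : (χ : H → ℂ) 1 = 1
      · exact Or.inl h
      · exact Or.inr (hdeg _ χ.2 h))
  -- elements of `L₀` are the `p'`-elements of `H`
  have hcharac : ∀ h : H, h ∈ L₀ ↔ ¬ p ∣ orderOf (h : G) := by
    intro h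
    rw [Subgroup.orderOf_coe]
    constructor
    · intro hh hd
      apply hL₀p
      have h1 : orderOf (⟨h, hh⟩ : L₀) = orderOf h := Subgroup.orderOf_mk h hh
      rw [← h1] at hd
      exact hd.trans (orderOf_dvd_natCard _)
    · intro hd
      have h1 : h ^ (p ^ k) ∈ L₀ := by
        rw [← hk]
        exact Subgroup.pow_index_mem L₀ h
      have hc : Nat.Coprime (orderOf h) (p ^ k) := by
        apply Nat.Coprime.pow_right
        exact ((Nat.Prime.coprime_iff_not_dvd hp).2 hd).symm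
      have h2 := Nat.gcd_eq_gcd_ab (p ^ k) (orderOf h)
      rw [hc.symm.gcd_eq_one] at h2
      have hx1 : h = (h ^ (p ^ k)) ^ (Nat.gcdA (p ^ k) (orderOf h)) := by
        have : h ^ ((p ^ k : ℕ) * Nat.gcdA (p ^ k) (orderOf h) : ℤ) = h := by
          have h3 : ((p ^ k : ℕ) * Nat.gcdA (p ^ k) (orderOf h) : ℤ) = 1 - (orderOf h) * Nat.gcdB (p ^ k) (orderOf h) := by
            push_cast at h2 ⊢
            linarith
          rw [h3, zpow_sub, zpow_one, zpow_mul, zpow_natCast, pow_orderOf_eq_one]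
          simp
        rw [← zpow_natCast h (p ^ k), ← zpow_mul]
        exact this.symm
      rw [hx1]
      exact L₀.zpow_mem h1 _
  -- the image in `G`
  let L : Subgroup G := L₀.map H.subtype
  have hLmem : ∀ g : G, g ∈ L ↔ g ∈ H ∧ ¬ p ∣ orderOf g := by
    intro g
    constructor
    · rintro ⟨h, hh, rfl⟩
      exact ⟨h.2, (hcharac h).1 hh⟩
    · rintro ⟨hg, hd⟩
      exact ⟨⟨g, hg⟩, (hcharac ⟨g, hg⟩).2 hd, rfl⟩
  have hLn : L.Normal := by
    constructor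
    intro n hn g
    rw [hLmem] at hn ⊢
    refine ⟨hH.conj_mem n hn.1 g, ?_⟩
    have : orderOf (g * n * g⁻¹) = orderOf n :=
      orderOf_injective (MulAut.conj g).toMonoidHom (MulAut.conj g).injective n
    rw [this]
    exact hn.2
  have hLcard : ¬ p ∣ Nat.card L := by
    have : Nat.card L = Nat.card L₀ := Nat.card_congr (Subgroup.equivMapOfInjective L₀ H.subtype H.subtype_injective).toEquiv.symm
    rw [this]
    exact hL₀p
  have hEn : (⁅H, H⁆ : Subgroup G).Normal := Subgroup.commutator_normal H H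
  have hEH : (⁅H, H⁆ : Subgroup G) ≤ H := Subgroup.commutator_le_left H H
  refine ⟨(⁅H, H⁆ : Subgroup G) ⊓ L, Subgroup.normal_inf_normal _ _, inf_le_left, ?_, ?_, ?_⟩
  · intro h
    have h1 : ¬ p ∣ Nat.card ((⁅H, H⁆ : Subgroup G) ⊓ L : Subgroup G) := fun hd =>
      hLcard (hd.trans (Subgroup.card_dvd_of_le inf_le_right))
    rw [h] at h1
    exact h1 hpE
  · exact fun hd => hLcard (hd.trans (Subgroup.card_dvd_of_le inf_le_right))
  · intro e he
    refine ⟨k, (⁅H, H⁆ : Subgroup G).pow_mem he _, ?_⟩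
    refine ⟨⟨e, hEH he⟩ ^ (p ^ k), ?_, by simp⟩
    rw [← hk]
    exact Subgroup.pow_index_mem L₀ _

/-- (L3) -/
theorem exists_p_complement [Fintype G] [Group.IsSolvable G] (s : St H Y) {p : ℕ} (hp : p.Prime)
    (hpA : p ∣ Y.relIndex H) (hpE : p ∣ Nat.card (⁅H, H⁆ : Subgroup G)) :
    ∃ N₀ : Subgroup G, N₀.Normal ∧ N₀ ≤ ⁅H, H⁆ ∧ N₀ ≠ ⁅H, H⁆ ∧ ¬ p ∣ Nat.card N₀ ∧
      ∀ e ∈ (⁅H, H⁆ : Subgroup G), ∃ k : ℕ, e ^ (p ^ k) ∈ N₀ := by
  classical
  letI : Fintype H := Fintype.ofFinite H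
  exact exists_p_complement_of_deg s.nH hp
    (fun ξ hξ hξ1 => Cfsg.Agent.Lib.NDF.StChar.St.deg_p s hp hpA hξ hξ1) hpE

end Cfsg.Agent.Lib.NDF.PComplement
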