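import Cfsg.Agent.Lib.NDF.CaseI
import Cfsg.Agent.Lib.NDF.CaseII
import Cfsg.Agent.Lib.NDF.NoLayer0
import Cfsg.Agent.Lib.NDF.TopNDF
import Cfsg.Agent.Lib.NDF.TwoDegT
import Cfsg.Agent.Lib.NDF.PComplement
import Cfsg.Agent.Lib.NDF.Lemma3
import Cfsg.Agent.Lib.NDF.StQuot
import Cfsg.Agent.Lib.NDF.ChiefE
import Cfsg.Agent.Lib.NoDiv.Deep1

set_option autoImplicit false
set_option linter.unusedSectionVars false
set_option linter.style.haveILetI false
set_option linter.unusedSimpArgs false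

namespace Cfsg.Agent.Lib.NDF.MainT

open Cfsg Cfsg.Agent.Lib.NoDiv.Defs Cfsg.Agent.Lib.NDF.Defs
open Cfsg.Agent.Lib.NDF.CaseI Cfsg.Agent.Lib.NDF.CaseII Cfsg.Agent.Lib.NDF.NoLayer0
open Cfsg.Agent.Lib.NDF.TopNDF Cfsg.Agent.Lib.NDF.TwoDegT Cfsg.Agent.Lib.NDF.PComplement
open Cfsg.Agent.Lib.NDF.Lemma3 Cfsg.Agent.Lib.NDF.StQuot
open Cfsg.Agent.Lib.NDF.ChiefE Cfsg.Agent.Lib.NoDiv.Deep1

universe u

variable {G : Type u} [Group G]

theorem card_le_of_noE [Finite G] {m : ℕ} (h : ∀ d ∈ charDegrees G, d = 1 ∨ d = m) :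
    Nat.card (charDegrees G) ≤ 4 := by
  have hs : charDegrees G ⊆ ({1, m} : Set ℕ) := fun d hd => by
    rcases h d hd with h | h <;> simp [h]
  have hfin : ({1, m} : Set ℕ).Finite := Set.toFinite _
  have h1 : Nat.card (charDegrees G) ≤ Nat.card ({1, m} : Set ℕ) := Nat.card_mono hfin hs
  have h2 : Nat.card ({1, m} : Set ℕ) ≤ 2 := by
    classical
    rw [Nat.card_coe_set_eq, Set.ncard_eq_toFinset_card' ]
    simp only [Set.toFinset_insert, Set.toFinset_singleton]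
    exact Finset.card_le_two
  omega

theorem derived_three (H : Subgroup G) (hE2 : ⁅commutator G, commutator G⁆ = ⁅H, H⁆) :
    derivedSeries G 3 = ⁅(⁅H, H⁆ : Subgroup G), (⁅H, H⁆ : Subgroup G)⁆ := by
  have h1 : derivedSeries G 1 = commutator G := by
    simp [derivedSeries_succ, commutator_def]
  have h2 : derivedSeries G 2 = ⁅H, H⁆ := by
    rw [derivedSeries_succ, h1, hE2]
  rw [derivedSeries_succ, h2]


theorem mk1' {K : Subgroup G} [K.Normal] {x : G} (h : x ∈ K) : QuotientGroup.mk' K x = 1 :=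
  (QuotientGroup.eq_one_iff x).2 h

theorem of1' {K : Subgroup G} [K.Normal] {x : G} (h : QuotientGroup.mk' K x = 1) : x ∈ K :=
  (QuotientGroup.eq_one_iff x).1 h

/-- Relative index in a quotient by a subgroup of the bottom term. -/
theorem relIndex_map_mk' {H Y K : Subgroup G} [hK : K.Normal] (hKY : K ≤ Y) :
    (Y.map (QuotientGroup.mk' K)).relIndex (H.map (QuotientGroup.mk' K)) = Y.relIndex H := by
  rw [← Subgroup.relIndex_comap, Subgroup.comap_map_eq, QuotientGroup.ker_mk', sup_eq_left.2 hKY]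

theorem E_le_Y' {H Y : Subgroup G} (s : St H Y) : (⁅H, H⁆ : Subgroup G) ≤ Y := by
  rw [← s.GE]; exact inf_le_right

/-- A `p`-power torsion quotient: the prime of an elementary top factor is `p`. -/
theorem prime_eq_of_torsion {H₁ M N₁ : Subgroup G} (hMN : N₁ ≤ M) (hM : M ≠ H₁) (hMH : M ≤ H₁)
    [hMn : M.Normal] {p r : ℕ} (hp : p.Prime) (hr : r.Prime)
    (h₁ : ∀ e ∈ H₁, e ^ r ∈ M) (h₂ : ∀ e ∈ H₁, ∃ k : ℕ, e ^ (p ^ k) ∈ N₁) : r = p := by
  by_contra hne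
  have hcop : Nat.Coprime r p := (Nat.coprime_primes hr hp).2 hne
  apply hM
  apply le_antisymm hMH
  intro e he
  obtain ⟨k, hk⟩ := h₂ e he
  have h1 := h₁ e he
  have hk' := hMN hk
  have hcop' : Nat.Coprime r (p ^ k) := Nat.Coprime.pow_right k hcop
  have h2 : e ^ (Nat.gcd r (p ^ k)) ∈ M := by
    have hd : (QuotientGroup.mk' M e) ^ r = 1 := by
      rw [← map_pow]; exact mk1' h1
    have hd' : (QuotientGroup.mk' M e) ^ (p ^ k) = 1 := by
      rw [← map_pow]; exact mk1' hk'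
    have h3 : (QuotientGroup.mk' M e) ^ (Nat.gcd r (p ^ k)) = 1 :=
      pow_gcd_eq_one.2 ⟨hd, hd'⟩
    rw [← map_pow] at h3
    exact of1' h3
  rw [hcop'.gcd_eq_one, pow_one] at h2
  exact h2

/-- Pushing a chief factor down. -/
theorem chief_map_bot {K L : Subgroup G} [hK : K.Normal] (hc : Chief K L) :
    Chief (⊥ : Subgroup (G ⧸ K)) (L.map (QuotientGroup.mk' K)) := by
  haveI := hc.nL
  refine ⟨inferInstance, Subgroup.Normal.map hc.nL _ (QuotientGroup.mk'_surjective K), bot_le, ?_, ?_⟩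
  · intro h
    apply hc.ne
    apply le_antisymm hc.le
    intro l hl
    have : (QuotientGroup.mk' K) l ∈ L.map (QuotientGroup.mk' K) := Subgroup.mem_map_of_mem _ hl
    rw [← h, Subgroup.mem_bot] at this
    exact of1' this
  · intro N hN _ hNL
    have hKc : K ≤ N.comap (QuotientGroup.mk' K) := fun k hk => by
      simp only [Subgroup.mem_comap]
      rw [mk1' hk]; exact N.one_mem
    have hcL : N.comap (QuotientGroup.mk' K) ≤ L := by
      intro x hx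
      have h1 := hNL hx
      exact (mk_mem_map hc.le x).1 h1
    rcases hc.min _ (hN.comap _) hKc hcL with h | h
    · left
      apply le_antisymm _ bot_le
      intro x hx
      obtain ⟨y, rfl⟩ := QuotientGroup.mk'_surjective K x
      have : y ∈ N.comap (QuotientGroup.mk' K) := hx
      rw [h] at this
      exact mk1' this
    · right
      rw [← h, Subgroup.map_comap_eq_self_of_surjective (QuotientGroup.mk'_surjective K)]

/-- The last case: a non-trivial `p`-complement in `E` is impossible. -/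
theorem no_complement [Fintype G] [Group.IsSolvable G] {H Y : Subgroup G} (s : St H Y) {p : ℕ}
    (hp : p.Prime) (hpA : p ∣ Y.relIndex H) {N₀ : Subgroup G} (hN₀n : N₀.Normal)
    (hN₀E : N₀ ≤ ⁅H, H⁆) (hN₀ne : N₀ ≠ ⁅H, H⁆) (hN₀p : ¬ p ∣ Nat.card N₀)
    (hN₀e : ∀ e ∈ (⁅H, H⁆ : Subgroup G), ∃ k : ℕ, e ^ (p ^ k) ∈ N₀) (hN₀b : N₀ ≠ ⊥) : False := by
  classical
  haveI := hN₀n
  have hEY := E_le_Y' s
  have hEn : (⁅H, H⁆ : Subgroup G).Normal := by
    haveI := s.nH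
    exact Subgroup.commutator_normal H H
  -- the case `E / N₀`
  have hbar : (⁅H.map (QuotientGroup.mk' N₀), H.map (QuotientGroup.mk' N₀)⁆ : Subgroup (G ⧸ N₀))
      = (⁅H, H⁆ : Subgroup G).map (QuotientGroup.mk' N₀) := (Subgroup.map_commutator _ _ _).symm
  have s₀ := St.quot s (K := N₀) hN₀E
  have hpA₀ : p ∣ (Y.map (QuotientGroup.mk' N₀)).relIndex (H.map (QuotientGroup.mk' N₀)) := by
    rw [relIndex_map_mk' (hN₀E.trans hEY)]; exact hpA
  have hEp₀ : IsPGroup p (⁅H.map (QuotientGroup.mk' N₀), H.map (QuotientGroup.mk' N₀)⁆ : Subgroup (G ⧸ N₀)) := by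
    rw [hbar]
    rintro ⟨x, e, he, rfl⟩
    obtain ⟨k, hk⟩ := hN₀e e he
    refine ⟨k, ?_⟩
    apply Subtype.ext
    change (QuotientGroup.mk' N₀ e) ^ (p ^ k) = 1
    rw [← map_pow]
    exact mk1' hk
  have hE₀ : (⁅H.map (QuotientGroup.mk' N₀), H.map (QuotientGroup.mk' N₀)⁆ : Subgroup (G ⧸ N₀)) ≠ ⊥ := by
    rw [hbar]
    intro h
    apply hN₀ne
    apply le_antisymm hN₀E
    intro e he
    have : (QuotientGroup.mk' N₀) e ∈ (⁅H, H⁆ : Subgroup G).map (QuotientGroup.mk' N₀) :=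
      Subgroup.mem_map_of_mem _ he
    rw [h, Subgroup.mem_bot] at this
    exact of1' this
  obtain ⟨-, hab₀, hcam₀⟩ := caseI_pgroup s₀ hp hpA₀ hEp₀ hE₀
  -- facts at the level of `G`
  have hab : (⁅(⁅H, H⁆ : Subgroup G), (⁅H, H⁆ : Subgroup G)⁆ : Subgroup G) ≤ N₀ := by
    have h1 : (⁅(⁅H, H⁆ : Subgroup G), (⁅H, H⁆ : Subgroup G)⁆ : Subgroup G).map (QuotientGroup.mk' N₀) = ⊥ := by
      rw [Subgroup.map_commutator, ← hbar]; exact hab₀
    intro x hx
    have : (QuotientGroup.mk' N₀) x ∈ (⁅(⁅H, H⁆ : Subgroup G), (⁅H, H⁆ : Subgroup G)⁆ : Subgroup G).map (QuotientGroup.mk' N₀) :=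
      Subgroup.mem_map_of_mem _ hx
    rw [h1, Subgroup.mem_bot] at this
    exact of1' this
  have hcamG : ∀ a ∈ commutator G, a ∉ (⁅H, H⁆ : Subgroup G) → ∀ e ∈ (⁅H, H⁆ : Subgroup G),
      ∃ b ∈ commutator G, (b * a * b⁻¹)⁻¹ * (a * e) ∈ N₀ := by
    intro a ha haE e he
    have h1 : (QuotientGroup.mk' N₀) a ∈ commutator (G ⧸ N₀) := by
      rw [← map_commutator_mk]; exact Subgroup.mem_map_of_mem _ ha
    have h2 : (QuotientGroup.mk' N₀) a ∉ (⁅H.map (QuotientGroup.mk' N₀), H.map (QuotientGroup.mk' N₀)⁆ : Subgroup (G ⧸ N₀)) := by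
      rw [hbar, mk_mem_map hN₀E]; exact haE
    have h3 : (QuotientGroup.mk' N₀) e ∈ (⁅H.map (QuotientGroup.mk' N₀), H.map (QuotientGroup.mk' N₀)⁆ : Subgroup (G ⧸ N₀)) := by
      rw [hbar]; exact Subgroup.mem_map_of_mem _ he
    obtain ⟨b, hb, hbe⟩ := hcam₀ _ h1 h2 _ h3
    rw [← map_commutator_mk] at hb
    obtain ⟨b₀, hb₀, rfl⟩ := hb
    refine ⟨b₀, hb₀, ?_⟩
    have : (QuotientGroup.mk' N₀) ((b₀ * a * b₀⁻¹)⁻¹ * (a * e)) = 1 := by
      rw [map_mul, map_inv, map_mul (QuotientGroup.mk' N₀) a e]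
      rw [map_mul, map_mul, map_inv] 
      rw [hbe]; group
    exact of1' this
  -- a chief factor at the bottom
  obtain ⟨K, -, hc⟩ := exists_chief (G := G) (N := ⊥) (L := N₀) inferInstance hN₀n bot_le hN₀b.symm
  obtain ⟨r, hr, hrw⟩ := chief_elem hc
  haveI hKn := hc.nK
  have hKE : K ≤ ⁅H, H⁆ := hc.le.trans hN₀E
  have hrp : r ≠ p := by
    rintro rfl
    obtain ⟨w, hw, hwK⟩ : ∃ w ∈ N₀, w ∉ K := by
      by_contra hcon
      push Not at hcon
      exact hc.ne (le_antisymm hc.le hcon)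
    have h1 : (QuotientGroup.mk' K w) ^ r = 1 := by
      rw [← map_pow]; exact mk1' (hrw w hw)
    have h2 : (QuotientGroup.mk' K w) ≠ 1 := fun h => hwK (of1' h)
    haveI : Fact r.Prime := ⟨hr⟩
    have h3 : orderOf (QuotientGroup.mk' K w) = r := orderOf_eq_prime h1 h2
    have h4 : orderOf (QuotientGroup.mk' K w) ∣ orderOf w := orderOf_map_dvd _ _
    have h5 : orderOf w ∣ Nat.card N₀ := by
      have := orderOf_dvd_natCard (⟨w, hw⟩ : N₀)
      simpa using this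
    exact hN₀p (h3 ▸ h4.trans h5)
  -- in `G / K`
  have s₁ := St.quot s (K := K) hKE
  have hbar₁ : (⁅H.map (QuotientGroup.mk' K), H.map (QuotientGroup.mk' K)⁆ : Subgroup (G ⧸ K))
      = (⁅H, H⁆ : Subgroup G).map (QuotientGroup.mk' K) := (Subgroup.map_commutator _ _ _).symm
  have hpA₁ : p ∣ (Y.map (QuotientGroup.mk' K)).relIndex (H.map (QuotientGroup.mk' K)) := by
    rw [relIndex_map_mk' (hKE.trans hEY)]; exact hpA
  set N₁ := N₀.map (QuotientGroup.mk' K) with hN₁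
  have hN₁n : N₁.Normal := hN₀n.map _ (QuotientGroup.mk'_surjective K)
  have hN₁E : N₁ ≤ ⁅H.map (QuotientGroup.mk' K), H.map (QuotientGroup.mk' K)⁆ := by
    rw [hbar₁]; exact Subgroup.map_mono hN₀E
  have hN₁ne : N₁ ≠ ⁅H.map (QuotientGroup.mk' K), H.map (QuotientGroup.mk' K)⁆ := by
    rw [hbar₁]
    intro h
    apply hN₀ne
    apply le_antisymm hN₀E
    intro e he
    have : (QuotientGroup.mk' K) e ∈ N₁ := by
      rw [h]; exact Subgroup.mem_map_of_mem _ he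
    exact (mk_mem_map hc.le e).1 this
  have hE₁n : (⁅H.map (QuotientGroup.mk' K), H.map (QuotientGroup.mk' K)⁆ : Subgroup (G ⧸ K)).Normal := by
    rw [hbar₁]; exact hEn.map _ (QuotientGroup.mk'_surjective K)
  have htors : ∀ e ∈ (⁅H.map (QuotientGroup.mk' K), H.map (QuotientGroup.mk' K)⁆ : Subgroup (G ⧸ K)),
      ∃ k : ℕ, e ^ (p ^ k) ∈ N₁ := by
    rw [hbar₁]
    rintro _ ⟨e, he, rfl⟩
    obtain ⟨k, hk⟩ := hN₀e e he
    refine ⟨k, ?_⟩
    rw [← map_pow]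
    exact Subgroup.mem_map_of_mem _ hk
  obtain ⟨M₁, hNM, hcM⟩ := exists_chief hN₁n hE₁n hN₁E hN₁ne
  obtain ⟨r₁, hr₁, hr₁e⟩ := chief_elem hcM
  haveI hM₁n := hcM.nK
  have hr₁p : r₁ = p := prime_eq_of_torsion hNM hcM.ne hcM.le hp hr₁ hr₁e htors
  subst hr₁p
  obtain ⟨-, hel, -, hnc⟩ := lemma3 s₁ hcM hr₁ hr₁e hpA₁
  refine no_layer0 s₁ hr₁ hel hnc (N := N₁) (chief_map_bot hc) hN₁E (r := r) hr hrp ?_ htors hN₁ne ?_ ?_
  · rintro _ ⟨n, hn, rfl⟩
    rw [← map_pow]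
    exact mk1' (hrw n hn)
  · rw [hbar₁, ← Subgroup.map_commutator]
    exact Subgroup.map_mono hab
  · intro a ha haE e he
    rw [← map_commutator_mk] at ha
    obtain ⟨a₀, ha₀, rfl⟩ := ha
    rw [hbar₁] at haE he
    obtain ⟨e₀, he₀, rfl⟩ := he
    have haE₀ : a₀ ∉ (⁅H, H⁆ : Subgroup G) := fun h => haE (Subgroup.mem_map_of_mem _ h)
    obtain ⟨b₀, hb₀, hbe⟩ := hcamG a₀ ha₀ haE₀ e₀ he₀
    refine ⟨QuotientGroup.mk' K b₀, ?_, ?_⟩
    · rw [← map_commutator_mk]; exact Subgroup.mem_map_of_mem _ hb₀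
    · have := Subgroup.mem_map_of_mem (QuotientGroup.mk' K) hbe
      simpa only [map_mul, map_inv] using this

/-- The theorem, assuming the blocks. -/
theorem main {G : Type u} [Group G] [Finite G] [Group.IsSolvable G] (hnd : NoDiv G) :
    Nat.card (charDegrees G) ≤ 4 ∧ derivedSeries G 3 = ⊥ := by
  classical
  letI : Fintype G := Fintype.ofFinite G
  rcases top hnd with h | ⟨H, Y, s⟩
  · exact two_deg h
  by_cases hE : (⁅H, H⁆ : Subgroup G) = ⊥
  · refine ⟨card_le_of_noE (St.noE s hE), ?_⟩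
    rw [derived_three H s.E2, hE]
    simp
  by_cases hII : ∀ p : ℕ, p.Prime → p ∣ Y.relIndex H → ¬ p ∣ Nat.card (⁅H, H⁆ : Subgroup G)
  · obtain ⟨h1, h2⟩ := caseII s hE hII
    exact ⟨h1, by rw [derived_three H s.E2, h2]⟩
  push Not at hII
  obtain ⟨p, hp, hpA, hpE⟩ := hII
  obtain ⟨N₀, hN₀n, hN₀E, hN₀ne, hN₀p, hN₀e⟩ := exists_p_complement s hp hpA hpE
  by_cases hb : N₀ = ⊥
  · subst hb
    have hEp : IsPGroup p (⁅H, H⁆ : Subgroup G) := by
      rintro ⟨e, he⟩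
      obtain ⟨k, hk⟩ := hN₀e e he
      refine ⟨k, Subtype.ext ?_⟩
      exact hk
    obtain ⟨h1, h2, -⟩ := caseI_pgroup s hp hpA hEp hE
    exact ⟨h1, by rw [derived_three H s.E2, h2]⟩
  · exact (no_complement s hp hpA hN₀n hN₀E hN₀ne hN₀p hN₀e hb).elim

end Cfsg.Agent.Lib.NDF.MainT
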