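import Cfsg.Agent.Lib.NDF.PSDefs
import Cfsg.Agent.Lib.NDF.DegOver
import Cfsg.Agent.Lib.NDF.DeltaTrivial
import Cfsg.Agent.Lib.NoDiv.Main
import Cfsg.Agent.Lib.Char.RelGraph

/-! # S4780, block P: basic facts on the setting `PS Γ p` (P1-P6 of `SpecP`) -/

set_option autoImplicit false
set_option linter.unusedSectionVars false

namespace Cfsg.Agent.Lib.NDF.PSBase

open Cfsg Cfsg.Agent.Lib.NoDiv.Defs Cfsg.Agent.Lib.NDF.Defs Cfsg.Agent.Lib.NDF.PSDefs
open Cfsg.Agent.Lib.Char.Basic Cfsg.Agent.Lib.Char.Conj Cfsg.Agent.Lib.Char.CliffordCorr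
open Cfsg.Agent.Lib.Char.Linear Cfsg.Agent.Lib.Char.Degree Cfsg.Agent.Lib.Char.Ortho
open Cfsg.Agent.Lib.Char.Induced Cfsg.Agent.Lib.Char.Complete Cfsg.Agent.Lib.NoDiv.XLemma
open Cfsg.Agent.Lib.NoDiv.Deep1 Cfsg.Agent.Lib.NoDiv.Camina Cfsg.Agent.Lib.NoDiv.Mid
open Cfsg.Agent.Lib.NoDiv.Q78

universe u

variable {Γ : Type u} [Group Γ] {p : ℕ}

section Quot

variable {K : Subgroup Γ} [hK : K.Normal]

theorem map_g2 : (g2 Γ).map (QuotientGroup.mk' K) = g2 (Γ ⧸ K) := by
  unfold g2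
  rw [Subgroup.map_commutator, map_commutator_mk]

theorem map_g3 : (g3 Γ).map (QuotientGroup.mk' K) = g3 (Γ ⧸ K) := by
  unfold g3
  rw [Subgroup.map_commutator, map_g2, map_commutator_mk]

theorem map_g4 : (g4 Γ).map (QuotientGroup.mk' K) = g4 (Γ ⧸ K) := by
  unfold g4
  rw [Subgroup.map_commutator, map_g3, map_commutator_mk]

theorem map_g5 : (g5 Γ).map (QuotientGroup.mk' K) = g5 (Γ ⧸ K) := by
  unfold g5
  rw [Subgroup.map_commutator, map_g4, map_commutator_mk]

end Quot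

/-- (P1) `PS` passes to quotients by `K ≤ γ₂`. -/
theorem PS.quot [Finite Γ] (h : PS Γ p) {K : Subgroup Γ} [hKn : K.Normal] (hK : K ≤ g2 Γ) :
    PS (Γ ⧸ K) p := by
  have hKX : K ≤ commutator Γ := hK.trans g2_le
  let π := QuotientGroup.mk' K
  have hπ : Function.Surjective π := QuotientGroup.mk'_surjective K
  have hXmap : (commutator Γ).map π = commutator (Γ ⧸ K) := map_commutator_mk
  have h2map : (g2 Γ).map π = g2 (Γ ⧸ K) := map_g2
  have hmemX : ∀ c : Γ, π c ∈ commutator (Γ ⧸ K) ↔ c ∈ commutator Γ := fun c => by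
    rw [← hXmap]
    exact mk_mem_map hKX c
  have hmem2 : ∀ c : Γ, π c ∈ g2 (Γ ⧸ K) ↔ c ∈ g2 Γ := fun c => by
    rw [← h2map]
    exact mk_mem_map hK c
  have hker : π.ker = K := QuotientGroup.ker_mk' K
  have hindex : (commutator (Γ ⧸ K)).index = (commutator Γ).index := by
    rw [← hXmap]
    exact Subgroup.index_map_eq _ hπ (by rw [hker]; exact hKX)
  have hcomm : ∀ a b : Γ, π a * π b * (π a)⁻¹ * (π b)⁻¹ = π (a * b * a⁻¹ * b⁻¹) := fun a b => by
    simp only [map_mul, map_inv]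
  refine ⟨h.hp, ?_, ?_, noDiv_of_surj π hπ h.nd, ?_, ?_, ?_⟩
  · rintro ⟨a, ha⟩
    obtain ⟨c, -, rfl⟩ := (hXmap ▸ ha : a ∈ (commutator Γ).map π)
    obtain ⟨c', hc'⟩ := QuotientGroup.mk'_surjective K (π c)
    have hc0 : c' ∈ commutator Γ := by
      rw [← hmemX, hc']
      exact ha
    obtain ⟨k, hk⟩ := h.hX ⟨c', hc0⟩
    refine ⟨k, Subtype.ext ?_⟩
    have hk' : c' ^ p ^ k = 1 := by
      have := congrArg Subtype.val hk
      simpa using this
    simp only [Subgroup.coe_pow, Subgroup.coe_one]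
    rw [← hc', ← map_pow, hk', map_one]
  · rw [hindex]
    exact h.hSyl
  · intro a ha
    obtain ⟨c, rfl⟩ := hπ a
    rw [← map_pow, hmem2]
    exact h.el c ((hmemX c).1 ha)
  · intro g
    obtain ⟨g₀, rfl⟩ := hπ g
    rcases h.dich g₀ with h1 | h1
    · left
      intro a ha
      obtain ⟨c, rfl⟩ := hπ a
      rw [hcomm, hmem2]
      exact h1 c ((hmemX c).1 ha)
    · right
      intro a ha hb
      obtain ⟨c, rfl⟩ := hπ a
      rw [hcomm, hmem2] at hb
      rw [hmem2]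
      exact h1 c ((hmemX c).1 ha) hb
  · intro a ha ha' e he
    obtain ⟨c, rfl⟩ := hπ a
    obtain ⟨f, rfl⟩ := hπ e
    rw [hmem2] at ha' he
    obtain ⟨b, hb, hbe⟩ := h.cam c ((hmemX c).1 ha) ha' f he
    refine ⟨π b, (hmemX b).2 hb, ?_⟩
    rw [← map_inv, ← map_mul, ← map_mul, hbe, map_mul]

/-- (P2) the complement. -/
theorem exists_cpl [Finite Γ] (h : PS Γ p) : ∃ Q : Subgroup Γ, Cpl Q p := by
  classical
  have hp := h.hp
  haveI : Fact p.Prime := ⟨hp⟩
  have hcop : Nat.Coprime (Nat.card (commutator Γ)) (commutator Γ).index := by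
    obtain ⟨n, hn⟩ := IsPGroup.iff_card.mp h.hX
    rw [hn]
    exact Nat.Coprime.pow_left n ((Nat.Prime.coprime_iff_not_dvd hp).2 h.hSyl)
  obtain ⟨Q, hQ⟩ := Subgroup.exists_right_complement'_of_coprime hcop
  refine ⟨Q, ?_, ?_, ?_⟩
  · intro a ha b hb
    have h1 : a * b * a⁻¹ * b⁻¹ ∈ commutator Γ :=
      Subgroup.commutator_mem_commutator (Subgroup.mem_top a) (Subgroup.mem_top b)
    have h2 : a * b * a⁻¹ * b⁻¹ ∈ Q := Q.mul_mem (Q.mul_mem (Q.mul_mem ha hb) (Q.inv_mem ha)) (Q.inv_mem hb)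
    have h3 : a * b * a⁻¹ * b⁻¹ = 1 := Subgroup.disjoint_def.mp hQ.disjoint h1 h2
    calc a * b = (a * b * a⁻¹ * b⁻¹) * (b * a) := by group
      _ = b * a := by rw [h3, one_mul]
  · intro g
    obtain ⟨⟨a, q⟩, hx⟩ := hQ.2 g
    exact ⟨a, a.2, q, q.2, hx.symm⟩
  · intro q hq
    have h1 : orderOf q ∣ Nat.card Q := Subgroup.orderOf_dvd_natCard Q hq
    have h2 : Nat.card Q = (commutator Γ).index := hQ.symm.index_eq_card.symm
    rw [h2] at h1
    exact Nat.Coprime.coprime_dvd_left h1 (Nat.Coprime.symm ((Nat.Prime.coprime_iff_not_dvd hp).2 h.hSyl))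

theorem normal_of_le {T : Subgroup Γ} (hXT : commutator Γ ≤ T) : T.Normal := by
  constructor
  intro t ht g
  have h1 : g * t * g⁻¹ * t⁻¹ ∈ commutator Γ :=
    Subgroup.commutator_mem_commutator (Subgroup.mem_top g) (Subgroup.mem_top t)
  have h2 := T.mul_mem (hXT h1) ht
  simpa using h2

theorem conjOn_pow {θ : commutator Γ → ℂ} {z : Γ}
    (hz : conjOn (inferInstance : (commutator Γ).Normal) z θ = θ) (k : ℕ) :
    conjOn (inferInstance : (commutator Γ).Normal) (z ^ k) θ = θ := by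
  induction k with
  | zero => simpa using conjOn_one (inferInstance : (commutator Γ).Normal) θ
  | succ k ih => rw [pow_succ, conjOn_mul, ih, hz]

/-- (P3) prime power parts of a fixer. -/
theorem prime_part [Finite Γ] {Q : Subgroup Γ} (hQ : Cpl Q p) {T : Subgroup Γ}
    (hXT : commutator Γ ≤ T) {θ : commutator Γ → ℂ} (hθ : IsClassFunction (commutator Γ) θ) {y : Γ}
    (hy : y ∉ T) (hfix : conjOn (inferInstance : (commutator Γ).Normal) y θ = θ) :
    ∃ z ∈ Q, z ∉ T ∧ conjOn (inferInstance : (commutator Γ).Normal) z θ = θ ∧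
      ∃ q k : ℕ, q.Prime ∧ q ≠ p ∧ z ^ (q ^ k) = 1 := by
  classical
  obtain ⟨a, ha, q, hq, rfl⟩ := hQ.decomp y
  have hqT : q ∉ T := fun h => hy (T.mul_mem (hXT ha) h)
  have hqfix : conjOn (inferInstance : (commutator Γ).Normal) q θ = θ := by
    have h1 := hfix
    rw [conjOn_mul, conjOn_of_mem _ hθ ha] at h1
    exact h1
  haveI hTn : T.Normal := normal_of_le hXT
  let d := orderOf (QuotientGroup.mk' T q)
  have hd1 : d ≠ 1 := by
    intro h1
    have h2 : QuotientGroup.mk' T q = 1 := orderOf_eq_one_iff.mp h1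
    rw [← MonoidHom.mem_ker, QuotientGroup.ker_mk'] at h2
    exact hqT h2
  obtain ⟨ℓ, hℓ, hℓd⟩ := Nat.exists_prime_and_dvd hd1
  have hdo : d ∣ orderOf q := orderOf_map_dvd _ _
  have ho0 : orderOf q ≠ 0 := (orderOf_pos q).ne'
  obtain ⟨v, o', hℓo', ho⟩ := Nat.exists_eq_pow_mul_and_not_dvd ho0 ℓ hℓ.ne_one
  refine ⟨q ^ o', Q.pow_mem hq _, ?_, conjOn_pow hqfix _, ℓ, v, hℓ, ?_, ?_⟩
  · intro hmem
    have h2 : QuotientGroup.mk' T q ^ o' = 1 := by
      rw [← map_pow, ← MonoidHom.mem_ker, QuotientGroup.ker_mk']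
      exact hmem
    have h3 : d ∣ o' := orderOf_dvd_of_pow_eq_one h2
    exact hℓo' (hℓd.trans h3)
  · rintro rfl
    have h1 := hQ.cop q hq
    have h2 : ℓ ∣ orderOf q := hℓd.trans hdo
    exact hℓ.one_lt.ne' (Nat.eq_one_of_dvd_coprimes h1 h2 dvd_rfl)
  · rw [← pow_mul, mul_comm, ← ho, pow_orderOf_eq_one]

section Fin

variable [Fintype Γ] [Fintype (commutator Γ)]

/-- (P4) degrees over a character of `X`. -/
theorem deg_of_over (h : PS Γ p) {θ : commutator Γ → ℂ} (hθ : IsIrrCharacter (commutator Γ) θ)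
    {χ : Γ → ℂ} (hχ : IsIrrCharacter Γ χ) (hcon : classInner (fun n : commutator Γ => χ n) θ ≠ 0) :
    charDegree χ = (inertia (inferInstance : (commutator Γ).Normal) θ).index * charDegree θ := by
  haveI : Fact p.Prime := ⟨h.hp⟩
  have hcop : Nat.Coprime (Nat.card (commutator Γ)) (commutator Γ).index := by
    obtain ⟨n, hn⟩ := IsPGroup.iff_card.mp h.hX
    rw [hn]
    exact Nat.Coprime.pow_left n ((Nat.Prime.coprime_iff_not_dvd h.hp).2 h.hSyl)
  exact Cfsg.Agent.Lib.NDF.DegOver.deg_over (N := commutator Γ) inferInstance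
    (fun a b => Subgroup.commutator_mem_commutator (Subgroup.mem_top a) (Subgroup.mem_top b))
    hcop hθ hχ hcon

theorem exists_not_mem_g2 (h : PS Γ p) (hX1 : commutator Γ ≠ ⊥) : ∃ x ∈ commutator Γ, x ∉ g2 Γ := by
  by_contra hcon
  push Not at hcon
  apply hX1
  haveI : Fact p.Prime := ⟨h.hp⟩
  have hnil : Group.IsNilpotent (commutator Γ) := h.hX.isNilpotent
  exact Cfsg.Agent.Lib.NDF.DeltaTrivial.eq_bot_of_comm_eq hnil le_rfl
    (le_antisymm g2_le (fun x hx => hcon x hx))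

/-- (P5) the index of `H0` is a nontrivial degree, and a nontrivial linear character of `X` has
inertia group `H0`. -/
theorem H0_index (h : PS Γ p) (hX1 : commutator Γ ≠ ⊥) :
    (H0 Γ).index ∈ charDegrees Γ ∧ 1 < (H0 Γ).index ∧
    ∀ δ : commutator Γ →* ℂˣ, δ ≠ 1 →
      inertia (inferInstance : (commutator Γ).Normal) (fun x => ((δ x : ℂˣ) : ℂ)) = H0 Γ := by
  classical
  have hin : ∀ δ : commutator Γ →* ℂˣ, δ ≠ 1 →
      inertia (inferInstance : (commutator Γ).Normal) (fun x => ((δ x : ℂˣ) : ℂ)) = H0 Γ := by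
    intro δ hδ1
    have hδ2 : ∀ z : commutator Γ, (z : Γ) ∈ g2 Γ → δ z = 1 := fun z hz =>
      hom_commutator δ ((mem_comm_iff z).1 hz)
    ext g
    constructor
    · intro hg
      rw [mem_Cen]
      rcases h.dich g with h1 | h1
      · exact h1
      · exfalso
        apply hδ1
        apply conjHom_fix inferInstance (inferInstance : (g2 Γ).Normal) g2_le h1 δ hδ2
        refine MonoidHom.ext fun c => ?_
        have h2 := congrFun hg c
        rw [conjOn_apply] at h2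
        exact Units.ext h2
    · intro hg
      rw [mem_Cen] at hg
      change conjOn _ g _ = _
      funext a
      rw [conjOn_apply]
      have h1 := hg a a.2
      have h2 : g * a * g⁻¹ * (a : Γ)⁻¹ ∈ commutator Γ :=
        Subgroup.commutator_mem_commutator (Subgroup.mem_top g) (Subgroup.mem_top _)
      have h3 := hδ2 ⟨_, h2⟩ h1
      have h4 : (⟨g * a * g⁻¹, (inferInstance : (commutator Γ).Normal).conj_mem a a.2 g⟩ :
          commutator Γ) = ⟨_, h2⟩ * a := Subtype.ext (by simp)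
      rw [h4, map_mul, h3, one_mul]
  refine ?_
  obtain ⟨x, hx, hx2⟩ := exists_not_mem_g2 h hX1
  have hx' : (⟨x, hx⟩ : commutator Γ) ∉ commutator (commutator Γ) := fun h1 =>
    hx2 ((mem_comm_iff _).2 h1)
  obtain ⟨δ, -, hδ⟩ := exists_hom_ne (inferInstance) (fun a b : commutator Γ =>
    Subgroup.commutator_mem_commutator (Subgroup.mem_top a) (Subgroup.mem_top b)) hx'
  have hδ1 : δ ≠ 1 := fun h1 => hδ (by rw [h1]; rfl)
  have hirr : IsIrrCharacter (commutator Γ) (fun x => ((δ x : ℂˣ) : ℂ)) := isIrrCharacter_of_hom δ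
  obtain ⟨χ, hχ, hcon⟩ := Cfsg.Agent.Lib.Char.RelGraph.exists_over hirr
  have hdeg := deg_of_over h hirr hχ hcon
  have hd1 : charDegree (fun x => ((δ x : ℂˣ) : ℂ)) = 1 := charDegree_eq_of_eq_natCast (by simp)
  rw [hin δ hδ1, hd1, mul_one] at hdeg
  refine ⟨hdeg ▸ charDegree_mem χ hχ, ?_, hin⟩
  have h0 : (H0 Γ).index ≠ 0 := Subgroup.index_ne_zero_of_finite
  have h1 : (H0 Γ).index ≠ 1 := by
    intro h1
    rw [h1] at hdeg
    have h2 : χ 1 = 1 := by
      have h3 := charDegree_natCast (isCharacter_of_isIrrCharacter hχ)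
      rw [hdeg] at h3
      simpa using h3.symm
    apply hδ1
    refine MonoidHom.ext fun n => ?_
    exact lam_of_linear hχ h2 hcon n n.2
  omega

/-- (P6) a nonlinear character of `X` is fixed by some element outside `H0`. -/
theorem exists_fixer (h : PS Γ p) {θ : commutator Γ → ℂ} (hθ : IsIrrCharacter (commutator Γ) θ)
    (hθ1 : θ 1 ≠ 1) : ∃ y, y ∉ H0 Γ ∧ conjOn (inferInstance : (commutator Γ).Normal) y θ = θ := by
  classical
  by_contra hcon
  push Not at hcon
  have hX1 : commutator Γ ≠ ⊥ := by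
    intro hbot
    apply hθ1
    refine isIrr_deg_one_of_comm ?_ hθ
    intro a b
    have ha : (a : Γ) ∈ (⊥ : Subgroup Γ) := hbot ▸ a.2
    have hb : (b : Γ) ∈ (⊥ : Subgroup Γ) := hbot ▸ b.2
    have ha' : a = 1 := Subtype.ext (Subgroup.mem_bot.mp ha)
    have hb' : b = 1 := Subtype.ext (Subgroup.mem_bot.mp hb)
    simp [ha', hb']
  obtain ⟨hm, hm1, -⟩ := H0_index h hX1
  have hle : inertia (inferInstance : (commutator Γ).Normal) θ ≤ H0 Γ := by
    intro g hg
    by_contra hgn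
    exact hcon g hgn hg
  have hdvd : (H0 Γ).index ∣ (inertia (inferInstance : (commutator Γ).Normal) θ).index :=
    Subgroup.index_dvd_of_le hle
  obtain ⟨χ, hχ, hc⟩ := Cfsg.Agent.Lib.Char.RelGraph.exists_over hθ
  have hdeg := deg_of_over h hθ hχ hc
  have hθ2 : 2 ≤ charDegree θ := by
    have h0 := charDegree_pos hθ
    have h1 : charDegree θ ≠ 1 := by
      intro h1
      apply hθ1
      have h3 := charDegree_natCast (isCharacter_of_isIrrCharacter hθ)
      rw [h1] at h3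
      simpa using h3.symm
    omega
  have hI : (H0 Γ).index ≤ (inertia (inferInstance : (commutator Γ).Normal) θ).index :=
    Nat.le_of_dvd (Nat.pos_of_ne_zero Subgroup.index_ne_zero_of_finite) hdvd
  refine h.nd _ hm _ (charDegree_mem χ hχ) hm1 ?_ ?_
  · rw [hdeg]
    nlinarith
  · rw [hdeg]
    exact hdvd.mul_right _

end Fin

end Cfsg.Agent.Lib.NDF.PSBase
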