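import Cfsg.Agent.Lib.NDF.PSDefs
import Cfsg.Agent.Lib.NDF.DegOver
import Cfsg.Agent.Lib.NDF.PSBase
import Cfsg.Agent.Lib.NoDiv.Main
import Cfsg.Agent.Lib.Char.RelGraph

/-! # S4780, block P: the bottom of the count of degrees -/

set_option autoImplicit false
set_option linter.unusedSectionVars false

namespace Cfsg.Agent.Lib.NDF.PSCard

open Cfsg Cfsg.Agent.Lib.NoDiv.Defs Cfsg.Agent.Lib.NDF.Defs Cfsg.Agent.Lib.NDF.PSDefs
open Cfsg.Agent.Lib.Char.Basic Cfsg.Agent.Lib.Char.Conj Cfsg.Agent.Lib.Char.CliffordCorr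
open Cfsg.Agent.Lib.Char.Linear Cfsg.Agent.Lib.Char.Degree Cfsg.Agent.Lib.Char.Ortho
open Cfsg.Agent.Lib.Char.Induced Cfsg.Agent.Lib.Char.Complete Cfsg.Agent.Lib.Char.Clifford
open Cfsg.Agent.Lib.Char.RelGraph

universe u

variable {Γ : Type u} [Group Γ] {p : ℕ}

/-- A constituent of a character trivial at `e` is trivial at `e`. -/
theorem constituent_trivial {K : Type u} [Group K] [Fintype K] {Ψ θ : K → ℂ} (hΨ : IsCharacter K Ψ)
    (hθ : IsIrrCharacter K θ) (hcon : classInner Ψ θ ≠ 0) {e : K} (he : Ψ e = Ψ 1) : θ e = θ 1 := by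
  have hrest := isCharacter_sub_of_classInner_ne_zero hΨ hθ hcon
  have hθc := isCharacter_of_isIrrCharacter hθ
  obtain ⟨a, ha⟩ := exists_deg_of_isCharacter hθc
  obtain ⟨b, hb⟩ := exists_deg_of_isCharacter hrest
  have h1 : ‖θ e‖ ≤ a := by
    have := norm_le_charDegree hθc e
    rwa [charDegree_eq_of_eq_natCast ha] at this
  have h2 : ‖(Ψ - θ) e‖ ≤ b := by
    have := norm_le_charDegree hrest e
    rwa [charDegree_eq_of_eq_natCast hb] at this
  have h3 : θ e + (Ψ - θ) e = (a : ℂ) + b := by
    have h4 : (Ψ - θ) 1 = b := hb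
    simp only [Pi.sub_apply] at h4 ⊢
    rw [he, ← ha]
    rw [← h4]
    ring
  have hre := congrArg Complex.re h3
  simp only [Complex.add_re, Complex.natCast_re] at hre
  have h5 : (θ e).re ≤ a := (Complex.re_le_norm _).trans h1
  have h6 : ((Ψ - θ) e).re ≤ b := (Complex.re_le_norm _).trans h2
  have h7 : (θ e).re = a := by linarith
  have h8 : (θ e).im = 0 := by
    have h9 : ‖θ e‖ ^ 2 = (θ e).re ^ 2 + (θ e).im ^ 2 := by
      rw [← Complex.normSq_eq_norm_sq, Complex.normSq_apply]
      ring
    have h10 : ‖θ e‖ ^ 2 ≤ (a : ℝ) ^ 2 := by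
      have := norm_nonneg (θ e)
      nlinarith
    rw [h7] at h9
    nlinarith [sq_nonneg (θ e).im]
  rw [ha]
  apply Complex.ext
  · simpa using h7
  · simpa using h8

section Fin

variable [Fintype Γ] [Fintype (commutator Γ)]

/-- The bottom of the count. -/
theorem bottom (h : PS Γ p) {χ : Γ → ℂ} (hχ : IsIrrCharacter Γ χ) (h2 : ∀ e ∈ g2 Γ, χ e = χ 1) :
    charDegree χ = 1 ∨ charDegree χ = (H0 Γ).index := by
  classical
  by_cases hX : ∃ x ∈ commutator Γ, χ x ≠ χ 1
  · right
    obtain ⟨θ, hθ, hθ1, hcon⟩ := exists_over_of_moved (inferInstance : (commutator Γ).Normal) hχ hX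
    -- `θ` is trivial on `γ₂`, hence linear
    have hres : IsCharacter (commutator Γ) (fun n : commutator Γ => χ n) :=
      isCharacter_restrict _ (isCharacter_of_isIrrCharacter hχ)
    have htriv : ∀ e : commutator Γ, (e : Γ) ∈ g2 Γ → θ e = θ 1 := fun e he =>
      constituent_trivial hres hθ hcon (by simpa using h2 e he)
    have hcomm : ∀ a b : commutator Γ, θ (a * b * a⁻¹ * b⁻¹) = θ 1 := fun a b => by
      apply htriv
      exact Subgroup.commutator_mem_commutator a.2 b.2
    have hdeg : θ 1 = 1 := by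
      obtain ⟨ψ, hψ, hψe⟩ := isIrrCharacter_descend (QuotientGroup.mk' (commutator (commutator Γ)))
        (QuotientGroup.mk'_surjective _) hθ (by
          intro k hk
          rw [QuotientGroup.ker_mk'] at hk
          have hk' : ((k : commutator Γ) : Γ) ∈ g2 Γ := by
            exact (Cfsg.Agent.Lib.NoDiv.Camina.mem_comm_iff k).2 hk
          exact htriv k hk')
      have h3 := isIrr_deg_one_of_comm (G := commutator Γ ⧸ commutator (commutator Γ)) (by
        intro a b
        obtain ⟨a, rfl⟩ := QuotientGroup.mk'_surjective _ a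
        obtain ⟨b, rfl⟩ := QuotientGroup.mk'_surjective _ b
        have : a * b * a⁻¹ * b⁻¹ ∈ commutator (commutator Γ) :=
          Subgroup.commutator_mem_commutator (Subgroup.mem_top a) (Subgroup.mem_top b)
        rw [← QuotientGroup.ker_mk' (commutator (commutator Γ)), MonoidHom.mem_ker] at this
        simp only [map_mul, map_inv] at this ⊢
        calc _ = (QuotientGroup.mk' _ a * QuotientGroup.mk' _ b * (QuotientGroup.mk' _ a)⁻¹ *
              (QuotientGroup.mk' _ b)⁻¹) * (QuotientGroup.mk' _ b * QuotientGroup.mk' _ a) := by group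
          _ = _ := by rw [this, one_mul]) hψ
      have h4 := congrFun hψe 1
      simp only [Function.comp_apply, map_one] at h4
      rw [h4, h3]
    obtain ⟨δ, hδ⟩ := exists_hom_of_deg_one (isCharacter_of_isIrrCharacter hθ) hdeg
    subst hδ
    have hδ1 : δ ≠ 1 := by
      rintro rfl
      apply hθ1
      funext x
      simp [triv]
    have hX1 : commutator Γ ≠ ⊥ := by
      intro hbot
      apply hδ1
      ext x
      have : (x : Γ) ∈ (⊥ : Subgroup Γ) := hbot ▸ x.2
      have hx : x = 1 := Subtype.ext (Subgroup.mem_bot.mp this)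
      simp [hx]
    have h4 := PSBase.deg_of_over h hθ hχ hcon
    rw [(PSBase.H0_index h hX1).2.2 δ hδ1] at h4
    rw [h4, charDegree_eq_of_eq_natCast (n := 1) (by simpa using hdeg), mul_one]
  · left
    push Not at hX
    obtain ⟨ψ, hψ, hψe⟩ := isIrrCharacter_descend (QuotientGroup.mk' (commutator Γ))
      (QuotientGroup.mk'_surjective _) hχ (by
        intro k hk
        rw [QuotientGroup.ker_mk'] at hk
        exact hX k hk)
    have h3 := isIrr_deg_one_of_comm (G := Γ ⧸ commutator Γ) (by
      intro a b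
      obtain ⟨a, rfl⟩ := QuotientGroup.mk'_surjective _ a
      obtain ⟨b, rfl⟩ := QuotientGroup.mk'_surjective _ b
      have : a * b * a⁻¹ * b⁻¹ ∈ commutator Γ :=
        Subgroup.commutator_mem_commutator (Subgroup.mem_top a) (Subgroup.mem_top b)
      rw [← QuotientGroup.ker_mk' (commutator Γ), MonoidHom.mem_ker] at this
      simp only [map_mul, map_inv] at this ⊢
      calc _ = (QuotientGroup.mk' _ a * QuotientGroup.mk' _ b * (QuotientGroup.mk' _ a)⁻¹ *
            (QuotientGroup.mk' _ b)⁻¹) * (QuotientGroup.mk' _ b * QuotientGroup.mk' _ a) := by group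
        _ = _ := by rw [this, one_mul]) hψ
    apply charDegree_eq_of_eq_natCast
    have h4 := congrFun hψe 1
    simp only [Function.comp_apply, map_one] at h4
    rw [h4, h3]
    simp

end Fin

end Cfsg.Agent.Lib.NDF.PSCard
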