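import Cfsg.Agent.Lib.NDF.PSDefs
import Mathlib.GroupTheory.SchurZassenhaus

/-!
# S4780, block P: (P2) the complement, (P3) prime power parts of a fixer.
-/

set_option autoImplicit false
set_option linter.unusedSectionVars false

namespace Cfsg.Agent.Lib.NDF.PSCpl

open Cfsg Cfsg.Agent.Lib.NoDiv.Defs Cfsg.Agent.Lib.NDF.Defs Cfsg.Agent.Lib.NDF.PSDefs
open Cfsg.Agent.Lib.Char.Basic Cfsg.Agent.Lib.Char.Conj Cfsg.Agent.Lib.Char.CliffordCorr
open scoped commutatorElement

universe u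

variable {Γ : Type u} [Group Γ] {p : ℕ}

/-- (P2) the complement. -/
theorem exists_cpl [Finite Γ] (h : PS Γ p) : ∃ Q : Subgroup Γ, Cpl Q p := by
  classical
  have hp := h.hp
  have : Fact p.Prime := ⟨hp⟩
  have hcopi : Nat.Coprime p (commutator Γ).index := (Nat.Prime.coprime_iff_not_dvd hp).2 h.hSyl
  have hcop : Nat.Coprime (Nat.card (commutator Γ)) (commutator Γ).index := by
    obtain ⟨n, hn⟩ := IsPGroup.iff_card.mp h.hX
    rw [hn]
    exact Nat.Coprime.pow_left n hcopi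
  obtain ⟨Q, hQ⟩ := Subgroup.exists_right_complement'_of_coprime hcop
  refine ⟨Q, ?_, ?_, ?_⟩
  · intro a ha b hb
    have h1 : a * b * a⁻¹ * b⁻¹ ∈ commutator Γ := by
      have : a * b * a⁻¹ * b⁻¹ = (⁅a, b⁆ : Γ) := rfl
      rw [this, _root_.commutator_def]
      exact Subgroup.commutator_mem_commutator (Subgroup.mem_top a) (Subgroup.mem_top b)
    have h2 : a * b * a⁻¹ * b⁻¹ ∈ Q := Q.mul_mem (Q.mul_mem (Q.mul_mem ha hb) (Q.inv_mem ha)) (Q.inv_mem hb)
    have h3 : a * b * a⁻¹ * b⁻¹ = 1 := by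
      have := hQ.disjoint
      exact Subgroup.disjoint_def.mp this h1 h2
    calc a * b = (a * b * a⁻¹ * b⁻¹) * (b * a) := by group
      _ = b * a := by rw [h3, one_mul]
  · intro g
    obtain ⟨x, hx⟩ := hQ.2 g
    exact ⟨x.1.1, x.1.2, x.2.1, x.2.2, hx.symm⟩
  · intro q hq
    have h1 : Nat.card Q = (commutator Γ).index := hQ.symm.index_eq_card.symm
    have h2 : orderOf q ∣ Nat.card Q := Subgroup.orderOf_dvd_natCard Q hq
    rw [h1] at h2
    exact Nat.Coprime.coprime_dvd_left h2 hcopi.symm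

theorem normal_of_le {T : Subgroup Γ} (hXT : commutator Γ ≤ T) : T.Normal := by
  constructor
  intro t ht g
  have h1 : g * t * g⁻¹ * t⁻¹ ∈ commutator Γ := by
    have : g * t * g⁻¹ * t⁻¹ = (⁅g, t⁆ : Γ) := rfl
    rw [this, _root_.commutator_def]
    exact Subgroup.commutator_mem_commutator (Subgroup.mem_top g) (Subgroup.mem_top t)
  have h2 : g * t * g⁻¹ = (g * t * g⁻¹ * t⁻¹) * t := by group
  rw [h2]
  exact T.mul_mem (hXT h1) ht

/-- (P3) prime power parts of a fixer. -/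
theorem prime_part [Finite Γ] {Q : Subgroup Γ} (hQ : Cpl Q p) {T : Subgroup Γ}
    (hXT : commutator Γ ≤ T) {θ : commutator Γ → ℂ} (hθ : IsClassFunction (commutator Γ) θ) {y : Γ}
    (hy : y ∉ T) (hfix : conjOn (inferInstance : (commutator Γ).Normal) y θ = θ) :
    ∃ z ∈ Q, z ∉ T ∧ conjOn (inferInstance : (commutator Γ).Normal) z θ = θ ∧
      ∃ q k : ℕ, q.Prime ∧ q ≠ p ∧ z ^ (q ^ k) = 1 := by
  classical
  have hT : T.Normal := normal_of_le hXT
  obtain ⟨a, ha, q, hq, rfl⟩ := hQ.decomp y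
  have hqT : q ∉ T := fun hh => hy (T.mul_mem (hXT ha) hh)
  have hfixa : conjOn (inferInstance : (commutator Γ).Normal) a θ = θ := conjOn_of_mem _ hθ ha
  have hfixq : conjOn (inferInstance : (commutator Γ).Normal) q θ = θ := by
    rwa [conjOn_mul, hfixa] at hfix
  have hpow : ∀ n : ℕ, conjOn (inferInstance : (commutator Γ).Normal) (q ^ n) θ = θ := by
    intro n
    induction n with
    | zero => rw [pow_zero, conjOn_one]
    | succ n ih => rw [pow_succ, conjOn_mul, ih, hfixq]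
  let π : Γ →* Γ ⧸ T := QuotientGroup.mk' T
  have hπ : ∀ x, π x = 1 ↔ x ∈ T := fun x => by
    rw [QuotientGroup.mk'_apply, QuotientGroup.eq_one_iff]
  have hd1 : orderOf (π q) ≠ 1 := by
    intro h
    rw [orderOf_eq_one_iff] at h
    exact hqT ((hπ q).mp h)
  have ho : orderOf q ≠ 0 := (orderOf_pos q).ne'
  have hdo : orderOf (π q) ∣ orderOf q := orderOf_map_dvd π q
  obtain ⟨l, hl, hld⟩ := Nat.exists_prime_and_dvd hd1
  have hlo : l ∣ orderOf q := hld.trans hdo
  have hlp : l ≠ p := by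
    intro hh
    have h1 := hQ.cop q hq
    rw [← hh] at h1
    have h2 := Nat.Coprime.eq_one_of_dvd (Nat.Coprime.symm h1) hlo
    exact hl.one_lt.ne' h2
  have hsplit : l ^ (orderOf q).factorization l * (orderOf q / l ^ (orderOf q).factorization l) = orderOf q :=
    Nat.ordProj_mul_ordCompl_eq_self _ _
  have hnd : ¬ l ∣ (orderOf q / l ^ (orderOf q).factorization l) := Nat.not_dvd_ordCompl hl ho
  refine ⟨q ^ (orderOf q / l ^ (orderOf q).factorization l), Q.pow_mem hq _, ?_, hpow _, l,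
    (orderOf q).factorization l, hl, hlp, ?_⟩
  · intro hh
    have h1 : π q ^ (orderOf q / l ^ (orderOf q).factorization l) = 1 := by
      rw [← map_pow]
      exact (hπ _).mpr hh
    have h2 := orderOf_dvd_of_pow_eq_one h1
    exact hnd (hld.trans h2)
  · rw [← pow_mul, mul_comm, hsplit, pow_orderOf_eq_one]

end Cfsg.Agent.Lib.NDF.PSCpl
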