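import Cfsg.Agent.Lib.NDF.PSBase
import Cfsg.Agent.Lib.NDF.PSUq
import Cfsg.Agent.Lib.NDF.GLemma
import Cfsg.Agent.Lib.NDF.FixCentral
import Cfsg.Agent.Lib.Coprime.Generation2

/-!
# S4780, (P12): level 3 of the level analysis, uniqueness at `γ₃`
-/

set_option autoImplicit false
set_option linter.unusedSectionVars false
set_option linter.style.haveILetI false

namespace Cfsg.Agent.Lib.NDF.PSLv3

open Cfsg Cfsg.Agent.Lib.NoDiv.Defs Cfsg.Agent.Lib.NDF.Defs Cfsg.Agent.Lib.NDF.PSDefs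
open Cfsg.Agent.Lib.Char.Basic Cfsg.Agent.Lib.Char.Conj Cfsg.Agent.Lib.Char.Linear
open Cfsg.Agent.Lib.Char.Ortho Cfsg.Agent.Lib.Char.Complete
open scoped commutatorElement

universe u

variable {Γ : Type u} [Group Γ] {p : ℕ}

/-- A fixed point free element fixes no nontrivial character of an abelian normal subgroup. -/
theorem mu_one_of_fpf [Finite Γ] {N : Subgroup Γ} (hNn : N.Normal)
    (hNab : ∀ a ∈ N, ∀ b ∈ N, a * b = b * a) {z : Γ}
    (hfpf : ∀ n ∈ N, z * n * z⁻¹ * n⁻¹ = 1 → n = 1) (μ : N →* ℂˣ)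
    (hμ : ∀ n : N, μ ⟨z * n * z⁻¹, hNn.conj_mem n n.2 z⟩ = μ n) : μ = 1 := by
  have hsurj := Cfsg.Agent.Lib.NDF.FixCentral.comm_surj hNn z hNab (fun a ha h => hfpf a ha (by
    rw [h]
    group))
  ext ⟨b, hb⟩
  obtain ⟨a, ha, hab⟩ := hsurj b hb
  have h1 : (⟨b, hb⟩ : N) = ⟨z * a * z⁻¹, hNn.conj_mem a ha z⟩ * (⟨a, ha⟩ : N)⁻¹ :=
    Subtype.ext (by simpa using hab.symm)
  rw [h1, map_mul, map_inv, hμ ⟨a, ha⟩]
  simp

/-- An element fixing `θ` fixes the central character under `θ`. -/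
theorem fixes_mu {N : Subgroup Γ} (hNn : N.Normal) (hNX : N ≤ commutator Γ)
    {θ : commutator Γ → ℂ} (hθ1 : θ 1 ≠ 0) {μ : N →* ℂˣ} (hO : Over hNX θ μ) {z : Γ}
    (hz : conjOn (inferInstance : (commutator Γ).Normal) z θ = θ) :
    ∀ n : N, μ ⟨z * n * z⁻¹, hNn.conj_mem n n.2 z⟩ = μ n := by
  intro n
  have h1 := congrFun hz ⟨n, hNX n.2⟩
  rw [conjOn_apply] at h1
  have h2 := hO ⟨z * n * z⁻¹, hNn.conj_mem n n.2 z⟩
  have h3 := hO n
  have h4 : ((μ ⟨z * n * z⁻¹, hNn.conj_mem n n.2 z⟩ : ℂˣ) : ℂ) * θ 1 = ((μ n : ℂˣ) : ℂ) * θ 1 := by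
    rw [← h2, ← h3]
    exact h1
  exact Units.ext (mul_right_cancel₀ hθ1 h4)

/-- A character over a nontrivial `μ` of a subgroup of `γ₂` is nonlinear. -/
theorem nonlinear_of_over {N : Subgroup Γ} (hNg : N ≤ g2 Γ) {θ : commutator Γ → ℂ}
    (hθ : IsIrrCharacter (commutator Γ) θ) {μ : N →* ℂˣ} (hμ : μ ≠ 1)
    (hO : Over (hNg.trans g2_le) θ μ) : θ 1 ≠ 1 := by
  intro h1
  apply hμ
  obtain ⟨β, hβ⟩ := exists_hom_of_deg_one (isCharacter_of_isIrrCharacter hθ) h1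
  have hle : g2 Γ ≤ (β.ker).map (commutator Γ).subtype := by
    unfold g2
    rw [Subgroup.commutator_le]
    intro a ha b hb
    refine ⟨⁅(⟨a, ha⟩ : commutator Γ), (⟨b, hb⟩ : commutator Γ)⁆, ?_, rfl⟩
    rw [SetLike.mem_coe, MonoidHom.mem_ker, map_commutatorElement,
      commutatorElement_eq_one_iff_mul_comm]
    exact mul_comm _ _
  ext n
  have h2 := hO n
  rw [h1, mul_one] at h2
  obtain ⟨c, hc, hcn⟩ := hle (hNg n.2)
  have h3 : (⟨(n : Γ), hNg.trans g2_le n.2⟩ : commutator Γ) = c :=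
    Subtype.ext hcn.symm
  rw [h3] at h2
  have h4 : β c = 1 := hc
  have h5 : θ c = 1 := by
    rw [hβ]
    simp [h4]
  rw [h5] at h2
  simpa using h2.symm

/-- (P12), with the dichotomy of level 2 (first conjunct of `lv2_gen`) as a hypothesis. -/
theorem lv3_of_dich [Fintype Γ] [Fintype (commutator Γ)] (h : PS Γ p) (h4 : g4 Γ = ⊥)
    (hdich : ∀ x : Γ, x ∈ Cen (g2 Γ) (g3 Γ) ∨ (∀ e ∈ g2 Γ, x * e * x⁻¹ * e⁻¹ ∈ g3 Γ → e ∈ g3 Γ)) :
    Uq ((g3_le.trans g2_le) : g3 Γ ≤ commutator Γ) := by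
  classical
  obtain ⟨Q, hQ⟩ := Cfsg.Agent.Lib.NDF.PSBase.exists_cpl h
  have hNX : g3 Γ ≤ commutator Γ := g3_le.trans g2_le
  have hNc : ∀ n ∈ g3 Γ, ∀ x ∈ commutator Γ, x * n = n * x := by
    intro n hn x hx
    have h1 : ⁅n, x⁆ ∈ g4 Γ := Subgroup.commutator_mem_commutator hn hx
    rw [h4, Subgroup.mem_bot] at h1
    exact (commutatorElement_eq_one_iff_mul_comm.mp h1).symm
  refine Cfsg.Agent.Lib.NDF.PSUq.uq_of_fixers h hQ g3_normal hNX hNc ?_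
  intro μ hμ θ hθ hO
  have hθ1 : θ 1 ≠ 1 := nonlinear_of_over g3_le hθ hμ hO
  obtain ⟨y₀, hy₀, hy₀θ⟩ := Cfsg.Agent.Lib.NDF.PSBase.exists_fixer h hθ hθ1
  have hXT : commutator Γ ≤ H0 Γ := fun x hx => mem_Cen.2 fun a ha =>
    Subgroup.commutator_mem_commutator hx ha
  obtain ⟨z, hzQ, hzT, hzθ, hzq⟩ := Cfsg.Agent.Lib.NDF.PSBase.prime_part hQ hXT
    (isClassFunction_of_isIrrCharacter hθ) hy₀ hy₀θ
  refine ⟨z, hzQ, hzθ, ?_, hzq⟩
  have hzμ := fixes_mu g3_normal hNX (irr_one_ne_zero hθ) hO hzθ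
  -- dichotomy on `X / γ₂`
  have hd1 : ∀ a ∈ commutator Γ, z * a * z⁻¹ * a⁻¹ ∈ g2 Γ → a ∈ g2 Γ := by
    rcases h.dich z with h1 | h1
    · exact absurd (mem_Cen.2 h1) hzT
    · exact h1
  -- not trivial on `γ₂ / γ₃`
  have hz2 : z ∉ Cen (g2 Γ) (g3 Γ) := by
    intro hz2
    have hF2 : (⁅g2 Γ, ⁅commutator Γ, commutator Γ⁆⁆ : Subgroup Γ) ≤ ⁅⁅g2 Γ, commutator Γ⁆, commutator Γ⁆ := by
      rw [Subgroup.commutator_comm]
      refine Cfsg.Agent.Lib.Coprime.Generation2.three_subgroups_rel _ _ _ _ ?_ ?_ ?_ ?_ ?_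
      · rw [Subgroup.commutator_comm (commutator Γ) (g2 Γ)]
      · exact le_rfl
      all_goals
        rw [Subgroup.normalizer_eq_top_iff.mpr (Subgroup.commutator_normal _ _)]
        exact le_top
    have hgl := Cfsg.Agent.Lib.NDF.GLemma.g_lemma (W := commutator Γ) (F := g2 Γ)
      inferInstance inferInstance g2_le z (fun f hf => mem_Cen.1 hz2 f hf) hd1 hF2
    have hμ1 : μ = 1 := by
      refine mu_one_of_fpf g3_normal (fun a ha b hb => hNc b hb a (hNX ha)) ?_ μ hzμ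
      intro n hn hn1
      have h1 := hgl n hn (by
        rw [hn1]
        exact Subgroup.one_mem _)
      change n ∈ g4 Γ at h1
      rw [h4, Subgroup.mem_bot] at h1
      exact h1
    exact hμ hμ1
  have hd2 : ∀ e ∈ g2 Γ, z * e * z⁻¹ * e⁻¹ ∈ g3 Γ → e ∈ g3 Γ := by
    rcases hdich z with h1 | h1
    · exact absurd h1 hz2
    · exact h1
  intro x hx hzx
  have hcx : z * x * z⁻¹ * x⁻¹ = 1 := by
    rw [hzx]
    group
  have hx2 : x ∈ g2 Γ := hd1 x hx (by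
    rw [hcx]
    exact Subgroup.one_mem _)
  exact hd2 x hx2 (by
    rw [hcx]
    exact Subgroup.one_mem _)

end Cfsg.Agent.Lib.NDF.PSLv3
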