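import Cfsg.Agent.Lib.NDF.PSBase
import Cfsg.Agent.Lib.NDF.PSP2
import Cfsg.Agent.Lib.NDF.PSLv3
import Cfsg.Agent.Lib.NDF.PSUq
import Cfsg.Agent.Lib.NDF.UniformFix
import Cfsg.Agent.Lib.NDF.UniqueOver
import Cfsg.Agent.Lib.Palfy.Dual

/-! # S4780, block P: (P8) the consequences of uniqueness at a level -/

set_option autoImplicit false
set_option linter.unusedSectionVars false
set_option linter.style.haveILetI false

namespace Cfsg.Agent.Lib.NDF.PSLevelB

open Cfsg Cfsg.Agent.Lib.NoDiv.Defs Cfsg.Agent.Lib.NDF.Defs Cfsg.Agent.Lib.NDF.PSDefs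
open Cfsg.Agent.Lib.Char.Basic Cfsg.Agent.Lib.Char.Conj Cfsg.Agent.Lib.Char.CliffordCorr
open Cfsg.Agent.Lib.Char.Linear Cfsg.Agent.Lib.Char.Degree Cfsg.Agent.Lib.Char.Ortho
open Cfsg.Agent.Lib.Char.Complete Cfsg.Agent.Lib.NoDiv.XLemma
open Cfsg.Agent.Lib.NDF.PSBase Cfsg.Agent.Lib.NDF.PSP2

universe u

variable {Γ : Type u} [Group Γ] {p : ℕ}

section Fin

variable [Fintype Γ] [Fintype (commutator Γ)]

/-- An irreducible character of `X` lies over some homomorphism of a central subgroup. -/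
theorem exists_hom_over {N : Subgroup Γ} (hNn : N.Normal) (hNX : N ≤ commutator Γ)
    (hNc : ∀ n ∈ N, ∀ x ∈ commutator Γ, x * n = n * x) {θ : commutator Γ → ℂ}
    (hθ : IsIrrCharacter (commutator Γ) θ) : ∃ μ : N →* ℂˣ, Over hNX θ μ := by
  classical
  let M : Subgroup (commutator Γ) := N.subgroupOf (commutator Γ)
  letI : Fintype M := Fintype.ofFinite _
  have hMn : M.Normal := inferInstance
  have hc : ∀ n ∈ M, ∀ t : commutator Γ, t * n * t⁻¹ = n := by
    intro n hn t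
    have h1 := hNc n (Subgroup.mem_subgroupOf.1 hn) t t.2
    apply Subtype.ext
    simp only [Subgroup.coe_mul, InvMemClass.coe_inv]
    rw [h1]
    group
  have hMab : ∀ a b : M, a * b = b * a := by
    intro a b
    apply Subtype.ext
    apply Subtype.ext
    exact (hNc _ (Subgroup.mem_subgroupOf.1 a.2) _ (hNX (Subgroup.mem_subgroupOf.1 b.2))).symm
  have hres : IsCharacter M (fun n : M => θ n) :=
    isCharacter_restrict M (isCharacter_of_isIrrCharacter hθ)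
  have hne : (fun n : M => θ n) ≠ 0 := by
    intro h
    have h1 := congrFun h 1
    exact irr_one_ne_zero hθ (by simpa using h1)
  obtain ⟨ξ, hξ, hcon⟩ := Cfsg.Agent.Lib.Char.Clifford.exists_irr_constituent
    (isClassFunction_of_isCharacter hres) hne
  have h1 := isIrr_deg_one_of_comm hMab hξ
  obtain ⟨β, rfl⟩ := exists_hom_of_deg_one (isCharacter_of_isIrrCharacter hξ) h1
  refine ⟨β.comp (Subgroup.subgroupOfEquivOfLe hNX).symm.toMonoidHom, fun n => ?_⟩
  have h2 := Cfsg.Agent.Lib.NoDiv.Q78.restrict_central hMn hc hθ hcon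
    ⟨⟨n, hNX n.2⟩, Subgroup.mem_subgroupOf.2 n.2⟩
  simp only at h2
  rw [h2, mul_comm]
  rfl

/-- A character moved on `N` has a constituent on `X` moved on `N`. -/
theorem exists_constituent_moved {N : Subgroup Γ} (hNX : N ≤ commutator Γ) {χ : Γ → ℂ}
    (hχ : IsIrrCharacter Γ χ) (hm : ∃ n ∈ N, χ n ≠ χ 1) :
    ∃ θ : commutator Γ → ℂ, IsIrrCharacter (commutator Γ) θ ∧
      classInner (fun n : commutator Γ => χ n) θ ≠ 0 ∧ ∃ n : N, θ ⟨n, hNX n.2⟩ ≠ θ 1 := by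
  classical
  by_contra hcon
  push Not at hcon
  obtain ⟨n, hn, hne⟩ := hm
  apply hne
  have hres : IsCharacter (commutator Γ) (fun n : commutator Γ => χ n) :=
    isCharacter_restrict _ (isCharacter_of_isIrrCharacter hχ)
  have hcl := isClassFunction_of_isCharacter hres
  have := finite_irrCharacter (G := commutator Γ)
  let _ := Fintype.ofFinite (IrrCharacter (commutator Γ))
  have hsum := classFunction_eq_sum hcl
  have h1 := congrFun hsum ⟨n, hNX hn⟩
  have h2 := congrFun hsum 1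
  simp only [Finset.sum_apply, Pi.smul_apply, smul_eq_mul] at h1 h2
  change χ n = _ at h1
  change χ 1 = _ at h2
  rw [h1, h2]
  apply Finset.sum_congr rfl
  intro θ _
  by_cases h0 : classInner (fun n : commutator Γ => χ n) (θ : commutator Γ → ℂ) = 0
  · rw [h0, zero_mul, zero_mul]
  · rw [hcon _ θ.2 h0 ⟨n, hn⟩]

/-- Conjugate of a character over `μ`. -/
theorem over_conj {N : Subgroup Γ} (hNn : N.Normal) (hNX : N ≤ commutator Γ) {μ : N →* ℂˣ}
    {θ : commutator Γ → ℂ} (hO : Over hNX θ μ) (g : Γ) :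
    Over hNX (conjOn (inferInstance : (commutator Γ).Normal) g θ) (conjHom hNn g μ) := by
  intro n
  rw [conjOn_apply_one, conjOn_apply, conjHom_apply]
  exact hO ⟨g * n * g⁻¹, hNn.conj_mem n n.2 g⟩

/-- The inertia group of the character over `μ` is the stabiliser of `μ`. -/
theorem mem_inertia_iff {N : Subgroup Γ} (hNn : N.Normal) (hNX : N ≤ commutator Γ) {μ : N →* ℂˣ}
    {θ : commutator Γ → ℂ} (hθ : IsIrrCharacter (commutator Γ) θ) (hO : Over hNX θ μ)
    (huq : ∀ θ' : commutator Γ → ℂ, IsIrrCharacter (commutator Γ) θ' → Over hNX θ' μ → θ' = θ)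
    (g : Γ) :
    g ∈ inertia (inferInstance : (commutator Γ).Normal) θ ↔ conjHom hNn g μ = μ := by
  rw [mem_inertia]
  constructor
  · intro hg
    ext n
    rw [conjHom_apply]
    exact congrArg _ (Cfsg.Agent.Lib.NDF.PSUq.fixes_hom hNn hNX hθ hO hg n)
  · intro hg
    apply huq _ (isIrrCharacter_conjOn _ g hθ)
    have := over_conj hNn hNX hO g
    rwa [hg] at this

/-- The degree of the character over `μ`. -/
theorem deg_sq {N : Subgroup Γ} (hNX : N ≤ commutator Γ)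
    (hNc : ∀ n ∈ N, ∀ x ∈ commutator Γ, x * n = n * x) {μ : N →* ℂˣ}
    {θ : commutator Γ → ℂ} (hθ : IsIrrCharacter (commutator Γ) θ) (hO : Over hNX θ μ)
    (huq : ∀ θ' : commutator Γ → ℂ, IsIrrCharacter (commutator Γ) θ' → Over hNX θ' μ → θ' = θ) :
    charDegree θ ^ 2 = (N.subgroupOf (commutator Γ)).index := by
  classical
  let M : Subgroup (commutator Γ) := N.subgroupOf (commutator Γ)
  letI : Fintype M := Fintype.ofFinite _
  have hMc : ∀ n ∈ M, ∀ x : commutator Γ, x * n = n * x := by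
    intro n hn x
    exact Subtype.ext (hNc n (Subgroup.mem_subgroupOf.1 hn) x x.2)
  have h1 := (Cfsg.Agent.Lib.NDF.UniqueOver.unique_over hMc (lift' hNX μ) ⟨θ, hθ⟩
    ((over_iff hNX μ).1 hO) (fun χ hχ => Subtype.ext (huq χ χ.2 ((over_iff hNX μ).2 hχ)))).1
  have h2 : ((charDegree θ : ℕ) : ℂ) = θ 1 := charDegree_natCast (isCharacter_of_isIrrCharacter hθ)
  have h3 : ((charDegree θ ^ 2 : ℕ) : ℂ) = (M.index : ℂ) := by
    push_cast
    rw [h2]
    exact h1
  exact_mod_cast h3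

theorem hom_congr {N : Subgroup Γ} (μ : N →* ℂˣ) {a b : Γ} (ha : a ∈ N) (hb : b ∈ N) (h : a = b) :
    μ ⟨a, ha⟩ = μ ⟨b, hb⟩ := by
  subst h
  rfl

theorem conjHom_conjHom {N : Subgroup Γ} (hNn : N.Normal) (a b : Γ) (μ : N →* ℂˣ) :
    conjHom hNn a (conjHom hNn b μ) = conjHom hNn (b * a) μ := by
  ext n
  rw [conjHom_apply, conjHom_apply, conjHom_apply]
  exact congrArg _ (hom_congr μ _ _ (by group))

theorem conjHom_one {N : Subgroup Γ} (hNn : N.Normal) (μ : N →* ℂˣ) :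
    conjHom hNn 1 μ = μ := by
  ext n
  rw [conjHom_apply]
  exact congrArg _ (hom_congr μ _ _ (by group))

/-- `Q` acting on the homomorphisms of a normal subgroup. -/
@[reducible] noncomputable def actQ {N : Subgroup Γ} (hNn : N.Normal) (Q : Subgroup Γ) :
    MulDistribMulAction Q (N →* ℂˣ) where
  smul q μ := conjHom hNn (q : Γ)⁻¹ μ
  one_smul μ := by
    change conjHom hNn ((1 : Q) : Γ)⁻¹ μ = μ
    rw [Subgroup.coe_one, inv_one, conjHom_one]
  mul_smul q₁ q₂ μ := by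
    change conjHom hNn ((q₁ * q₂ : Q) : Γ)⁻¹ μ = conjHom hNn (q₁ : Γ)⁻¹ (conjHom hNn (q₂ : Γ)⁻¹ μ)
    rw [conjHom_conjHom, Subgroup.coe_mul, mul_inv_rev]
  smul_mul q μ ν := conjHom_mul hNn _ μ ν
  smul_one q := by
    ext n
    rfl

/-- The index in `Q` of a subgroup containing `X`. -/
theorem index_subgroupOf {Q : Subgroup Γ} (hQ : Cpl Q p) {T : Subgroup Γ}
    (hXT : commutator Γ ≤ T) : (T.subgroupOf Q).index = T.index := by
  haveI : T.Normal := normal_of_le hXT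
  have h1 : Q ⊔ T = ⊤ := by
    rw [eq_top_iff]
    intro g _
    obtain ⟨a, ha, q, hq, rfl⟩ := hQ.decomp g
    rw [sup_comm]
    exact Subgroup.mul_mem_sup (hXT ha) hq
  have h2 := Subgroup.relIndex_sup_right Q T
  rw [h1, Subgroup.relIndex_top_right] at h2
  exact h2.symm

/-- The character over `μ` has degree larger than one, and every `χ` over it has the degree. -/
theorem hac_aux (h : PS Γ p) {N : Subgroup Γ} (hNg : N ≤ g2 Γ)
    (hNc : ∀ n ∈ N, ∀ x ∈ commutator Γ, x * n = n * x)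
    {μ ν : N →* ℂˣ} (hμ : μ ≠ 1) (hν : ν ≠ 1)
    {θ θ' : commutator Γ → ℂ} (hθ : IsIrrCharacter (commutator Γ) θ)
    (hθ' : IsIrrCharacter (commutator Γ) θ')
    (hO : Over (hNg.trans g2_le) θ μ) (hO' : Over (hNg.trans g2_le) θ' ν)
    (huq : ∀ θ₀ : commutator Γ → ℂ, IsIrrCharacter (commutator Γ) θ₀ →
      Over (hNg.trans g2_le) θ₀ μ → θ₀ = θ)
    (huq' : ∀ θ₀ : commutator Γ → ℂ, IsIrrCharacter (commutator Γ) θ₀ →
      Over (hNg.trans g2_le) θ₀ ν → θ₀ = θ')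
    (hdvd : (inertia (inferInstance : (commutator Γ).Normal) θ).index ∣
      (inertia (inferInstance : (commutator Γ).Normal) θ').index) :
    (inertia (inferInstance : (commutator Γ).Normal) θ).index =
      (inertia (inferInstance : (commutator Γ).Normal) θ').index := by
  classical
  have hNX := hNg.trans g2_le
  have hD : charDegree θ = charDegree θ' := by
    have h1 := deg_sq hNX hNc hθ hO huq
    have h2 := deg_sq hNX hNc hθ' hO' huq'
    exact Nat.pow_left_injective (n := 2) (by norm_num) (h1.trans h2.symm)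
  have hD1 : 1 < charDegree θ := by
    have h0 := charDegree_pos hθ
    have h1 : charDegree θ ≠ 1 := by
      intro h2
      apply Cfsg.Agent.Lib.NDF.PSLv3.nonlinear_of_over hNg hθ hμ hO
      rw [← charDegree_natCast (isCharacter_of_isIrrCharacter hθ), h2]
      simp
    omega
  obtain ⟨χ, hχ, hcon⟩ := Cfsg.Agent.Lib.CharDeg.SmallDegree.exists_irr_constituent_restrict
    (commutator Γ) hθ
  obtain ⟨χ', hχ', hcon'⟩ := Cfsg.Agent.Lib.CharDeg.SmallDegree.exists_irr_constituent_restrict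
    (commutator Γ) hθ'
  have h1 := deg_of_over h hθ hχ hcon
  have h2 := deg_of_over h hθ' hχ' hcon'
  have ha : charDegree χ ∈ charDegrees Γ := ⟨⟨χ, hχ⟩, rfl⟩
  have hb : charDegree χ' ∈ charDegrees Γ := ⟨⟨χ', hχ'⟩, rfl⟩
  have hi0 : 0 < (inertia (inferInstance : (commutator Γ).Normal) θ).index :=
    Nat.pos_of_ne_zero Subgroup.index_ne_zero_of_finite
  have hi0' : 0 < (inertia (inferInstance : (commutator Γ).Normal) θ').index :=
    Nat.pos_of_ne_zero Subgroup.index_ne_zero_of_finite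
  by_contra hne
  have hlt : (inertia (inferInstance : (commutator Γ).Normal) θ).index <
      (inertia (inferInstance : (commutator Γ).Normal) θ').index :=
    lt_of_le_of_ne (Nat.le_of_dvd hi0' hdvd) hne
  refine h.nd _ ha _ hb ?_ ?_ ?_
  · rw [h1]
    nlinarith
  · rw [h1, h2, ← hD]
    exact Nat.mul_lt_mul_of_pos_right hlt (by omega)
  · rw [h1, h2, ← hD]
    exact Nat.mul_dvd_mul_right hdvd _

/-- A central element of `Q` fixing a nontrivial `ν` centralises `N`. -/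
theorem trivial_of_fixes (h : PS Γ p) {Q : Subgroup Γ} (hQ : Cpl Q p) {N : Subgroup Γ}
    (hNn : N.Normal) (hNg : N ≤ g2 Γ) (hNc : ∀ n ∈ N, ∀ x ∈ commutator Γ, x * n = n * x)
    (hU : Uq (hNg.trans g2_le)) {z : Γ} (hz : z ∈ Q) {ν : N →* ℂˣ} (hν : ν ≠ 1)
    (hzν : conjHom hNn z⁻¹ ν = ν) : ∀ n ∈ N, z * n * z⁻¹ = n := by
  classical
  have hNX := hNg.trans g2_le
  have hNab : ∀ a b : N, a * b = b * a := fun a b =>
    Subtype.ext (hNc a a.2 b (hNX b.2)).symm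
  letI := actQ hNn Q
  haveI : Finite (N →* ℂˣ) := Cfsg.Agent.Lib.Palfy.Dual.dual_finite hNab
  have hstab : ∀ μ : N →* ℂˣ, ∀ θ : commutator Γ → ℂ, IsIrrCharacter (commutator Γ) θ →
      Over hNX θ μ → (∀ θ₀ : commutator Γ → ℂ, IsIrrCharacter (commutator Γ) θ₀ →
      Over hNX θ₀ μ → θ₀ = θ) →
      (MulAction.stabilizer Q μ).index = (inertia (inferInstance : (commutator Γ).Normal) θ).index := by
    intro μ θ hθ hO huq
    have h1 : MulAction.stabilizer Q μ =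
        (inertia (inferInstance : (commutator Γ).Normal) θ).subgroupOf Q := by
      ext q
      rw [MulAction.mem_stabilizer_iff, Subgroup.mem_subgroupOf,
        ← Subgroup.inv_mem_iff, mem_inertia_iff hNn hNX hθ hO huq]
      rfl
    rw [h1]
    exact index_subgroupOf hQ (le_inertia _ (isClassFunction_of_isCharacter
      (isCharacter_of_isIrrCharacter hθ)))
  have hac : ∀ ν μ : N →* ℂˣ, ν ≠ 1 → μ ≠ 1 →
      (MulAction.stabilizer Q ν).index ∣ (MulAction.stabilizer Q μ).index →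
      (MulAction.stabilizer Q ν).index = (MulAction.stabilizer Q μ).index := by
    intro ν μ hν hμ hd
    obtain ⟨θ, hθ, hO, huq⟩ := hU ν hν
    obtain ⟨θ', hθ', hO', huq'⟩ := hU μ hμ
    rw [hstab ν θ hθ hO huq, hstab μ θ' hθ' hO' huq'] at hd ⊢
    exact hac_aux h hNg hNc hν hμ hθ hθ' hO hO' huq huq' hd
  have hall : ∀ μ : N →* ℂˣ, conjHom hNn z⁻¹ μ = μ := fun μ =>
    Cfsg.Agent.Lib.NDF.UniformFix.uniform_fix (L := Q) (V := N →* ℂˣ) hac ⟨z, hz⟩
      (fun g => Subtype.ext (hQ.comm _ g.2 _ hz)) hν hzν μ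
  intro n hn
  by_contra hne
  have hm : z * n * z⁻¹ ∈ N := hNn.conj_mem n hn z
  have hc1 : (⟨z * n * z⁻¹, hm⟩ : N) * (⟨n, hn⟩ : N)⁻¹ ≠ 1 := by
    intro h0
    apply hne
    have h2 := congrArg (fun c : N => (c : Γ)) h0
    simp only [Subgroup.coe_mul, InvMemClass.coe_inv, Subgroup.coe_one] at h2
    exact mul_inv_eq_one.1 h2
  obtain ⟨β, hβ⟩ := Cfsg.Agent.Lib.NoDiv.Q78.sep' hNab hc1
  apply hβ
  have h1 := congrArg (fun μ : N →* ℂˣ => μ ⟨z * n * z⁻¹, hm⟩) (hall β)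
  simp only [conjHom_apply] at h1
  rw [map_mul, map_inv, ← h1, mul_inv_eq_one]
  exact hom_congr β _ _ (by group)

/-- The dichotomy for the elements of `Q`. -/
theorem dich_Q (h : PS Γ p) {Q : Subgroup Γ} (hQ : Cpl Q p) {N : Subgroup Γ}
    (hNn : N.Normal) (hNg : N ≤ g2 Γ) (hNc : ∀ n ∈ N, ∀ x ∈ commutator Γ, x * n = n * x)
    (hU : Uq (hNg.trans g2_le)) {q : Γ} (hq : q ∈ Q) :
    (∀ n ∈ N, q * n * q⁻¹ * n⁻¹ = 1) ∨ (∀ n ∈ N, q * n * q⁻¹ * n⁻¹ = 1 → n = 1) := by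
  classical
  by_cases hf : ∀ n ∈ N, q * n * q⁻¹ * n⁻¹ = 1 → n = 1
  · exact Or.inr hf
  left
  push Not at hf
  obtain ⟨n, hn, hc, hn1⟩ := hf
  have hNX := hNg.trans g2_le
  have hNab : ∀ a b : N, a * b = b * a := fun a b =>
    Subtype.ext (hNc a a.2 b (hNX b.2)).symm
  letI := actQ hNn Q
  have hn₀ : (⟨n, hn⟩ : N) ≠ 1 := fun h0 => hn1 (congrArg (fun c : N => (c : Γ)) h0)
  obtain ⟨ν₀, hν₀⟩ := Cfsg.Agent.Lib.NoDiv.Q78.sep' hNab hn₀
  let q' : Q := ⟨q, hq⟩
  have hq'o : q' ^ orderOf q = 1 := Subtype.ext (by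
    simp only [SubgroupClass.coe_pow, Subgroup.coe_one, q']
    exact pow_orderOf_eq_one q)
  let ν : N →* ℂˣ := ∏ i ∈ Finset.range (orderOf q), (q' ^ i) • ν₀
  have hfix : q' • ν = ν := by
    change q' • ∏ i ∈ Finset.range (orderOf q), (q' ^ i) • ν₀ = _
    rw [Finset.smul_prod']
    simp_rw [smul_smul, ← pow_succ']
    have h1 := Finset.prod_range_succ (fun i => (q' ^ i) • ν₀) (orderOf q)
    have h2 := Finset.prod_range_succ' (fun i => (q' ^ i) • ν₀) (orderOf q)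
    rw [h1] at h2
    simp only [hq'o, one_smul, pow_zero] at h2
    exact (mul_right_cancel h2).symm
  have hcomm : ∀ i : ℕ, ((q' ^ i) • ν₀) ⟨n, hn⟩ = ν₀ ⟨n, hn⟩ := by
    intro i
    induction i with
    | zero => simp
    | succ i ih =>
      rw [pow_succ', mul_smul]
      change conjHom hNn (q' : Γ)⁻¹ ((q' ^ i) • ν₀) ⟨n, hn⟩ = _
      rw [conjHom_apply]
      have hqn : q * n = n * q := by
        have h2 : q * n * q⁻¹ * n⁻¹ * (n * q) = n * q := by rw [hc, one_mul]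
        rw [← h2]
        group
      have h3 : (⟨(q' : Γ)⁻¹ * n * ((q' : Γ)⁻¹)⁻¹, hNn.conj_mem n hn (q' : Γ)⁻¹⟩ : N) = ⟨n, hn⟩ :=
        Subtype.ext (by
          change q⁻¹ * n * q⁻¹⁻¹ = n
          rw [inv_inv, mul_assoc, ← hqn]
          group)
      exact (congrArg _ h3).trans ih
  have hval : ν ⟨n, hn⟩ = (ν₀ ⟨n, hn⟩) ^ orderOf q := by
    change (∏ i ∈ Finset.range (orderOf q), (q' ^ i) • ν₀) ⟨n, hn⟩ = _
    rw [MonoidHom.finsetProd_apply]
    simp_rw [hcomm]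
    simp
  have hne : ν ≠ 1 := by
    intro h0
    rw [h0] at hval
    apply hν₀
    obtain ⟨k, hk⟩ := h.hX ⟨n, hNX hn⟩
    have h3 : (⟨n, hn⟩ : N) ^ (p ^ k) = 1 := by
      apply Subtype.ext
      have := congrArg (fun c : commutator Γ => (c : Γ)) hk
      simpa using this
    have h4 : (ν₀ ⟨n, hn⟩) ^ (p ^ k) = 1 := by
      rw [← map_pow, h3, map_one]
    have h5 : (ν₀ ⟨n, hn⟩) ^ orderOf q = 1 := hval.symm
    have hcop : Nat.Coprime (orderOf q) (p ^ k) := (hQ.cop q hq).pow_right k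
    have h6 := Nat.Coprime.eq_one_of_dvd (Nat.Coprime.coprime_dvd_left (orderOf_dvd_of_pow_eq_one h5) hcop)
      (orderOf_dvd_of_pow_eq_one h4)
    exact orderOf_eq_one_iff.1 h6
  have h7 := trivial_of_fixes h hQ hNn hNg hNc hU hq hne hfix
  intro m hm
  rw [h7 m hm]
  group

/-- (P8) The consequences of uniqueness at a level: dichotomy, constant degree, export. -/
theorem level (h : PS Γ p) {N : Subgroup Γ} (hNn : N.Normal) (hNg : N ≤ g2 Γ)
    (hNc : ∀ n ∈ N, ∀ x ∈ commutator Γ, x * n = n * x)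
    (hU : Uq (hNg.trans g2_le)) :
    (∀ x : Γ, (∀ n ∈ N, x * n * x⁻¹ * n⁻¹ = 1) ∨ (∀ n ∈ N, x * n * x⁻¹ * n⁻¹ = 1 → n = 1)) ∧
    (∃ D : ℕ, (N ≠ ⊥ → D ^ 2 = (N.subgroupOf (commutator Γ)).index) ∧
      (N ≠ ⊥ → ((Cen N ⊥).index * D) ∈ charDegrees Γ) ∧
      ∀ χ : Γ → ℂ, IsIrrCharacter Γ χ → (∃ n ∈ N, χ n ≠ χ 1) →
        charDegree χ = (Cen N ⊥).index * D) ∧
    (N ≠ ⊥ → ∃ y, y ∉ H0 Γ ∧ ∀ n ∈ N, y * n * y⁻¹ * n⁻¹ = 1) := by
  classical
  have hNX := hNg.trans g2_le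
  have hNab : ∀ a b : N, a * b = b * a := fun a b =>
    Subtype.ext (hNc a a.2 b (hNX b.2)).symm
  have hNab' : ∀ a ∈ N, ∀ b ∈ N, a * b = b * a := fun a ha b hb =>
    (hNc a ha b (hNX hb)).symm
  obtain ⟨Q, hQ⟩ := exists_cpl h
  have hd : ∀ x : Γ, (∀ n ∈ N, x * n * x⁻¹ * n⁻¹ = 1) ∨
      (∀ n ∈ N, x * n * x⁻¹ * n⁻¹ = 1 → n = 1) := by
    intro x
    obtain ⟨a, ha, q, hq, rfl⟩ := hQ.decomp x
    have hconj : ∀ n ∈ N, (a * q) * n * (a * q)⁻¹ * n⁻¹ = q * n * q⁻¹ * n⁻¹ := by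
      intro n hn
      have hm : q * n * q⁻¹ ∈ N := hNn.conj_mem n hn q
      have h1 := hNc _ hm a ha
      calc (a * q) * n * (a * q)⁻¹ * n⁻¹ = (a * (q * n * q⁻¹)) * a⁻¹ * n⁻¹ := by group
        _ = q * n * q⁻¹ * n⁻¹ := by rw [h1]; group
    rcases dich_Q h hQ hNn hNg hNc hU hq with h1 | h1
    · left
      intro n hn
      rw [hconj n hn]
      exact h1 n hn
    · right
      intro n hn h2
      rw [hconj n hn] at h2
      exact h1 n hn h2
  have hin : ∀ μ : N →* ℂˣ, μ ≠ 1 → ∀ θ : commutator Γ → ℂ, IsIrrCharacter (commutator Γ) θ →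
      Over hNX θ μ → (∀ θ₀ : commutator Γ → ℂ, IsIrrCharacter (commutator Γ) θ₀ →
      Over hNX θ₀ μ → θ₀ = θ) →
      inertia (inferInstance : (commutator Γ).Normal) θ = Cen N ⊥ := by
    intro μ hμ θ hθ hO huq
    ext g
    rw [mem_inertia_iff hNn hNX hθ hO huq g, mem_Cen]
    constructor
    · intro hg a ha
      rw [Subgroup.mem_bot]
      rcases hd g with h1 | h1
      · exact h1 a ha
      · exfalso
        apply hμ
        exact Cfsg.Agent.Lib.NDF.PSLv3.mu_one_of_fpf hNn hNab' h1 μ (fun n =>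
          congrArg (fun β : N →* ℂˣ => β n) hg)
    · intro hg
      ext n
      rw [conjHom_apply]
      have h1 := hg n n.2
      rw [Subgroup.mem_bot] at h1
      exact congrArg _ (hom_congr μ _ _ (mul_inv_eq_one.1 h1))
  by_cases hN : N = ⊥
  · refine ⟨hd, ⟨0, fun h => absurd hN h, fun h => absurd hN h, ?_⟩, fun h => absurd hN h⟩
    rintro χ hχ ⟨n, hn, hne⟩
    rw [hN, Subgroup.mem_bot] at hn
    exact absurd (by rw [hn]) hne
  · obtain ⟨n₀, hn₀, hn₁⟩ : ∃ n ∈ N, n ≠ 1 := (Subgroup.bot_or_exists_ne_one N).resolve_left hN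
    have hn₁' : (⟨n₀, hn₀⟩ : N) ≠ 1 := fun h0 => hn₁ (congrArg (fun c : N => (c : Γ)) h0)
    obtain ⟨μ₀, hμ₀⟩ := Cfsg.Agent.Lib.NoDiv.Q78.sep' hNab hn₁'
    have hμ₀1 : μ₀ ≠ 1 := fun h0 => hμ₀ (by rw [h0]; rfl)
    obtain ⟨θ₀, hθ₀, hO₀, huq₀⟩ := hU μ₀ hμ₀1
    refine ⟨hd, ⟨charDegree θ₀, fun _ => deg_sq hNX hNc hθ₀ hO₀ huq₀, fun _ => ?_, ?_⟩, fun _ => ?_⟩
    · obtain ⟨χ, hχ, hcon⟩ := Cfsg.Agent.Lib.CharDeg.SmallDegree.exists_irr_constituent_restrict
        (commutator Γ) hθ₀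
      refine ⟨⟨χ, hχ⟩, ?_⟩
      change charDegree χ = _
      rw [deg_of_over h hθ₀ hχ hcon, hin μ₀ hμ₀1 θ₀ hθ₀ hO₀ huq₀]
    · intro χ hχ hm
      obtain ⟨θ, hθ, hcon, n, hn⟩ := exists_constituent_moved hNX hχ hm
      obtain ⟨μ, hO⟩ := exists_hom_over hNn hNX hNc hθ
      have hμ : μ ≠ 1 := by
        rintro rfl
        apply hn
        rw [hO n]
        simp
      obtain ⟨θ', hθ', hO', huq'⟩ := hU μ hμ
      have h3 : θ = θ' := huq' θ hθ hO
      subst h3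
      rw [deg_of_over h hθ hχ hcon, hin μ hμ θ hθ hO huq']
      congr 1
      have h1 := deg_sq hNX hNc hθ hO huq'
      have h2 := deg_sq hNX hNc hθ₀ hO₀ huq₀
      exact Nat.pow_left_injective (n := 2) (by norm_num) (h1.trans h2.symm)
    · obtain ⟨y, hy, hfix⟩ := exists_fixer h hθ₀ (Cfsg.Agent.Lib.NDF.PSLv3.nonlinear_of_over hNg hθ₀ hμ₀1 hO₀)
      refine ⟨y, hy, ?_⟩
      have hmem : y ∈ inertia (inferInstance : (commutator Γ).Normal) θ₀ := hfix
      rw [hin μ₀ hμ₀1 θ₀ hθ₀ hO₀ huq₀, mem_Cen] at hmem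
      intro n hn
      simpa using hmem n hn

end Fin

end Cfsg.Agent.Lib.NDF.PSLevelB
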