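import Cfsg.Agent.Lib.NDF.PSBase
import Cfsg.Agent.Lib.NDF.PSLevelB
import Cfsg.Agent.Lib.NDF.PSLv2

/-! # S4780, block P: the levels in general (P10, P14), from the levels with central top -/

set_option autoImplicit false
set_option linter.unusedSectionVars false

namespace Cfsg.Agent.Lib.NDF.PSGen

open Cfsg Cfsg.Agent.Lib.NoDiv.Defs Cfsg.Agent.Lib.NDF.Defs Cfsg.Agent.Lib.NDF.PSDefs
open Cfsg.Agent.Lib.Char.Basic Cfsg.Agent.Lib.Char.Conj Cfsg.Agent.Lib.Char.CliffordCorr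
open Cfsg.Agent.Lib.Char.Linear Cfsg.Agent.Lib.Char.Degree Cfsg.Agent.Lib.Char.Ortho
open Cfsg.Agent.Lib.NoDiv.Deep1 Cfsg.Agent.Lib.NDF.PSBase
open Cfsg.Agent.Lib.NDF.PSLevelB (level)
open Cfsg.Agent.Lib.NDF.PSLv2 (lv2)

universe u

variable {Γ : Type u} [Group Γ] {p : ℕ}

theorem mem_cd_of_quot {K : Subgroup Γ} [K.Normal] {a : ℕ} (ha : a ∈ charDegrees (Γ ⧸ K)) :
    a ∈ charDegrees Γ := by
  obtain ⟨χ, rfl⟩ := ha
  refine ⟨⟨_, Cfsg.Agent.Lib.Char.Linear.isIrrCharacter_comp (QuotientGroup.mk' K) (QuotientGroup.mk'_surjective K) χ.2⟩, ?_⟩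
  simp [charDegree]

/-- The translation of `level` from `Γ ⧸ K`. -/
theorem gen [Finite Γ] (h : PS Γ p) {K A : Subgroup Γ} [hKn : K.Normal] [hAn : A.Normal]
    (hKA : K ≤ A) (hAg : A ≤ g2 Γ)
    (hc : ∀ n ∈ A, ∀ x ∈ commutator Γ, n * x * n⁻¹ * x⁻¹ ∈ K)
    (hU : ∀ (N : Subgroup (Γ ⧸ K)) (hNX : N ≤ commutator (Γ ⧸ K)),
      N = A.map (QuotientGroup.mk' K) → Uq hNX) :
    (∀ x : Γ, x ∈ Cen A K ∨ (∀ e ∈ A, x * e * x⁻¹ * e⁻¹ ∈ K → e ∈ K)) ∧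
    (∃ D : ℕ, (A ≠ K → D ^ 2 = A.relIndex (commutator Γ)) ∧
      (A ≠ K → ((Cen A K).index * D) ∈ charDegrees Γ) ∧
      ∀ χ : Γ → ℂ, IsIrrCharacter Γ χ → (∀ f ∈ K, χ f = χ 1) → (∃ e ∈ A, χ e ≠ χ 1) →
        charDegree χ = (Cen A K).index * D) ∧
    (A ≠ K → ∃ y, y ∉ H0 Γ ∧ y ∈ Cen A K) := by
  classical
  have hKg : K ≤ g2 Γ := hKA.trans hAg
  have hKX : K ≤ commutator Γ := hKg.trans g2_le
  letI : Fintype (Γ ⧸ K) := Fintype.ofFinite _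
  letI : Fintype (commutator (Γ ⧸ K)) := Fintype.ofFinite _
  let π := QuotientGroup.mk' K
  have hπ : Function.Surjective π := QuotientGroup.mk'_surjective K
  have hker : π.ker = K := QuotientGroup.ker_mk' K
  have h1 : ∀ c : Γ, π c = 1 ↔ c ∈ K := fun c => by
    rw [← MonoidHom.mem_ker, hker]
  have hcomm : ∀ a b : Γ, π a * π b * (π a)⁻¹ * (π b)⁻¹ = π (a * b * a⁻¹ * b⁻¹) := fun a b => by
    simp only [map_mul, map_inv]
  have hmemA : ∀ c : Γ, π c ∈ A.map π ↔ c ∈ A := fun c => mk_mem_map hKA c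
  have hXmap : (commutator Γ).map π = commutator (Γ ⧸ K) := map_commutator_mk
  have hmemX : ∀ c : Γ, π c ∈ commutator (Γ ⧸ K) ↔ c ∈ commutator Γ := fun c => by
    rw [← hXmap]
    exact mk_mem_map hKX c
  have h2map : (g2 Γ).map π = g2 (Γ ⧸ K) := map_g2
  have hmem2 : ∀ c : Γ, π c ∈ g2 (Γ ⧸ K) ↔ c ∈ g2 Γ := fun c => by
    rw [← h2map]
    exact mk_mem_map hKg c
  have hh : PS (Γ ⧸ K) p := PS.quot h hKg
  have hNn : (A.map π).Normal := Subgroup.Normal.map hAn π hπ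
  have hNg : A.map π ≤ g2 (Γ ⧸ K) := (Subgroup.map_mono hAg).trans (le_of_eq map_g2)
  have hNc : ∀ n ∈ A.map π, ∀ x ∈ commutator (Γ ⧸ K), x * n = n * x := by
    rintro n ⟨n₀, hn₀, rfl⟩ x hx
    obtain ⟨x₀, rfl⟩ := hπ x
    have h2 := (h1 _).2 (hc n₀ hn₀ x₀ ((hmemX x₀).1 hx))
    rw [← hcomm] at h2
    have h3 : π n₀ * π x₀ = π x₀ * π n₀ := by
      calc π n₀ * π x₀ = (π n₀ * π x₀ * (π n₀)⁻¹ * (π x₀)⁻¹) * (π x₀ * π n₀) := by group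
        _ = π x₀ * π n₀ := by rw [h2, one_mul]
    exact h3.symm
  obtain ⟨d1, ⟨D, hD2, hDmem, hDdeg⟩, e1⟩ := level hh hNn hNg hNc (hU _ _ rfl)
  have hne : A ≠ K → A.map π ≠ ⊥ := by
    intro hAK hbot
    apply hAK
    refine le_antisymm (fun a ha => ?_) hKA
    have : π a ∈ A.map π := ⟨a, ha, rfl⟩
    rw [hbot, Subgroup.mem_bot] at this
    exact (h1 a).1 this
  have hCen : ∀ x : Γ, x ∈ Cen A K ↔ π x ∈ Cen (A.map π) (⊥ : Subgroup (Γ ⧸ K)) := by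
    intro x
    rw [mem_Cen, mem_Cen]
    constructor
    · rintro hx n ⟨n₀, hn₀, rfl⟩
      rw [hcomm, Subgroup.mem_bot, h1]
      exact hx n₀ hn₀
    · intro hx n hn
      have := hx (π n) ⟨n, hn, rfl⟩
      rw [hcomm, Subgroup.mem_bot, h1] at this
      exact this
  have hindex : (Cen A K).index = (Cen (A.map π) (⊥ : Subgroup (Γ ⧸ K))).index := by
    have : Cen A K = (Cen (A.map π) (⊥ : Subgroup (Γ ⧸ K))).comap π := by
      ext x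
      rw [hCen]
      rfl
    rw [this]
    exact Subgroup.index_comap_of_surjective _ hπ
  refine ⟨?_, ⟨D, ?_, ?_, ?_⟩, ?_⟩
  · intro x
    rcases d1 (π x) with hx | hx
    · left
      rw [hCen, mem_Cen]
      intro a ha
      rw [Subgroup.mem_bot]
      exact hx a ha
    · right
      intro e he hxe
      have h2 := hx (π e) ⟨e, he, rfl⟩
      rw [hcomm, (h1 _).2 hxe] at h2
      exact (h1 e).1 (h2 rfl)
  · intro hAK
    rw [hD2 (hne hAK)]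
    change (A.map π).relIndex _ = _
    have h3 : A = (A.map π).comap π := by
      rw [Subgroup.comap_map_eq, hker, sup_eq_left.mpr hKA]
    conv_rhs => rw [h3]
    rw [Subgroup.relIndex_comap, hXmap]
  · intro hAK
    rw [hindex]
    exact mem_cd_of_quot (hDmem (hne hAK))
  · intro χ hχ hK ⟨e, he, hχe⟩
    obtain ⟨ψ, hψ, rfl⟩ := isIrrCharacter_descend π hπ hχ (by
      intro k hk
      rw [hker] at hk
      exact hK k hk)
    have h2 := hDdeg ψ hψ ⟨π e, ⟨e, he, rfl⟩, by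
      simpa using hχe⟩
    rw [hindex, ← h2]
    simp [charDegree]
  · intro hAK
    obtain ⟨y, hy, hyc⟩ := e1 (hne hAK)
    obtain ⟨y₀, rfl⟩ := hπ y
    refine ⟨y₀, ?_, ?_⟩
    · intro hy₀
      apply hy
      rw [mem_Cen] at hy₀ ⊢
      intro a ha
      obtain ⟨a₀, rfl⟩ := hπ a
      rw [hcomm, hmem2]
      exact hy₀ a₀ ((hmemX a₀).1 ha)
    · rw [hCen, mem_Cen]
      intro a ha
      rw [Subgroup.mem_bot]
      exact hyc a ha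

/-- (P10) Level 2 in general. -/
theorem lv2_gen [Finite Γ] (h : PS Γ p) :
    (∀ x : Γ, x ∈ Cen (g2 Γ) (g3 Γ) ∨ (∀ e ∈ g2 Γ, x * e * x⁻¹ * e⁻¹ ∈ g3 Γ → e ∈ g3 Γ)) ∧
    (∃ D : ℕ, (g2 Γ ≠ g3 Γ → D ^ 2 = (g2 Γ).relIndex (commutator Γ)) ∧
      (g2 Γ ≠ g3 Γ → ((Cen (g2 Γ) (g3 Γ)).index * D) ∈ charDegrees Γ) ∧
      ∀ χ : Γ → ℂ, IsIrrCharacter Γ χ → (∀ f ∈ g3 Γ, χ f = χ 1) → (∃ e ∈ g2 Γ, χ e ≠ χ 1) →
        charDegree χ = (Cen (g2 Γ) (g3 Γ)).index * D) ∧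
    (g2 Γ ≠ g3 Γ → ∃ y, y ∉ H0 Γ ∧ y ∈ Cen (g2 Γ) (g3 Γ)) := by
  classical
  letI : Fintype (Γ ⧸ g3 Γ) := Fintype.ofFinite _
  letI : Fintype (commutator (Γ ⧸ g3 Γ)) := Fintype.ofFinite _
  have hh : PS (Γ ⧸ g3 Γ) p := PS.quot h g3_le
  have hmap3 : g3 (Γ ⧸ g3 Γ) = ⊥ := by
    rw [← map_g3, eq_bot_iff]
    rintro _ ⟨a, ha, rfl⟩
    rw [Subgroup.mem_bot, ← MonoidHom.mem_ker, QuotientGroup.ker_mk']
    exact ha
  have hU0 := lv2 hh hmap3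
  have heq : (g3 Γ ≤ g2 Γ) := g3_le
  refine gen h (K := g3 Γ) (A := g2 Γ) heq le_rfl ?_ ?_
  · intro n hn x hx
    exact Subgroup.commutator_mem_commutator hn hx
  · intro N hNX hN
    rw [map_g2] at hN
    subst hN
    exact hU0

end Cfsg.Agent.Lib.NDF.PSGen
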