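import Cfsg.Agent.Lib.NDF.PSBase
import Cfsg.Agent.Lib.NDF.PSUq
import Cfsg.Agent.Lib.NDF.PSP2
import Cfsg.Agent.Lib.NDF.PSLv3
import Cfsg.Agent.Lib.NDF.UniqueOver
import Cfsg.Agent.Lib.NDF.UniformFix

/-!
# S4780, block P, (P8): the consequences of uniqueness at a level

`N` normal in `Γ`, central in `X = Γ'`, `N ≤ X'`, with a unique irreducible character of `X` over each nontrivial
homomorphism `μ` of `N`. Then the inertia group of `θ_μ` is the stabiliser of `μ`, degrees `|Γ : S_μ| D` lie in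
`cd Γ`, `D² = |X : N|`. The abelian complement `Q` acts on the homomorphisms with uniform kernels (A3), so an element
of `Q` fixing one `ν ≠ 1` fixes all, so acts trivially on `N`; one fixing no `ν ≠ 1` is fixed point free on `N`
(duality: `κ ↦ (z κ) κ⁻¹` is bijective).
-/

set_option autoImplicit false
set_option linter.unusedSectionVars false
set_option linter.style.haveILetI false
set_option linter.unusedVariables false

namespace Cfsg.Agent.Lib.NDF.PSLevel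

open Cfsg Cfsg.Agent.Lib.NoDiv.Defs Cfsg.Agent.Lib.NDF.Defs Cfsg.Agent.Lib.NDF.PSDefs
open Cfsg.Agent.Lib.Char.Basic Cfsg.Agent.Lib.Char.Conj Cfsg.Agent.Lib.Char.CliffordCorr
open Cfsg.Agent.Lib.Char.Linear Cfsg.Agent.Lib.Char.Degree Cfsg.Agent.Lib.Char.Ortho
open Cfsg.Agent.Lib.Char.Induced Cfsg.Agent.Lib.Char.Complete Cfsg.Agent.Lib.NoDiv.XLemma
open Cfsg.Agent.Lib.Char.Clifford

universe u

variable {Γ : Type u} [Group Γ] {p : ℕ} {N : Subgroup Γ}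

/-- The stabiliser of a homomorphism of `N` in `Γ`. -/
def Sb (hNn : N.Normal) (μ : N →* ℂˣ) : Subgroup Γ := inertia hNn (fun n => ((μ n : ℂˣ) : ℂ))

theorem mem_Sb (hNn : N.Normal) (μ : N →* ℂˣ) (g : Γ) : g ∈ Sb hNn μ ↔ conjHom hNn g μ = μ := by
  unfold Sb
  rw [mem_inertia]
  constructor
  · intro h
    ext n
    exact congrFun h n
  · intro h
    funext n
    exact congrArg (fun f : N →* ℂˣ => ((f n : ℂˣ) : ℂ)) h

theorem conjHom_congr (hNn : N.Normal) (μ : N →* ℂˣ) {g : Γ} {n m : N} (h : g * n * g⁻¹ = m) :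
    conjHom hNn g μ n = μ m := by
  rw [conjHom_apply]
  congr 1
  exact Subtype.ext h

theorem mem_Sb_of_central (hNn : N.Normal) (μ : N →* ℂˣ) {g : Γ}
    (hg : ∀ n ∈ N, g * n * g⁻¹ * n⁻¹ = 1) : g ∈ Sb hNn μ := by
  rw [mem_Sb]
  ext n
  have h1 : g * n * g⁻¹ = n := by
    have := hg n n.2
    exact mul_inv_eq_one.mp this
  rw [conjHom_congr hNn μ h1]

/-- The action of a subgroup on the homomorphisms. -/
@[reducible] def actQ (hNn : N.Normal) (Q : Subgroup Γ) : MulDistribMulAction Q (N →* ℂˣ) where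
  smul q μ := conjHom hNn ((q : Γ)⁻¹) μ
  one_smul μ := by
    ext n
    change ((conjHom hNn ((1 : Q) : Γ)⁻¹ μ n : ℂˣ) : ℂ) = _
    rw [conjHom_congr hNn μ (m := n) (by simp)]
  mul_smul a b μ := by
    ext n
    change ((conjHom hNn ((a * b : Q) : Γ)⁻¹ μ n : ℂˣ) : ℂ) = ((conjHom hNn (a : Γ)⁻¹ (conjHom hNn (b : Γ)⁻¹ μ) n : ℂˣ) : ℂ)
    rw [conjHom_apply hNn (a : Γ)⁻¹, conjHom_apply hNn (b : Γ)⁻¹, conjHom_apply]
    congr 2
    apply Subtype.ext
    simp only [Subgroup.coe_mul, mul_inv_rev, inv_inv]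
    group
  smul_mul a x y := rfl
  smul_one a := rfl

section Fin

variable [Fintype Γ] [Fintype (commutator Γ)]

theorem inertia_eq (hNn : N.Normal) (hNX : N ≤ commutator Γ) {μ : N →* ℂˣ} {θ : commutator Γ → ℂ}
    (hθ : IsIrrCharacter (commutator Γ) θ) (hO : Over hNX θ μ)
    (huq : ∀ θ' : commutator Γ → ℂ, IsIrrCharacter (commutator Γ) θ' → Over hNX θ' μ → θ' = θ) :
    inertia (inferInstance : (commutator Γ).Normal) θ = Sb hNn μ := by
  ext y
  rw [mem_inertia, mem_Sb]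
  constructor
  · intro hy
    ext n
    exact congrArg Units.val (PSUq.fixes_hom hNn hNX hθ hO hy n)
  · intro hy
    apply huq _ (isIrrCharacter_conjOn _ y hθ)
    intro n
    have h2 := hO ⟨y * n * y⁻¹, hNn.conj_mem n n.2 y⟩
    have h3 : μ ⟨y * n * y⁻¹, hNn.conj_mem n n.2 y⟩ = μ n := by
      rw [← conjHom_apply hNn y μ n, hy]
    rw [h3] at h2
    rw [conjOn_apply_one]
    rw [conjOn_apply]
    exact h2

theorem deg_sq (hNX : N ≤ commutator Γ) (hNc : ∀ n ∈ N, ∀ x ∈ commutator Γ, x * n = n * x)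
    {μ : N →* ℂˣ} {θ : commutator Γ → ℂ}
    (hθ : IsIrrCharacter (commutator Γ) θ) (hO : Over hNX θ μ)
    (huq : ∀ θ' : commutator Γ → ℂ, IsIrrCharacter (commutator Γ) θ' → Over hNX θ' μ → θ' = θ) :
    charDegree θ ^ 2 = (N.subgroupOf (commutator Γ)).index := by
  classical
  letI : Fintype (N.subgroupOf (commutator Γ)) := Fintype.ofFinite _
  have hc : ∀ n ∈ N.subgroupOf (commutator Γ), ∀ x : commutator Γ, x * n = n * x :=
    fun n hn x => Subtype.ext (hNc n (Subgroup.mem_subgroupOf.1 hn) x x.2)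
  have h1 := (Cfsg.Agent.Lib.NDF.UniqueOver.unique_over hc (PSP2.lift' hNX μ) ⟨θ, hθ⟩
    ((PSP2.over_iff hNX μ).1 hO)
    (fun χ hχ => Subtype.ext (huq χ χ.2 ((PSP2.over_iff hNX μ).2 hχ)))).1
  have h2 : (charDegree θ : ℂ) = θ 1 := charDegree_natCast (isCharacter_of_isIrrCharacter hθ)
  change θ 1 ^ 2 = _ at h1
  rw [← h2] at h1
  exact_mod_cast h1

/-- A character of `X` lies over a homomorphism of a central subgroup. -/
theorem exists_hom_over (hNX : N ≤ commutator Γ) (hNc : ∀ n ∈ N, ∀ x ∈ commutator Γ, x * n = n * x)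
    {θ : commutator Γ → ℂ} (hθ : IsIrrCharacter (commutator Γ) θ) :
    ∃ μ : N →* ℂˣ, Over hNX θ μ := by
  have h1 : θ 1 ≠ 0 := irr_one_ne_zero hθ
  have hcen : ∀ n : N, (⟨n, hNX n.2⟩ : commutator Γ) ∈ Subgroup.center (commutator Γ) := fun n => by
    rw [Subgroup.mem_center_iff]
    intro g
    exact Subtype.ext (hNc n n.2 g g.2)
  have hne : ∀ n : N, θ ⟨n, hNX n.2⟩ ≠ 0 := fun n => by
    apply Cfsg.Agent.Lib.NoDiv.Q78.ne_zero_of_comm hθ
    intro t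
    have h2 : (⟨n, hNX n.2⟩ : commutator Γ) * t = t * ⟨n, hNX n.2⟩ :=
      (Subgroup.mem_center_iff.1 (hcen n) t).symm
    rw [h2]
    congr 1
    group
  let f : N →* ℂˣ :=
    { toFun := fun n => Units.mk0 (θ ⟨n, hNX n.2⟩ / θ 1) (div_ne_zero (hne n) h1)
      map_one' := by
        apply Units.ext
        change θ ⟨((1 : N) : Γ), hNX (1 : N).2⟩ / θ 1 = 1
        have : (⟨((1 : N) : Γ), hNX (1 : N).2⟩ : commutator Γ) = 1 := rfl
        rw [this, div_self h1]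
      map_mul' := fun a b => by
        apply Units.ext
        change θ ⟨((a * b : N) : Γ), hNX (a * b : N).2⟩ / θ 1 =
          (θ ⟨a, hNX a.2⟩ / θ 1) * (θ ⟨b, hNX b.2⟩ / θ 1)
        have h3 := Cfsg.Agent.Lib.Char.CentralCount.char_mul_central hθ (hcen b) ⟨a, hNX a.2⟩
        have h4 : (⟨((a * b : N) : Γ), hNX (a * b : N).2⟩ : commutator Γ) =
            ⟨a, hNX a.2⟩ * ⟨b, hNX b.2⟩ := rfl
        rw [h4]
        field_simp
        rw [h3] }
  refine ⟨f, fun n => ?_⟩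
  change θ ⟨n, hNX n.2⟩ = (θ ⟨n, hNX n.2⟩ / θ 1) * θ 1
  rw [div_mul_cancel₀ _ h1]

/-- If a constituent of `χ` on `X` is trivial on `N`, so is `χ`. -/
theorem trivial_of_constituent (hNn : N.Normal) (hNX : N ≤ commutator Γ)
    {χ : Γ → ℂ} (hχ : IsIrrCharacter Γ χ) {θ : commutator Γ → ℂ}
    (hθ : IsIrrCharacter (commutator Γ) θ)
    (hcon : classInner (fun n : commutator Γ => χ n) θ ≠ 0)
    (htriv : ∀ n : N, θ ⟨n, hNX n.2⟩ = θ 1) (n : N) : χ n = χ 1 := by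
  classical
  have hc := clifford_restrict (inferInstance : (commutator Γ).Normal) hχ hθ hcon
  have h1 := congrFun hc ⟨n, hNX n.2⟩
  have h2 := congrFun hc 1
  simp only [Pi.smul_apply, Finset.sum_apply, smul_eq_mul] at h1 h2
  have h3 : (χ (n : Γ)) = χ (((1 : commutator Γ)) : Γ) := by
    refine h1.trans (Eq.trans ?_ h2.symm)
    congr 1
    refine Finset.sum_congr rfl fun ψ hψ => ?_
    obtain ⟨g, rfl⟩ := (mem_orbitFinset _ θ ψ).mp hψ
    rw [conjOn_apply, conjOn_apply_one]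
    exact htriv ⟨g * n * g⁻¹, hNn.conj_mem n n.2 g⟩
  simpa using h3

variable (h : PS Γ p) (hNn : N.Normal) (hNg : N ≤ g2 Γ)
    (hNc : ∀ n ∈ N, ∀ x ∈ commutator Γ, x * n = n * x)
    (hU : Uq (hNg.trans g2_le))

include h hNg hNc hU in
/-- What each `μ ≠ 1` has. -/
theorem data_of_ne {μ : N →* ℂˣ} (hμ : μ ≠ 1) :
    ∃ θ : commutator Γ → ℂ, IsIrrCharacter (commutator Γ) θ ∧ Over (hNg.trans g2_le) θ μ ∧
      (∀ θ' : commutator Γ → ℂ, IsIrrCharacter (commutator Γ) θ' → Over (hNg.trans g2_le) θ' μ → θ' = θ) ∧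
      1 < charDegree θ ∧ charDegree θ ^ 2 = (N.subgroupOf (commutator Γ)).index ∧
      inertia (inferInstance : (commutator Γ).Normal) θ = Sb hNn μ ∧
      (Sb hNn μ).index * charDegree θ ∈ charDegrees Γ := by
  obtain ⟨θ, hθ, hO, huq⟩ := hU μ hμ
  have hin := inertia_eq hNn (hNg.trans g2_le) hθ hO huq
  refine ⟨θ, hθ, hO, huq, ?_, deg_sq (hNg.trans g2_le) hNc hθ hO huq, hin, ?_⟩
  · have h1 := PSLv3.nonlinear_of_over hNg hθ hμ hO
    have h2 := charDegree_pos hθ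
    have h3 : charDegree θ ≠ 1 := by
      intro h4
      apply h1
      have h5 : (charDegree θ : ℂ) = θ 1 := charDegree_natCast (isCharacter_of_isIrrCharacter hθ)
      rw [← h5, h4]
      simp
    omega
  · obtain ⟨χ, hχ, hov⟩ := Cfsg.Agent.Lib.Char.RelGraph.exists_over (G := Γ) (N := commutator Γ) hθ
    refine ⟨⟨χ, hχ⟩, ?_⟩
    have := PSBase.deg_of_over h hθ hχ hov
    rw [hin] at this
    exact this

include h hNg hNc hU in
theorem hacS {μ ν : N →* ℂˣ} (hν : ν ≠ 1) (hμ : μ ≠ 1)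
    (hdvd : (Sb hNn ν).index ∣ (Sb hNn μ).index) : (Sb hNn ν).index = (Sb hNn μ).index := by
  obtain ⟨θ₁, -, -, -, hd1, hs1, -, hm1⟩ := data_of_ne h hNn hNg hNc hU hν
  obtain ⟨θ₂, -, -, -, hd2, hs2, -, hm2⟩ := data_of_ne h hNn hNg hNc hU hμ
  have hD : charDegree θ₁ = charDegree θ₂ := by
    have : charDegree θ₁ ^ 2 = charDegree θ₂ ^ 2 := hs1.trans hs2.symm
    exact Nat.pow_left_injective (n := 2) (by omega) this
  rw [hD] at hm1
  set D := charDegree θ₂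
  have hpos1 : 0 < (Sb hNn ν).index := Nat.pos_of_ne_zero Subgroup.index_ne_zero_of_finite
  have hpos2 : 0 < (Sb hNn μ).index := Nat.pos_of_ne_zero Subgroup.index_ne_zero_of_finite
  have h1 : 1 < (Sb hNn ν).index * D := by nlinarith
  have hdv : (Sb hNn ν).index * D ∣ (Sb hNn μ).index * D := mul_dvd_mul_right hdvd D
  have hle : (Sb hNn ν).index * D ≤ (Sb hNn μ).index * D :=
    Nat.le_of_dvd (by positivity) hdv
  have hnot : ¬ (Sb hNn ν).index * D < (Sb hNn μ).index * D := fun hlt =>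
    h.nd _ hm1 _ hm2 h1 hlt hdv
  have heq : (Sb hNn ν).index * D = (Sb hNn μ).index * D := by omega
  exact Nat.eq_of_mul_eq_mul_right (by omega) heq

include hNc in
theorem X_le_Sb (hNX : N ≤ commutator Γ) (μ : N →* ℂˣ) : commutator Γ ≤ Sb hNn μ := by
  intro x hx
  apply mem_Sb_of_central
  intro n hn
  have := hNc n hn x hx
  rw [this]
  group

include hNc in
theorem index_stab (hNX : N ≤ commutator Γ) {Q : Subgroup Γ} (hQ : Cpl Q p) (μ : N →* ℂˣ) :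
    letI := actQ hNn Q
    (MulAction.stabilizer Q μ).index = (Sb hNn μ).index := by
  letI := actQ hNn Q
  have hXS := X_le_Sb hNn hNc hNX μ
  haveI hS : (Sb hNn μ).Normal := PSBase.normal_of_le hXS
  have h1 : MulAction.stabilizer Q μ = (Sb hNn μ).subgroupOf Q := by
    ext q
    rw [MulAction.mem_stabilizer_iff, Subgroup.mem_subgroupOf, ← Subgroup.inv_mem_iff, mem_Sb]
    rfl
  rw [h1]
  change (Sb hNn μ).relIndex Q = _
  rw [← Subgroup.relIndex_sup_right]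
  have h2 : Q ⊔ Sb hNn μ = ⊤ := by
    rw [eq_top_iff]
    intro g _
    obtain ⟨a, ha, q, hq, rfl⟩ := hQ.decomp g
    exact Subgroup.mul_mem _ (Subgroup.mem_sup_right (hXS ha)) (Subgroup.mem_sup_left hq)
  rw [h2, Subgroup.relIndex_top_right]

include h hNg hNc hU in
/-- An element of `Q` fixing one `ν ≠ 1` fixes all. -/
theorem all_of_one {Q : Subgroup Γ} (hQ : Cpl Q p) {q : Γ} (hq : q ∈ Q) {ν : N →* ℂˣ} (hν : ν ≠ 1)
    (hqν : q ∈ Sb hNn ν) (μ : N →* ℂˣ) : q ∈ Sb hNn μ := by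
  letI := actQ hNn Q
  haveI : Finite (N →* ℂˣ) := Cfsg.Agent.Lib.Char.GoingDown.finite_hom
  have hNX : N ≤ commutator Γ := hNg.trans g2_le
  have hac : ∀ ν μ : N →* ℂˣ, ν ≠ 1 → μ ≠ 1 →
      (MulAction.stabilizer Q ν).index ∣ (MulAction.stabilizer Q μ).index →
      (MulAction.stabilizer Q ν).index = (MulAction.stabilizer Q μ).index := by
    intro ν μ hν hμ hd
    rw [index_stab hNn hNc hNX hQ ν, index_stab hNn hNc hNX hQ μ] at hd ⊢
    exact hacS h hNn hNg hNc hU hν hμ hd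
  have hz : ∀ g : Q, g * ⟨q, hq⟩ = ⟨q, hq⟩ * g := fun g =>
    Subtype.ext (hQ.comm g g.2 q hq)
  have hfix : (⟨q, hq⟩ : Q) • ν = ν := by
    change conjHom hNn q⁻¹ ν = ν
    rw [← mem_Sb]
    exact Subgroup.inv_mem _ hqν
  have h2 := Cfsg.Agent.Lib.NDF.UniformFix.uniform_fix hac ⟨q, hq⟩ hz hν hfix μ
  have h3 : conjHom hNn q⁻¹ μ = μ := h2
  rw [← mem_Sb] at h3
  simpa using Subgroup.inv_mem _ h3

/-- An element fixing all homomorphisms centralises `N`. -/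
theorem triv_of_all (hNX : N ≤ commutator Γ) (hNc : ∀ n ∈ N, ∀ x ∈ commutator Γ, x * n = n * x)
    {q : Γ} (hall : ∀ μ : N →* ℂˣ, q ∈ Sb hNn μ) : ∀ n ∈ N, q * n * q⁻¹ * n⁻¹ = 1 := by
  intro n hn
  by_contra hne
  let m : N := ⟨q * n * q⁻¹, hNn.conj_mem n hn q⟩ * (⟨n, hn⟩ : N)⁻¹
  have hm : m ≠ 1 := fun h0 => hne (congrArg Subtype.val h0)
  obtain ⟨ν, hν⟩ := Cfsg.Agent.Lib.NoDiv.Q78.sep' (A := N)
    (fun a b => Subtype.ext (hNc b b.2 a (hNX a.2))) hm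
  apply hν
  have h1 := (mem_Sb hNn ν q).1 (hall ν)
  have h2 : ν ⟨q * n * q⁻¹, hNn.conj_mem n hn q⟩ = ν ⟨n, hn⟩ := by
    rw [← conjHom_apply hNn q ν ⟨n, hn⟩, h1]
  change ν (⟨q * n * q⁻¹, hNn.conj_mem n hn q⟩ * (⟨n, hn⟩ : N)⁻¹) = 1
  rw [map_mul, map_inv, h2, mul_inv_cancel]

/-- `a q` acts on `N` as `q`. -/
theorem conj_eq (hNn : N.Normal) (hNc : ∀ n ∈ N, ∀ x ∈ commutator Γ, x * n = n * x) {a q n : Γ}
    (ha : a ∈ commutator Γ) (hn : n ∈ N) : (a * q) * n * (a * q)⁻¹ = q * n * q⁻¹ := by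
  have h1 := hNc _ (hNn.conj_mem n hn q) a ha
  calc (a * q) * n * (a * q)⁻¹ = (a * (q * n * q⁻¹)) * a⁻¹ := by group
    _ = ((q * n * q⁻¹) * a) * a⁻¹ := by rw [h1]
    _ = q * n * q⁻¹ := by group

include h hNg hNc hU in
theorem Sb_eq {Q : Subgroup Γ} (hQ : Cpl Q p) {μ : N →* ℂˣ} (hμ : μ ≠ 1) : Sb hNn μ = Cen N ⊥ := by
  have hNX : N ≤ commutator Γ := hNg.trans g2_le
  apply le_antisymm
  · intro g hg
    obtain ⟨a, ha, q, hq, rfl⟩ := hQ.decomp g
    have hq' : q ∈ Sb hNn μ := by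
      have h1 := Subgroup.mul_mem _ (Subgroup.inv_mem _ (X_le_Sb hNn hNc hNX μ ha)) hg
      simpa using h1
    have hall := all_of_one h hNn hNg hNc hU hQ hq hμ hq'
    have htr := triv_of_all hNn hNX hNc hall
    rw [mem_Cen]
    intro n hn
    rw [conj_eq hNn hNc ha hn, Subgroup.mem_bot]
    exact htr n hn
  · intro g hg
    rw [mem_Cen] at hg
    apply mem_Sb_of_central
    intro n hn
    exact Subgroup.mem_bot.1 (hg n hn)

include h hNn hNg hNc hU in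
/-- The dichotomy. -/
theorem dich_N {Q : Subgroup Γ} (hQ : Cpl Q p) (x : Γ) :
    (∀ n ∈ N, x * n * x⁻¹ * n⁻¹ = 1) ∨ (∀ n ∈ N, x * n * x⁻¹ * n⁻¹ = 1 → n = 1) := by
  have hNX : N ≤ commutator Γ := hNg.trans g2_le
  obtain ⟨a, ha, q, hq, rfl⟩ := hQ.decomp x
  by_cases hfix : ∃ ν : N →* ℂˣ, ν ≠ 1 ∧ q ∈ Sb hNn ν
  · left
    obtain ⟨ν, hν, hqν⟩ := hfix
    have htr := triv_of_all hNn hNX hNc (all_of_one h hNn hNg hNc hU hQ hq hν hqν)
    intro n hn
    rw [conj_eq hNn hNc ha hn]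
    exact htr n hn
  · right
    push Not at hfix
    intro n hn hcomm
    rw [conj_eq hNn hNc ha hn] at hcomm
    have hfixn : q * n * q⁻¹ = n := mul_inv_eq_one.mp hcomm
    by_contra hn1
    have hn1' : (⟨n, hn⟩ : N) ≠ 1 := fun h0 => hn1 (congrArg Subtype.val h0)
    obtain ⟨ν, hν⟩ := Cfsg.Agent.Lib.NoDiv.Q78.sep' (A := N)
      (fun a b => Subtype.ext (hNc b b.2 a (hNX a.2))) hn1'
    haveI : Finite (N →* ℂˣ) := Cfsg.Agent.Lib.Char.GoingDown.finite_hom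
    let φ : (N →* ℂˣ) →* (N →* ℂˣ) :=
      { toFun := fun κ => conjHom hNn q κ * κ⁻¹
        map_one' := by
          ext m
          simp [conjHom_apply]
        map_mul' := fun κ κ' => by
          refine MonoidHom.ext fun m => ?_
          simp only [conjHom_mul, MonoidHom.mul_apply, MonoidHom.inv_apply]
          rw [mul_inv]
          exact mul_mul_mul_comm _ _ _ _ }
    have hinj : Function.Injective φ := by
      rw [injective_iff_map_eq_one]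
      intro κ hκ
      by_contra hκ1
      apply hfix κ hκ1
      rw [mem_Sb]
      exact mul_inv_eq_one.mp hκ
    obtain ⟨κ, hκ⟩ := (Finite.injective_iff_surjective.1 hinj) ν
    apply hν
    rw [← hκ]
    change (conjHom hNn q κ * κ⁻¹) ⟨n, hn⟩ = 1
    rw [MonoidHom.mul_apply, MonoidHom.inv_apply, conjHom_congr hNn κ (m := ⟨n, hn⟩) hfixn,
      mul_inv_cancel]

include h hNn hNg hNc hU in
/-- The degree of a character moved on `N`. -/
theorem deg_moved {Q : Subgroup Γ} (hQ : Cpl Q p) {χ : Γ → ℂ} (hχ : IsIrrCharacter Γ χ)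
    (hx : ∃ n ∈ N, χ n ≠ χ 1) :
    ∃ θ : commutator Γ → ℂ, ∃ μ : N →* ℂˣ, μ ≠ 1 ∧ IsIrrCharacter (commutator Γ) θ ∧
      Over (hNg.trans g2_le) θ μ ∧ charDegree χ = (Cen N ⊥).index * charDegree θ := by
  have hNX : N ≤ commutator Γ := hNg.trans g2_le
  have hres : IsCharacter (commutator Γ) (fun n : commutator Γ => χ n) :=
    isCharacter_restrict _ (isCharacter_of_isIrrCharacter hχ)
  have hne : (fun n : commutator Γ => χ n) ≠ 0 := by
    intro h0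
    have h1 := congrFun h0 1
    exact irr_one_ne_zero hχ (by simpa using h1)
  obtain ⟨θ, hθ, hc⟩ := exists_irr_constituent (isClassFunction_of_isCharacter hres) hne
  obtain ⟨μ, hO⟩ := exists_hom_over hNX hNc hθ
  have hμ : μ ≠ 1 := by
    rintro rfl
    obtain ⟨n, hn, hn1⟩ := hx
    apply hn1
    refine trivial_of_constituent hNn hNX hχ hθ hc (fun m => ?_) ⟨n, hn⟩
    have := hO m
    simpa using this
  obtain ⟨θ', hθ', hO', huq', -, -, hin, -⟩ := data_of_ne h hNn hNg hNc hU hμ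
  have he : θ = θ' := huq' θ hθ hO
  subst he
  refine ⟨θ, μ, hμ, hθ, hO, ?_⟩
  have h3 := PSBase.deg_of_over h hθ hχ hc
  rw [hin, Sb_eq h hNn hNg hNc hU hQ hμ] at h3
  exact h3

omit [Fintype (commutator Γ)] in
/-- A nontrivial `N` has a nontrivial homomorphism. -/
theorem exists_hom_ne_one (hNX : N ≤ commutator Γ) (hNc : ∀ n ∈ N, ∀ x ∈ commutator Γ, x * n = n * x)
    (hN1 : N ≠ ⊥) : ∃ μ : N →* ℂˣ, μ ≠ 1 := by
  obtain ⟨n₀, hn₀⟩ := (Subgroup.ne_bot_iff_exists_ne_one).1 hN1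
  obtain ⟨ν, hν⟩ := Cfsg.Agent.Lib.NoDiv.Q78.sep' (A := N)
    (fun a b => Subtype.ext (hNc b b.2 a (hNX a.2))) hn₀
  exact ⟨ν, fun h0 => hν (by rw [h0]; rfl)⟩

/-- (P8) The consequences of uniqueness at a level: dichotomy, constant degree, export. -/
theorem level (h : PS Γ p) {N : Subgroup Γ} (hNn : N.Normal) (hNg : N ≤ g2 Γ)
    (hNc : ∀ n ∈ N, ∀ x ∈ commutator Γ, x * n = n * x)
    (hU : Uq (hNg.trans g2_le)) :
    (∀ x : Γ, (∀ n ∈ N, x * n * x⁻¹ * n⁻¹ = 1) ∨ (∀ n ∈ N, x * n * x⁻¹ * n⁻¹ = 1 → n = 1)) ∧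
    (∃ D : ℕ, (N ≠ ⊥ → D ^ 2 = (N.subgroupOf (commutator Γ)).index) ∧
      (N ≠ ⊥ → ((Cen N ⊥).index * D) ∈ charDegrees Γ) ∧
      ∀ χ : Γ → ℂ, IsIrrCharacter Γ χ → (∃ n ∈ N, χ n ≠ χ 1) →
        charDegree χ = (Cen N ⊥).index * D) ∧
    (N ≠ ⊥ → ∃ y, y ∉ H0 Γ ∧ ∀ n ∈ N, y * n * y⁻¹ * n⁻¹ = 1) := by
  have hNX : N ≤ commutator Γ := hNg.trans g2_le
  obtain ⟨Q, hQ⟩ := PSBase.exists_cpl h
  refine ⟨dich_N h hNn hNg hNc hU hQ, ?_, ?_⟩
  · by_cases hN1 : N = ⊥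
    · refine ⟨1, fun h0 => absurd hN1 h0, fun h0 => absurd hN1 h0, ?_⟩
      rintro χ - ⟨n, hn, hn1⟩
      subst hN1
      rw [Subgroup.mem_bot] at hn
      subst hn
      exact absurd rfl hn1
    · obtain ⟨μ₀, hμ₀⟩ := exists_hom_ne_one hNX hNc hN1
      obtain ⟨θ₀, -, -, -, -, hs, -, hm⟩ := data_of_ne h hNn hNg hNc hU hμ₀
      refine ⟨charDegree θ₀, fun _ => hs, fun _ => ?_, ?_⟩
      · rwa [Sb_eq h hNn hNg hNc hU hQ hμ₀] at hm
      · intro χ hχ hx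
        obtain ⟨θ, μ, hμ, hθ, hO, hdeg⟩ := deg_moved h hNn hNg hNc hU hQ hχ hx
        obtain ⟨θ', -, -, huq', hd', hs', -, -⟩ := data_of_ne h hNn hNg hNc hU hμ
        have he : θ = θ' := huq' θ hθ hO
        subst he
        have hD : charDegree θ = charDegree θ₀ :=
          Nat.pow_left_injective (n := 2) (by omega) (hs'.trans hs.symm)
        rw [hdeg, hD]
  · intro hN1
    obtain ⟨μ₀, hμ₀⟩ := exists_hom_ne_one hNX hNc hN1
    obtain ⟨θ₀, hθ₀, hO₀, -, -, -, hin, -⟩ := data_of_ne h hNn hNg hNc hU hμ₀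
    obtain ⟨y, hy, hfix⟩ := PSBase.exists_fixer h hθ₀ (PSLv3.nonlinear_of_over hNg hθ₀ hμ₀ hO₀)
    refine ⟨y, hy, fun n hn => ?_⟩
    have h1 : y ∈ Sb hNn μ₀ := by
      rw [← hin]
      exact hfix
    rw [Sb_eq h hNn hNg hNc hU hQ hμ₀, mem_Cen] at h1
    exact Subgroup.mem_bot.1 (h1 n hn)

end Fin

end Cfsg.Agent.Lib.NDF.PSLevel

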