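import Cfsg.Agent.Lib.NDF.PSGen
import Cfsg.Agent.Lib.NDF.PSP2
import Cfsg.Agent.Lib.NDF.PSLv3

/-! # S4780, block P: level 3 in general (P14), from the level with central top -/

set_option autoImplicit false
set_option linter.unusedSectionVars false

namespace Cfsg.Agent.Lib.NDF.PSLv3Gen

open Cfsg Cfsg.Agent.Lib.NoDiv.Defs Cfsg.Agent.Lib.NDF.Defs Cfsg.Agent.Lib.NDF.PSDefs
open Cfsg.Agent.Lib.Char.Basic Cfsg.Agent.Lib.Char.Conj Cfsg.Agent.Lib.Char.CliffordCorr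
open Cfsg.Agent.Lib.Char.Linear Cfsg.Agent.Lib.Char.Degree Cfsg.Agent.Lib.Char.Ortho
open Cfsg.Agent.Lib.NoDiv.Deep1 Cfsg.Agent.Lib.NDF.PSBase Cfsg.Agent.Lib.NDF.PSGen
open Cfsg.Agent.Lib.NDF.PSP2 (p2_of_uq)

universe u

variable {Γ : Type u} [Group Γ] {p : ℕ}

/-- (P14) Level 3 in general. -/
theorem lv3_gen [Finite Γ] (h : PS Γ p) :
    (∀ x : Γ, x ∈ Cen (g3 Γ) (g4 Γ) ∨ (∀ e ∈ g3 Γ, x * e * x⁻¹ * e⁻¹ ∈ g4 Γ → e ∈ g4 Γ)) ∧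
    (∃ D : ℕ, (g3 Γ ≠ g4 Γ → ((Cen (g3 Γ) (g4 Γ)).index * D) ∈ charDegrees Γ) ∧
      ∀ χ : Γ → ℂ, IsIrrCharacter Γ χ → (∀ f ∈ g4 Γ, χ f = χ 1) → (∃ e ∈ g3 Γ, χ e ≠ χ 1) →
        charDegree χ = (Cen (g3 Γ) (g4 Γ)).index * D) ∧
    (g3 Γ ≠ g4 Γ → ∃ y, y ∉ H0 Γ ∧ y ∈ Cen (g3 Γ) (g4 Γ)) ∧
    (∀ e ∈ g2 Γ, e ∉ g3 Γ → ∀ f ∈ g3 Γ, ∃ a ∈ commutator Γ, (e * a * e⁻¹ * a⁻¹) * f⁻¹ ∈ g4 Γ) := by
  classical
  letI : Fintype (Γ ⧸ g4 Γ) := Fintype.ofFinite _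
  letI : Fintype (commutator (Γ ⧸ g4 Γ)) := Fintype.ofFinite _
  have hg4g2 : g4 Γ ≤ g2 Γ := g4_le.trans g3_le
  have hh : PS (Γ ⧸ g4 Γ) p := PS.quot h hg4g2
  have hmap4 : g4 (Γ ⧸ g4 Γ) = ⊥ := by
    rw [← map_g4, eq_bot_iff]
    rintro _ ⟨a, ha, rfl⟩
    rw [Subgroup.mem_bot, ← MonoidHom.mem_ker, QuotientGroup.ker_mk']
    exact ha
  have hU0 := Cfsg.Agent.Lib.NDF.PSLv3.lv3_of_dich hh hmap4 (lv2_gen hh).1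
  have hP2 := p2_of_uq hh hmap4 hU0
  obtain ⟨a1, ⟨D, -, hD1, hD2⟩, a3⟩ := gen h (K := g4 Γ) (A := g3 Γ) g4_le g3_le
    (fun n hn x hx => Subgroup.commutator_mem_commutator hn hx) (by
      intro N hNX hN
      rw [map_g3] at hN
      subst hN
      exact hU0)
  refine ⟨a1, ⟨D, hD1, hD2⟩, a3, ?_⟩
  intro e he he3 f hf
  let π := QuotientGroup.mk' (g4 Γ)
  have hπ : Function.Surjective π := QuotientGroup.mk'_surjective _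
  have hmem2 : π e ∈ g2 (Γ ⧸ g4 Γ) := by
    rw [← map_g2]
    exact ⟨e, he, rfl⟩
  have hmem3 : π e ∉ g3 (Γ ⧸ g4 Γ) := by
    rw [← map_g3]
    rw [mk_mem_map g4_le]
    exact he3
  have hmemf : π f ∈ g3 (Γ ⧸ g4 Γ) := by
    rw [← map_g3]
    exact ⟨f, hf, rfl⟩
  obtain ⟨a, ha, hae⟩ := hP2 _ hmem2 hmem3 _ hmemf
  obtain ⟨a₀, rfl⟩ := hπ a
  have hXmap : (commutator Γ).map π = commutator (Γ ⧸ g4 Γ) := map_commutator_mk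
  refine ⟨a₀, ?_, ?_⟩
  · rw [← hXmap] at ha
    exact (mk_mem_map (hg4g2.trans g2_le) a₀).1 ha
  · rw [← QuotientGroup.ker_mk' (g4 Γ), MonoidHom.mem_ker]
    simp only [map_mul, map_inv]
    change π e * π a₀ * (π e)⁻¹ * (π a₀)⁻¹ * (π f)⁻¹ = 1
    rw [hae, mul_inv_cancel]

end Cfsg.Agent.Lib.NDF.PSLv3Gen
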