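import Cfsg.Agent.Lib.NDF.PSDefs
import Cfsg.Agent.Lib.NDF.UniqueOver
import Cfsg.Agent.Lib.NDF.DeltaTrivial
import Cfsg.Agent.Lib.NDF.Grp4
import Cfsg.Agent.Lib.NoDiv.Main
import Cfsg.Agent.Lib.Coprime.Action

/-!
# S4780, (P17), the core: level 4 is trivial.
-/

set_option autoImplicit false
set_option linter.unusedSectionVars false
set_option linter.style.haveILetI false

namespace Cfsg.Agent.Lib.NDF.PSLv4Core

open Cfsg Cfsg.Agent.Lib.NoDiv.Defs Cfsg.Agent.Lib.NDF.Defs Cfsg.Agent.Lib.NDF.PSDefs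
open Cfsg.Agent.Lib.Char.Basic Cfsg.Agent.Lib.Char.Conj Cfsg.Agent.Lib.Char.CliffordCorr
open Cfsg.Agent.Lib.Char.Clifford
open Cfsg.Agent.Lib.Char.Linear Cfsg.Agent.Lib.Char.Degree Cfsg.Agent.Lib.Char.Ortho
open Cfsg.Agent.Lib.Char.Induced Cfsg.Agent.Lib.Char.Complete Cfsg.Agent.Lib.NoDiv.XLemma
open Cfsg.Agent.Lib.NDF.Grp4
open scoped commutatorElement

universe u

variable {Γ : Type u} [Group Γ] {p : ℕ}

/-! ### Commutators in the lower central series -/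

theorem comm_eq (a b : Γ) : ⁅a, b⁆ = a * b * a⁻¹ * b⁻¹ := rfl

theorem comm_of_bot {a b : Γ} {K : Subgroup Γ} (hK : K = ⊥) (h : ⁅a, b⁆ ∈ K) : a * b = b * a := by
  rw [hK, Subgroup.mem_bot] at h
  exact commutatorElement_eq_one_iff_mul_comm.1 h

theorem g4_central (h5 : g5 Γ = ⊥) {n x : Γ} (hn : n ∈ g4 Γ) (hx : x ∈ commutator Γ) : x * n = n * x :=
  (comm_of_bot h5 (Subgroup.commutator_mem_commutator hn hx)).symm

theorem g3_comm_g2_mem {c e : Γ} (hc : c ∈ g3 Γ) (he : e ∈ g2 Γ) : ⁅e, c⁆ ∈ g5 Γ := by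
  have hle : (⁅⁅commutator Γ, commutator Γ⁆, g3 Γ⁆ : Subgroup Γ) ≤ g5 Γ := by
    apply Cfsg.Agent.Lib.FGS.Comm.three_le
    · rw [Subgroup.commutator_comm (commutator Γ) (g3 Γ)]
      exact le_rfl
    · exact le_rfl
  exact hle (Subgroup.commutator_mem_commutator he hc)

theorem g3_g2_comm (h5 : g5 Γ = ⊥) {c e : Γ} (hc : c ∈ g3 Γ) (he : e ∈ g2 Γ) : e * c = c * e :=
  comm_of_bot h5 (g3_comm_g2_mem hc he)

theorem g2_g2_mem {e e' : Γ} (he : e ∈ g2 Γ) (he' : e' ∈ g2 Γ) : e * e' * e⁻¹ * e'⁻¹ ∈ g4 Γ := by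
  have hle : (⁅⁅commutator Γ, commutator Γ⁆, g2 Γ⁆ : Subgroup Γ) ≤ g4 Γ := by
    apply Cfsg.Agent.Lib.FGS.Comm.three_le
    · rw [Subgroup.commutator_comm (commutator Γ) (g2 Γ)]
      exact le_rfl
    · exact le_rfl
  exact hle (Subgroup.commutator_mem_commutator he he')

/-! ### The exponent of `γ₄` -/

theorem exp_g4 [Finite Γ] (h : PS Γ p) (h5 : g5 Γ = ⊥) : ∀ n ∈ g4 Γ, n ^ p = 1 := by
  classical
  let X : Subgroup Γ := commutator Γ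
  let ι : X →* Γ := X.subtype
  have hι : Function.Injective ι := Subtype.val_injective
  have h1 : (⊤ : Subgroup X).map ι = X := by
    change (⊤ : Subgroup X).map X.subtype = X
    rw [← MonoidHom.range_eq_map, Subgroup.range_subtype]
  have e2 : (c2 X).map ι = g2 Γ := by
    rw [Subgroup.map_commutator, h1]
    rfl
  have e3 : (c3 X).map ι = g3 Γ := by
    rw [Subgroup.map_commutator, e2, h1]
    rfl
  have e4 : (c4 X).map ι = g4 Γ := by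
    rw [Subgroup.map_commutator, e3, h1]
    rfl
  have e5 : (c5 X).map ι = g5 Γ := by
    rw [Subgroup.map_commutator, e4, h1]
    rfl
  haveI fH : Fact (Hel p X) := ⟨fun a => by
    have := h.el a a.2
    rw [← e2] at this
    obtain ⟨b, hb, hbe⟩ := this
    have : b = a ^ p := hι (by rw [hbe]; simp [ι])
    rw [← this]
    exact hb⟩
  haveI f5 : Fact (c5 X ≤ c5 X) := ⟨le_rfl⟩
  have hE : ∀ x : Sec (c4 X) (c5 X), p • x = 0 :=
    exp_step (U₁ := c3 X) (V₁ := c4 X) expC (fun u hu g => comm_swap (mem5 hu g))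
  intro n hn
  rw [← e4] at hn
  obtain ⟨m, hm, rfl⟩ := hn
  have h2 : p • (mk m hm : Sec (c4 X) (c5 X)) = 0 := hE _
  rw [← mk_pow m hm p (pow_mem hm p), mk_eq_zero] at h2
  have h3 : ι (m ^ p) ∈ g5 Γ := by
    rw [← e5]
    exact ⟨_, h2, rfl⟩
  rw [h5, Subgroup.mem_bot] at h3
  rw [← map_pow]
  exact h3

/-! ### Camina at `γ₄` -/

theorem camina_g4 [Fintype Γ] [Fintype (commutator Γ)] (h5 : g5 Γ = ⊥)
    (hU : Uq ((g4_le.trans (g3_le.trans g2_le)) : g4 Γ ≤ commutator Γ)) :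
    ∀ x ∈ commutator Γ, x ∉ g4 Γ → ∀ n ∈ g4 Γ, ∃ b ∈ commutator Γ, b * x * b⁻¹ = x * n := by
  classical
  have hNX : g4 Γ ≤ commutator Γ := g4_le.trans (g3_le.trans g2_le)
  let N' : Subgroup (commutator Γ) := (g4 Γ).subgroupOf (commutator Γ)
  have hmem : ∀ m : commutator Γ, m ∈ N' ↔ (m : Γ) ∈ g4 Γ := fun m => Subgroup.mem_subgroupOf
  letI : Fintype N' := Fintype.ofFinite _
  have hNn : N'.Normal := Subgroup.Normal.subgroupOf inferInstance _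
  have hNc : ∀ m ∈ N', ∀ x : commutator Γ, x * m = m * x := by
    intro m hm x
    exact Subtype.ext (g4_central h5 ((hmem m).1 hm) x.2)
  have hNc' : ∀ m ∈ N', ∀ t : commutator Γ, t * m * t⁻¹ = m := by
    intro m hm t
    rw [hNc m hm t]
    group
  intro x hx hxn n hn
  let x' : commutator Γ := ⟨x, hx⟩
  let n' : commutator Γ := ⟨n, hNX hn⟩
  have hn' : n' ∈ N' := (hmem _).2 hn
  have hx' : x' ∉ N' := fun hc => hxn ((hmem _).1 hc)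
  have hxn' : x' * n' ∉ N' := by
    intro hc
    apply hx'
    have : x' = (x' * n') * n'⁻¹ := by group
    rw [this]
    exact N'.mul_mem hc (N'.inv_mem hn')
  have key : IsConj x' (x' * n') := by
    refine (isConj_iff_forall_irr x' (x' * n')).2 (fun χ => ?_)
    have hres : IsCharacter N' (fun m : N' => (χ : commutator Γ → ℂ) m) :=
      isCharacter_restrict N' (isCharacter_of_isIrrCharacter χ.2)
    have hne0 : (fun m : N' => (χ : commutator Γ → ℂ) m) ≠ 0 := by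
      intro h0
      have h1 := congrFun h0 1
      exact irr_one_ne_zero χ.2 (by simpa using h1)
    obtain ⟨φ, hφ, hcφ⟩ := exists_irr_constituent (isClassFunction_of_isCharacter hres) hne0
    have hφ1 : φ 1 = 1 := by
      apply isIrr_deg_one_of_comm _ hφ
      intro a b
      exact Subtype.ext (hNc a a.2 b).symm
    obtain ⟨lam, rfl⟩ := exists_hom_of_deg_one (isCharacter_of_isIrrCharacter hφ) hφ1
    have hv := Cfsg.Agent.Lib.NoDiv.Q78.restrict_central hNn hNc' χ.2 hcφ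
    by_cases hl : lam = 1
    · -- trivial on `γ₄`
      have hn1 : (χ : commutator Γ → ℂ) n' = (χ : commutator Γ → ℂ) 1 := by
        have := hv ⟨n', hn'⟩
        rw [hl] at this
        simpa using this
      obtain ⟨χ, d, ρ, hρ, rfl⟩ := χ
      have hρ1 : ρ n' = 1 := (character_eq_one_iff ρ n').1 hn1
      show ρ.character x' = ρ.character (x' * n')
      simp only [Representation.character, map_mul, hρ1, mul_one]
    · -- the unique character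
      let toN : g4 Γ →* N' :=
        { toFun := fun m => ⟨⟨m, hNX m.2⟩, (hmem _).2 m.2⟩
          map_one' := rfl
          map_mul' := fun _ _ => rfl }
      let μ : g4 Γ →* ℂˣ := lam.comp toN
      have hsurj : ∀ m : N', ∃ m' : g4 Γ, toN m' = m := by
        intro m
        exact ⟨⟨m, (hmem _).1 m.2⟩, rfl⟩
      have hμ : μ ≠ 1 := by
        intro h0
        apply hl
        ext m
        obtain ⟨m', rfl⟩ := hsurj m
        have := congrArg (fun f : g4 Γ →* ℂˣ => ((f m' : ℂˣ) : ℂ)) h0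
        simpa [μ] using this
      obtain ⟨θ, hθ, hθo, hθu⟩ := hU μ hμ
      have hOver : ∀ ξ : commutator Γ → ℂ, (∀ m : N', ξ m = ξ 1 * lam m) → Over hNX ξ μ := by
        intro ξ hξ m
        have := hξ (toN m)
        rw [mul_comm]
        exact this
      have hχθ : (χ : commutator Γ → ℂ) = θ := hθu _ χ.2 (hOver _ hv)
      have hvan := (Cfsg.Agent.Lib.NDF.UniqueOver.unique_over hNc lam ⟨θ, hθ⟩
        (by
          intro m
          obtain ⟨m', rfl⟩ := hsurj m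
          exact hθo m')
        (by
          intro ξ hξ
          apply Subtype.ext
          refine hθu _ ξ.2 ?_
          intro m
          exact hξ (toN m))).2
      rw [hχθ]
      exact (hvan _ hx').trans (hvan _ hxn').symm
  obtain ⟨c, hc⟩ := isConj_iff.1 key
  exact ⟨c, c.2, congrArg Subtype.val hc⟩

/-! ### The index of a kernel -/

theorem relIndex_ker [Finite Γ] (hp : p.Prime) {N : Subgroup Γ} (hexp : ∀ n ∈ N, n ^ p = 1) (μ : N →* ℂˣ)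
    (hμ : μ ≠ 1) : ((μ.ker).map N.subtype).relIndex N = p := by
  classical
  have e1 : ((μ.ker).map N.subtype).relIndex N = (μ.ker).index := by
    show (((μ.ker).map N.subtype).comap N.subtype).index = _
    rw [Subgroup.comap_map_eq_self_of_injective N.subtype_injective]
  rw [e1, Subgroup.index_ker]
  haveI : Finite μ.range := Finite.of_surjective μ.rangeRestrict μ.rangeRestrict_surjective
  haveI : IsCyclic μ.range :=
    isCyclic_of_subgroup_isDomain ((Units.coeHom ℂ).comp μ.range.subtype)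
      (fun a b hab => Subtype.ext (Units.ext hab))
  obtain ⟨g, hg⟩ := IsCyclic.exists_generator (α := μ.range)
  rw [← orderOf_eq_card_of_forall_mem_zpowers hg]
  have hg1 : g ^ p = 1 := by
    obtain ⟨_, n, rfl⟩ := g
    apply Subtype.ext
    show (μ n) ^ p = 1
    rw [← map_pow]
    have : n ^ p = 1 := Subtype.ext (by simpa using hexp n n.2)
    rw [this, map_one]
  rcases (Nat.dvd_prime hp).1 (orderOf_dvd_of_pow_eq_one hg1) with h1 | h1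
  · exfalso
    apply hμ
    ext n
    have hgone : g = 1 := orderOf_eq_one_iff.1 h1
    have hm : (⟨μ n, n, rfl⟩ : μ.range) ∈ Subgroup.zpowers g := hg _
    rw [hgone, Subgroup.zpowers_one_eq_bot, Subgroup.mem_bot] at hm
    have := congrArg (fun u : μ.range => ((u : ℂˣ) : ℂ)) hm
    simpa using this
  · exact h1

/-! ### A character fixed by a coprime element -/

theorem exists_fixed_mu [Finite Γ] (h : PS Γ p) (h5 : g5 Γ = ⊥) {q : Γ} (hqc : Nat.Coprime (orderOf q) p)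
    {e₀ : Γ} (he₀ : e₀ ∈ g4 Γ) (he₀1 : e₀ ≠ 1) (hfix : q * e₀ * q⁻¹ = e₀) :
    ∃ μ : g4 Γ →* ℂˣ, μ ≠ 1 ∧ ∀ n : g4 Γ, μ (MulAut.conjNormal q n) = μ n := by
  classical
  have hNX : g4 Γ ≤ commutator Γ := g4_le.trans (g3_le.trans g2_le)
  have hcomm : ∀ a b : g4 Γ, a * b = b * a := by
    intro a b
    exact Subtype.ext (g4_central h5 b.2 (hNX a.2))
  let e₀' : g4 Γ := ⟨e₀, he₀⟩
  have he₀' : e₀' ≠ 1 := fun h0 => he₀1 (congrArg Subtype.val h0)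
  obtain ⟨ν, hν⟩ := Cfsg.Agent.Lib.NoDiv.Q78.sep' hcomm he₀'
  let o := orderOf q
  have ho : q ^ o = 1 := pow_orderOf_eq_one q
  let f : ℕ → (g4 Γ →* ℂˣ) := fun i => ν.comp (MulAut.conjNormal (q ^ i)).toMonoidHom
  let μ : g4 Γ →* ℂˣ := ∏ i ∈ Finset.range o, f i
  have hμapp : ∀ n, μ n = ∏ i ∈ Finset.range o, f i n := fun n => by
    simp [μ, MonoidHom.finset_prod_apply]
  have hfe : ∀ i, MulAut.conjNormal (q ^ i) e₀' = e₀' := by
    intro i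
    apply Subtype.ext
    rw [MulAut.conjNormal_apply]
    induction i with
    | zero => simp [e₀']
    | succ k ih =>
      have : q ^ (k + 1) * (e₀' : Γ) * (q ^ (k + 1))⁻¹ = q ^ k * (q * e₀ * q⁻¹) * (q ^ k)⁻¹ := by
        simp only [e₀', pow_succ]
        group
      rw [this, hfix]
      exact ih
  refine ⟨μ, ?_, ?_⟩
  · intro h0
    have h1 : μ e₀' = ν e₀' ^ o := by
      rw [hμapp]
      have : ∀ i ∈ Finset.range o, f i e₀' = ν e₀' := by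
        intro i _
        show ν (MulAut.conjNormal (q ^ i) e₀') = _
        rw [hfe]
      rw [Finset.prod_congr rfl this, Finset.prod_const, Finset.card_range]
    have h2 : ν e₀' ^ o = 1 := by
      rw [← h1, h0]
      rfl
    have h3 : ν e₀' ^ p = 1 := by
      rw [← map_pow]
      have : e₀' ^ p = 1 := Subtype.ext (by simpa [e₀'] using exp_g4 h h5 e₀ he₀)
      rw [this, map_one]
    have h4 := pow_gcd_eq_one.2 ⟨h2, h3⟩
    rw [Nat.Coprime.gcd_eq_one hqc, pow_one] at h4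
    exact hν h4
  · intro n
    rw [hμapp, hμapp]
    have hshift : ∀ i, f i (MulAut.conjNormal q n) = f (i + 1) n := by
      intro i
      show ν (MulAut.conjNormal (q ^ i) (MulAut.conjNormal q n)) = ν (MulAut.conjNormal (q ^ (i + 1)) n)
      rw [pow_succ, map_mul]
      rfl
    have hf0 : f o n = f 0 n := by
      show ν (MulAut.conjNormal (q ^ o) n) = ν (MulAut.conjNormal (q ^ 0) n)
      rw [ho, pow_zero]
    have h1 := Finset.prod_range_succ (fun i => f i n) o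
    have h2 := Finset.prod_range_succ' (fun i => f i n) o
    simp only [hshift]
    have h3 : (∏ i ∈ Finset.range o, f (i + 1) n) * f o n = (∏ i ∈ Finset.range o, f i n) * f o n := by
      rw [hf0]
      rw [h1, hf0] at h2
      exact h2.symm
    exact mul_right_cancel h3

/-! ### The right alternative -/

/-- `[c₁ e₁, c₂ e₂] = [e₁, e₂]` for commuting `c₁, c₂`. -/
theorem comm_central_mul {G : Type*} [Group G] {c₁ c₂ e₁ e₂ : G} (h1 : e₁ * c₁ = c₁ * e₁) (h2 : e₂ * c₁ = c₁ * e₂)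
    (h3 : e₁ * c₂ = c₂ * e₁) (h4 : e₂ * c₂ = c₂ * e₂) (h5 : c₁ * c₂ = c₂ * c₁) :
    (c₁ * e₁) * (c₂ * e₂) * (c₁ * e₁)⁻¹ * (c₂ * e₂)⁻¹ = e₁ * e₂ * e₁⁻¹ * e₂⁻¹ := by
  have a1 : (c₁ * e₁) * (c₂ * e₂) = (c₁ * c₂) * (e₁ * e₂) := by
    calc (c₁ * e₁) * (c₂ * e₂) = c₁ * (e₁ * c₂) * e₂ := by group
      _ = c₁ * (c₂ * e₁) * e₂ := by rw [h3]
      _ = _ := by group
  have a2 : (c₂ * e₂) * (c₁ * e₁) = (c₁ * c₂) * (e₂ * e₁) := by
    calc (c₂ * e₂) * (c₁ * e₁) = c₂ * (e₂ * c₁) * e₁ := by group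
      _ = c₂ * (c₁ * e₂) * e₁ := by rw [h2]
      _ = (c₂ * c₁) * (e₂ * e₁) := by group
      _ = _ := by rw [h5]
  have a3 : (c₁ * e₁) * (c₂ * e₂) * (c₁ * e₁)⁻¹ * (c₂ * e₂)⁻¹ =
      ((c₁ * e₁) * (c₂ * e₂)) * ((c₂ * e₂) * (c₁ * e₁))⁻¹ := by group
  rw [a3, a1, a2]
  -- `c₁ c₂` commutes with `e₁, e₂`
  have b1 : (c₁ * c₂) * e₁ = e₁ * (c₁ * c₂) := by
    calc (c₁ * c₂) * e₁ = c₁ * (c₂ * e₁) := by group
      _ = c₁ * (e₁ * c₂) := by rw [h3]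
      _ = (c₁ * e₁) * c₂ := by group
      _ = (e₁ * c₁) * c₂ := by rw [h1]
      _ = _ := by group
  have b2 : (c₁ * c₂) * e₂ = e₂ * (c₁ * c₂) := by
    calc (c₁ * c₂) * e₂ = c₁ * (c₂ * e₂) := by group
      _ = c₁ * (e₂ * c₂) := by rw [h4]
      _ = (c₁ * e₂) * c₂ := by group
      _ = (e₂ * c₁) * c₂ := by rw [h2]
      _ = _ := by group
  set d := c₁ * c₂ with hd
  have b3 : d * (e₁ * e₂) = (e₁ * e₂) * d := by
    calc d * (e₁ * e₂) = (d * e₁) * e₂ := by group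
      _ = (e₁ * d) * e₂ := by rw [b1]
      _ = e₁ * (d * e₂) := by group
      _ = e₁ * (e₂ * d) := by rw [b2]
      _ = _ := by group
  have b4 : d * (e₂ * e₁) = (e₂ * e₁) * d := by
    calc d * (e₂ * e₁) = (d * e₂) * e₁ := by group
      _ = (e₂ * d) * e₁ := by rw [b2]
      _ = e₂ * (d * e₁) := by group
      _ = e₂ * (e₁ * d) := by rw [b1]
      _ = _ := by group
  have b5 : (e₂ * e₁)⁻¹ * d⁻¹ = d⁻¹ * (e₂ * e₁)⁻¹ := by
    rw [← mul_inv_rev, ← mul_inv_rev, b4]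
  calc d * (e₁ * e₂) * (d * (e₂ * e₁))⁻¹ = d * (e₁ * e₂) * ((e₂ * e₁)⁻¹ * d⁻¹) := by group
    _ = d * (e₁ * e₂) * (d⁻¹ * (e₂ * e₁)⁻¹) := by rw [b5]
    _ = (d * (e₁ * e₂)) * d⁻¹ * (e₂ * e₁)⁻¹ := by group
    _ = ((e₁ * e₂) * d) * d⁻¹ * (e₂ * e₁)⁻¹ := by rw [b3]
    _ = _ := by group

/-- An element trivial on `γ₂ / γ₃` fixes the commutators of `γ₂`. -/
theorem fix_comm (h5 : g5 Γ = ⊥) {q e₁ e₂ : Γ} (hq : q ∈ Cen (g2 Γ) (g3 Γ)) (h1 : e₁ ∈ g2 Γ) (h2 : e₂ ∈ g2 Γ) :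
    q * (e₁ * e₂ * e₁⁻¹ * e₂⁻¹) * q⁻¹ = e₁ * e₂ * e₁⁻¹ * e₂⁻¹ := by
  have c1 := mem_Cen.1 hq e₁ h1
  have c2 := mem_Cen.1 hq e₂ h2
  set a := q * e₁ * q⁻¹ * e₁⁻¹ with ha
  set b := q * e₂ * q⁻¹ * e₂⁻¹ with hb
  have f1 : q * e₁ * q⁻¹ = a * e₁ := by rw [ha]; group
  have f2 : q * e₂ * q⁻¹ = b * e₂ := by rw [hb]; group
  have e : q * (e₁ * e₂ * e₁⁻¹ * e₂⁻¹) * q⁻¹ =
      (q * e₁ * q⁻¹) * (q * e₂ * q⁻¹) * (q * e₁ * q⁻¹)⁻¹ * (q * e₂ * q⁻¹)⁻¹ := by group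
  rw [e, f1, f2]
  exact comm_central_mul (g3_g2_comm h5 c1 h1) (g3_g2_comm h5 c1 h2) (g3_g2_comm h5 c2 h1)
    (g3_g2_comm h5 c2 h2) (g3_g2_comm h5 c2 (g3_le c1))

/-- The right alternative of `hnd` of `grp4`. -/
theorem right_alt [Finite Γ] (h : PS Γ p) (h5 : g5 Γ = ⊥)
    (hcam : ∀ x ∈ commutator Γ, x ∉ g4 Γ → ∀ n ∈ g4 Γ, ∃ b ∈ commutator Γ, b * x * b⁻¹ = x * n)
    {q : Γ} (hqc : Nat.Coprime (orderOf q) p) (hq0 : q ∉ H0 Γ) (hqT : q ∈ Cen (g2 Γ) (g3 Γ))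
    (μ : g4 Γ →* ℂˣ) (hμ : μ ≠ 1) (hfix : ∀ n : g4 Γ, μ (MulAut.conjNormal q n) = μ n)
    {e : Γ} (he : e ∈ g2 Γ) (he3 : e ∉ g3 Γ)
    (hall : ∀ e' (he' : e' ∈ g2 Γ), μ ⟨e * e' * e⁻¹ * e'⁻¹, g2_g2_mem he he'⟩ = 1) : False := by
  classical
  haveI : Fact p.Prime := ⟨h.hp⟩
  have hp2 : IsPGroup p (g2 Γ) := h.hX.to_le g2_le
  have hfixA : ∀ a ∈ Subgroup.zpowers q, e⁻¹ * a * e * a⁻¹ ∈ g3 Γ := by
    intro a ha
    have haC : a ∈ Cen (g2 Γ) (g3 Γ) := (Subgroup.zpowers_le.2 hqT) ha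
    have h1 := mem_Cen.1 haC e he
    have e1 : e⁻¹ * a * e * a⁻¹ = e⁻¹ * (a * e * a⁻¹ * e⁻¹) * e⁻¹⁻¹ := by group
    rw [e1]
    exact (inferInstance : (g3 Γ).Normal).conj_mem _ h1 e⁻¹
  have hcop : (Nat.card (Subgroup.zpowers q)).Coprime (Nat.card (g2 Γ)) := by
    obtain ⟨n, hn⟩ := IsPGroup.iff_card.mp hp2
    rw [Nat.card_zpowers, hn]
    exact Nat.Coprime.pow_right n hqc
  have hsolv : Group.IsSolvable (g2 Γ) := by
    haveI := hp2.isNilpotent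
    infer_instance
  obtain ⟨c, hc, hr⟩ := Cfsg.Agent.Lib.Coprime.Action.exists_fixed_in_coset (A := Subgroup.zpowers q)
    (K := g2 Γ) (g3 Γ) (le_norm _ _) hcop (Or.inr hsolv) g3_le (le_norm _ _) he hfixA
  set r := e * c with hrdef
  have hr2 : r ∈ g2 Γ := hr.1
  have hrq : q * r = r * q := Subgroup.mem_centralizer_iff.1 hr.2 q (Subgroup.mem_zpowers q)
  have hr3 : r ∉ g3 Γ := by
    intro hc'
    apply he3
    have e1 : e = r * c⁻¹ := by rw [hrdef]; group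
    rw [e1]
    exact mul_mem hc' (inv_mem hc)
  have hr4 : r ∉ g4 Γ := fun hc' => hr3 (g4_le hc')
  have hrX := g2_le hr2
  have hce : ∀ e' ∈ g2 Γ, r * e' * r⁻¹ * e'⁻¹ = e * e' * e⁻¹ * e'⁻¹ := by
    intro e' he'
    have hcomm : e' * c = c * e' := g3_g2_comm h5 hc he'
    rw [hrdef]
    calc e * c * e' * (e * c)⁻¹ * e'⁻¹ = e * (c * e') * c⁻¹ * e⁻¹ * e'⁻¹ := by group
      _ = e * (e' * c) * c⁻¹ * e⁻¹ * e'⁻¹ := by rw [hcomm]
      _ = _ := by group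
  obtain ⟨n₀, hn₀⟩ : ∃ n₀ : g4 Γ, μ n₀ ≠ 1 := by
    by_contra h0
    push Not at h0
    exact hμ (MonoidHom.ext h0)
  obtain ⟨g, hg, hgr⟩ := hcam r hrX hr4 n₀ n₀.2
  -- the subgroup `J`
  let J : Subgroup Γ :=
    { carrier := {a | a ∈ commutator Γ ∧ r * a * r⁻¹ * a⁻¹ ∈ g4 Γ}
      one_mem' := ⟨one_mem _, by simp [one_mem]⟩
      mul_mem' := by
        rintro a b ⟨ha, ha'⟩ ⟨hb, hb'⟩
        refine ⟨mul_mem ha hb, ?_⟩
        have e1 : r * (a * b) * r⁻¹ * (a * b)⁻¹ =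
            (r * a * r⁻¹ * a⁻¹) * (a * (r * b * r⁻¹ * b⁻¹) * a⁻¹) := by group
        rw [e1]
        exact mul_mem ha' ((inferInstance : (g4 Γ).Normal).conj_mem _ hb' a)
      inv_mem' := by
        rintro a ⟨ha, ha'⟩
        refine ⟨inv_mem ha, ?_⟩
        have e1 : r * a⁻¹ * r⁻¹ * a⁻¹⁻¹ = a⁻¹ * (r * a * r⁻¹ * a⁻¹)⁻¹ * a⁻¹⁻¹ := by group
        rw [e1]
        exact (inferInstance : (g4 Γ).Normal).conj_mem _ (inv_mem ha') a⁻¹ }
  have hJmem : ∀ a, a ∈ J ↔ a ∈ commutator Γ ∧ r * a * r⁻¹ * a⁻¹ ∈ g4 Γ := fun a => Iff.rfl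
  let π : J →* ℂˣ := MonoidHom.mk' (fun a : J => μ ⟨r * a * r⁻¹ * (a : Γ)⁻¹, ((hJmem _).1 a.2).2⟩) (by
    intro a b
    rw [← map_mul]
    congr 1
    apply Subtype.ext
    have hc' := g4_central h5 ((hJmem _).1 b.2).2 ((hJmem _).1 a.2).1
    show r * ((a : Γ) * b) * r⁻¹ * ((a : Γ) * b)⁻¹ = (r * a * r⁻¹ * (a : Γ)⁻¹) * (r * b * r⁻¹ * (b : Γ)⁻¹)
    calc r * ((a : Γ) * b) * r⁻¹ * ((a : Γ) * b)⁻¹
        = (r * a * r⁻¹ * (a : Γ)⁻¹) * ((a : Γ) * (r * b * r⁻¹ * (b : Γ)⁻¹)) * (a : Γ)⁻¹ := by group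
      _ = (r * a * r⁻¹ * (a : Γ)⁻¹) * ((r * b * r⁻¹ * (b : Γ)⁻¹) * (a : Γ)) * (a : Γ)⁻¹ := by rw [hc']
      _ = _ := by group)
  have hπ : ∀ a : J, π a = μ ⟨r * a * r⁻¹ * (a : Γ)⁻¹, ((hJmem _).1 a.2).2⟩ := fun a => rfl
  have hZJ : g2 Γ ≤ J := fun z hz => ⟨g2_le hz, g2_g2_mem hr2 hz⟩
  have hqr : ∀ a : Γ, r * (q * a * q⁻¹) * r⁻¹ * (q * a * q⁻¹)⁻¹ = q * (r * a * r⁻¹ * a⁻¹) * q⁻¹ := by
    intro a
    have h1 : q⁻¹ * r⁻¹ = r⁻¹ * q⁻¹ := by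
      rw [← mul_inv_rev, ← mul_inv_rev, hrq]
    calc r * (q * a * q⁻¹) * r⁻¹ * (q * a * q⁻¹)⁻¹ = (r * q) * a * (q⁻¹ * r⁻¹) * (q * a⁻¹ * q⁻¹) := by group
      _ = (q * r) * a * (r⁻¹ * q⁻¹) * (q * a⁻¹ * q⁻¹) := by rw [hrq, h1]
      _ = _ := by group
  have hJq : ∀ a ∈ J, q * a * q⁻¹ ∈ J := by
    rintro a ⟨ha, ha'⟩
    refine ⟨(inferInstance : (commutator Γ).Normal).conj_mem _ ha q, ?_⟩
    rw [hqr]
    exact (inferInstance : (g4 Γ).Normal).conj_mem _ ha' q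
  have hπq : ∀ b : J, π ⟨q * b * q⁻¹, hJq _ b.2⟩ = π b := by
    intro b
    rw [hπ, hπ, ← hfix ⟨r * b * r⁻¹ * (b : Γ)⁻¹, ((hJmem _).1 b.2).2⟩]
    congr 1
    apply Subtype.ext
    rw [MulAut.conjNormal_apply]
    exact hqr _
  have hf : ∀ a ∈ J, q * a * q⁻¹ * a⁻¹ ∈ g2 Γ → a ∈ g2 Γ := by
    rcases h.dich q with h0 | h0
    · exact (hq0 (mem_Cen.2 h0)).elim
    · exact fun a ha hz => h0 a ha.1 hz
  -- `g ∈ J`
  have hrn : r * n₀ = n₀ * r := g4_central h5 n₀.2 hrX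
  have hgc : r * g * r⁻¹ * g⁻¹ = (n₀ : Γ)⁻¹ := by
    have h1 : r * g * r⁻¹ * g⁻¹ = (g * r * g⁻¹ * r⁻¹)⁻¹ := by group
    rw [h1, hgr]
    have h2 : r * (n₀ : Γ) * r⁻¹ = n₀ := by rw [hrn]; group
    rw [h2]
  have hgJ : g ∈ J := ⟨hg, by rw [hgc]; exact inv_mem n₀.2⟩
  obtain ⟨b, hb, hbz⟩ := exists_comm_mod hZJ (inferInstance : (g2 Γ).Normal) q hJq hf g hgJ
  -- computing
  let gJ : J := ⟨g, hgJ⟩
  let bJ : J := ⟨b, hb⟩
  let bJ' : J := ⟨q * b * q⁻¹, hJq _ hb⟩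
  let zJ : J := gJ⁻¹ * (bJ' * bJ⁻¹)
  have hzJ : (zJ : Γ) ∈ g2 Γ := hbz
  have hπz : π zJ = 1 := by
    rw [hπ]
    have h1 := hall zJ hzJ
    rw [← h1]
    congr 1
    apply Subtype.ext
    exact hce _ hzJ
  have hπb : π bJ' = π bJ := hπq bJ
  have hπg : π gJ = 1 := by
    have h1 : π zJ = (π gJ)⁻¹ * (π bJ' * (π bJ)⁻¹) := by
      simp only [zJ, map_mul, map_inv]
    rw [hπb, mul_inv_cancel, mul_one, hπz] at h1
    exact (inv_eq_one.1 h1.symm)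
  apply hn₀
  have h1 : π gJ = μ n₀⁻¹ := by
    rw [hπ]
    congr 1
    apply Subtype.ext
    exact hgc
  rw [hπg, map_inv] at h1
  exact (inv_eq_one.1 h1.symm)

/-- (P17) with `P2`, `P10` and `P14` as hypotheses. -/
theorem lv4_core [Fintype Γ] [Fintype (commutator Γ)] (h : PS Γ p) (h5 : g5 Γ = ⊥)
    (hU : Uq ((g4_le.trans (g3_le.trans g2_le)) : g4 Γ ≤ commutator Γ)) {Q : Subgroup Γ} (hQ : Cpl Q p)
    (hT2 : g2 Γ ≠ g3 Γ → ∃ y, y ∉ H0 Γ ∧ y ∈ Cen (g2 Γ) (g3 Γ))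
    (hP2 : ∀ e ∈ g2 Γ, e ∉ g3 Γ → ∀ f ∈ g3 Γ, ∃ a ∈ commutator Γ, (e * a * e⁻¹ * a⁻¹) * f⁻¹ ∈ g4 Γ) :
    g4 Γ = ⊥ := by
  classical
  haveI : Fact p.Prime := ⟨h.hp⟩
  by_contra hne
  have hcam := camina_g4 h5 hU
  have hexp := exp_g4 h h5
  have hnil : Group.IsNilpotent (commutator Γ) := h.hX.isNilpotent
  have hNX : g4 Γ ≤ commutator Γ := g4_le.trans (g3_le.trans g2_le)
  have hg23 : g2 Γ ≠ g3 Γ := by
    intro h23
    apply hne
    have h0 : g2 Γ = ⊥ := Cfsg.Agent.Lib.NDF.DeltaTrivial.eq_bot_of_comm_eq hnil g2_le h23.symm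
    apply le_bot_iff.1
    rw [← h0]
    exact g4_le.trans g3_le
  have hcomm : ∀ a b : g4 Γ, a * b = b * a := by
    intro a b
    exact Subtype.ext (g4_central h5 b.2 (hNX a.2))
  let KK : (g4 Γ →* ℂˣ) → Subgroup Γ := fun μ => (μ.ker).map (g4 Γ).subtype
  have hKmem : ∀ (μ : g4 Γ →* ℂˣ) (n : Γ) (hn : n ∈ g4 Γ), n ∈ KK μ ↔ μ ⟨n, hn⟩ = 1 := by
    intro μ n hn
    constructor
    · rintro ⟨m, hm, rfl⟩
      exact hm
    · intro h1
      exact ⟨⟨n, hn⟩, h1, rfl⟩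
  have hsel : ∃ μ : g4 Γ →* ℂˣ, μ ≠ 1 ∧ ((∀ e ∈ g2 Γ, ∀ e' ∈ g2 Γ, e * e' * e⁻¹ * e'⁻¹ ∈ KK μ) ∨
      (∀ e ∈ g2 Γ, e ∉ g3 Γ → ∃ e' ∈ g2 Γ, e * e' * e⁻¹ * e'⁻¹ ∉ KK μ)) := by
    by_cases hE : ∀ e ∈ g2 Γ, ∀ e' ∈ g2 Γ, e * e' * e⁻¹ * e'⁻¹ = 1
    · obtain ⟨n, hn, hn1⟩ : ∃ n ∈ g4 Γ, n ≠ 1 := by
        by_contra h0
        push Not at h0
        exact hne ((Subgroup.eq_bot_iff_forall _).2 h0)
      obtain ⟨ν, hν⟩ := Cfsg.Agent.Lib.NoDiv.Q78.sep' hcomm (a := ⟨n, hn⟩)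
        (fun h0 => hn1 (congrArg Subtype.val h0))
      refine ⟨ν, fun h0 => hν (by rw [h0]; rfl), Or.inl ?_⟩
      intro e he e' he'
      rw [hE e he e' he']
      exact one_mem _
    · push Not at hE
      obtain ⟨e₁, h1, e₂, h2, he⟩ := hE
      obtain ⟨y, hy0, hyT⟩ := hT2 hg23
      obtain ⟨a, ha, q, hq, rfl⟩ := hQ.decomp y
      have haH0 : a ∈ H0 Γ := mem_Cen.2 (fun b hb => Subgroup.commutator_mem_commutator ha hb)
      have haT : a ∈ Cen (g2 Γ) (g3 Γ) := mem_Cen.2 (fun b hb =>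
        comm_swap (Subgroup.commutator_mem_commutator hb ha))
      have hq0 : q ∉ H0 Γ := fun hc => hy0 (mul_mem haH0 hc)
      have hqT : q ∈ Cen (g2 Γ) (g3 Γ) := by
        have e1 : q = a⁻¹ * (a * q) := by group
        rw [e1]
        exact mul_mem (inv_mem haT) hyT
      have hqc := hQ.cop q hq
      obtain ⟨μ, hμ, hfix⟩ := exists_fixed_mu h h5 hqc (g2_g2_mem h1 h2) he (fix_comm h5 hqT h1 h2)
      refine ⟨μ, hμ, Or.inr ?_⟩
      intro e he' he3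
      by_contra hcon
      push Not at hcon
      exact right_alt h h5 hcam hqc hq0 hqT μ hμ hfix he' he3
        (fun e' he'' => (hKmem μ _ _).1 (hcon e' he''))
  obtain ⟨μ, hμ, hnd⟩ := hsel
  obtain ⟨n₁, hn₁⟩ : ∃ n₁ : g4 Γ, μ n₁ ≠ 1 := by
    by_contra h0
    push Not at h0
    exact hμ (MonoidHom.ext h0)
  have hn₁K : (n₁ : Γ) ∉ KK μ := fun hc => hn₁ ((hKmem μ _ n₁.2).1 hc)
  refine grp4 (X := commutator Γ) (K := KK μ) h.hX ?_ ?_ ?_ ?_ h.el ?_ hP2 ?_ hnd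
  · rintro x hx _ ⟨m, hm, rfl⟩
    have e1 : x * (m : Γ) * x⁻¹ = m := by
      rw [g4_central h5 m.2 hx]
      group
    show x * (m : Γ) * x⁻¹ ∈ KK μ
    rw [e1]
    exact ⟨m, hm, rfl⟩
  · rintro _ ⟨m, _, rfl⟩
    exact m.2
  · have h1 : (⁅⁅⁅⁅commutator Γ, commutator Γ⁆, commutator Γ⁆, commutator Γ⁆, commutator Γ⁆ : Subgroup Γ) = ⊥ := h5
    rw [h1]
    exact bot_le
  · exact relIndex_ker h.hp hexp μ hμ
  · intro a ha ha' e he
    obtain ⟨b, hb, hbe⟩ := h.cam a ha ha' e he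
    refine ⟨b, hb, ?_⟩
    rw [hbe]
    simp [one_mem]
  · intro f hf hf'
    obtain ⟨b, hb, hbf⟩ := hcam f (g2_le (g3_le hf)) hf' n₁ n₁.2
    refine ⟨b, hb, ?_⟩
    have hfn : f * (n₁ : Γ) = n₁ * f := g4_central h5 n₁.2 (g2_le (g3_le hf))
    have e1 : f * b * f⁻¹ * b⁻¹ = (n₁ : Γ)⁻¹ := by
      have e2 : f * b * f⁻¹ * b⁻¹ = (b * f * b⁻¹ * f⁻¹)⁻¹ := by group
      rw [e2, hbf]
      have e3 : f * (n₁ : Γ) * f⁻¹ = n₁ := by rw [hfn]; group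
      rw [e3]
    rw [e1]
    intro hc
    exact hn₁K (by simpa using inv_mem hc)

end Cfsg.Agent.Lib.NDF.PSLv4Core
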