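import Cfsg.Agent.Lib.NDF.PSLv3
import Cfsg.Agent.Lib.NDF.PSH0
import Cfsg.Agent.Lib.NDF.PSDegGt

/-!
# S4780, (P16): level 4 of the level analysis, uniqueness at `γ₄`
-/

set_option autoImplicit false
set_option linter.unusedSectionVars false
set_option linter.style.haveILetI false

namespace Cfsg.Agent.Lib.NDF.PSLv4Uq

open Cfsg Cfsg.Agent.Lib.NoDiv.Defs Cfsg.Agent.Lib.NDF.Defs Cfsg.Agent.Lib.NDF.PSDefs
open Cfsg.Agent.Lib.NDF.PSLv3
open Cfsg.Agent.Lib.Char.Basic Cfsg.Agent.Lib.Char.Conj Cfsg.Agent.Lib.Char.Linear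
open Cfsg.Agent.Lib.Char.Ortho Cfsg.Agent.Lib.Char.Complete Cfsg.Agent.Lib.Char.CliffordCorr
open scoped commutatorElement

universe u

variable {Γ : Type u} [Group Γ] {p : ℕ}

/-- (P16), with the parts of `lv2_gen` and `lv3_gen` it uses as hypotheses. -/
theorem lv4_uq_of [Fintype Γ] [Fintype (commutator Γ)] (h : PS Γ p) (h5 : g5 Γ = ⊥)
    (hdich2 : ∀ x : Γ, x ∈ Cen (g2 Γ) (g3 Γ) ∨ (∀ e ∈ g2 Γ, x * e * x⁻¹ * e⁻¹ ∈ g3 Γ → e ∈ g3 Γ))
    (hD2 : ∃ D : ℕ, (g2 Γ ≠ g3 Γ → D ^ 2 = (g2 Γ).relIndex (commutator Γ)) ∧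
      (g2 Γ ≠ g3 Γ → ((Cen (g2 Γ) (g3 Γ)).index * D) ∈ charDegrees Γ))
    (hdich3 : ∀ x : Γ, x ∈ Cen (g3 Γ) (g4 Γ) ∨ (∀ e ∈ g3 Γ, x * e * x⁻¹ * e⁻¹ ∈ g4 Γ → e ∈ g4 Γ)) :
    Uq ((g4_le.trans (g3_le.trans g2_le)) : g4 Γ ≤ commutator Γ) := by
  classical
  haveI : Fact p.Prime := ⟨h.hp⟩
  obtain ⟨Q, hQ⟩ := Cfsg.Agent.Lib.NDF.PSBase.exists_cpl h
  have hNX : g4 Γ ≤ commutator Γ := g4_le.trans (g3_le.trans g2_le)
  have hNc : ∀ n ∈ g4 Γ, ∀ x ∈ commutator Γ, x * n = n * x := by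
    intro n hn x hx
    have h1 : ⁅n, x⁆ ∈ g5 Γ := Subgroup.commutator_mem_commutator hn hx
    rw [h5, Subgroup.mem_bot] at h1
    exact (commutatorElement_eq_one_iff_mul_comm.mp h1).symm
  refine Cfsg.Agent.Lib.NDF.PSUq.uq_of_fixers h hQ g4_normal hNX hNc ?_
  intro μ hμ θ hθ hO
  obtain ⟨n₀, hn₀⟩ : ∃ n : g4 Γ, μ n ≠ 1 := by
    by_contra hcon
    push Not at hcon
    exact hμ (MonoidHom.ext hcon)
  have hg4 : g4 Γ ≠ ⊥ := by
    intro hb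
    apply hn₀
    have h1 : (n₀ : Γ) ∈ (⊥ : Subgroup Γ) := hb ▸ n₀.2
    have h2 : n₀ = 1 := Subtype.ext (by simpa using h1)
    rw [h2, map_one]
  have h23 : g2 Γ ≠ g3 Γ := by
    intro he
    apply hg4
    have h34 : g3 Γ = g4 Γ := by
      change ⁅g2 Γ, commutator Γ⁆ = ⁅g3 Γ, commutator Γ⁆
      rw [← he]
    have h45 : g4 Γ = g5 Γ := by
      change ⁅g3 Γ, commutator Γ⁆ = ⁅g4 Γ, commutator Γ⁆
      rw [← h34]
    rw [h45, h5]
  have hθ0 : θ 1 ≠ 0 := irr_one_ne_zero hθ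
  have hnt : ∃ f : commutator Γ, (f : Γ) ∈ g3 Γ ∧ θ f ≠ θ 1 := by
    refine ⟨⟨n₀, hNX n₀.2⟩, g4_le n₀.2, fun he => hn₀ ?_⟩
    have h1 := hO n₀
    rw [he] at h1
    have h2 : ((μ n₀ : ℂˣ) : ℂ) = 1 := by
      have h3 : (1 : ℂ) * θ 1 = ((μ n₀ : ℂˣ) : ℂ) * θ 1 := by rw [one_mul]; exact h1
      exact (mul_right_cancel₀ hθ0 h3).symm
    exact Units.ext h2
  have hlt := Cfsg.Agent.Lib.NDF.PSDegGt.deg_gt_of_camina h hθ hnt
  obtain ⟨D, hD2', hd₂⟩ := hD2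
  have hD2 := hD2' h23
  have hcardX : Nat.card (commutator Γ) ≠ 0 := Nat.card_pos.ne'
  obtain ⟨nX, hnX⟩ := (IsPGroup.iff_card (p := p) (G := commutator Γ)).mp h.hX
  have hθp : charDegree θ ∣ p ^ nX := hnX ▸ Cfsg.Agent.Lib.Char.Degree.charDegree_dvd_card hθ
  obtain ⟨a, -, haθ⟩ := (Nat.dvd_prime_pow h.hp).1 hθp
  have hDdvd : D ∣ p ^ nX := by
    have h1 : D ∣ D ^ 2 := dvd_pow_self D two_ne_zero
    rw [hD2] at h1
    refine h1.trans ?_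
    rw [← hnX, Subgroup.relIndex]
    exact Subgroup.index_dvd_card _
  obtain ⟨b, -, hbD⟩ := (Nat.dvd_prime_pow h.hp).1 hDdvd
  have hDlt : D < charDegree θ := by
    rw [← hD2] at hlt
    exact lt_of_pow_lt_pow_left₀ 2 (Nat.zero_le _) hlt
  have hba : b ≤ a := by
    rw [hbD, haθ] at hDlt
    exact ((Nat.pow_lt_pow_iff_right h.hp.one_lt).1 hDlt).le
  have hDθ : D ∣ charDegree θ := by
    rw [hbD, haθ]
    exact Nat.pow_dvd_pow p hba
  have hD1 : 1 < D := by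
    by_contra hle
    have hle' : D ≤ 1 := not_lt.mp hle
    have hD0 : D ≠ 0 := by
      intro h0
      rw [h0] at hD2
      have h1 : (g2 Γ).relIndex (commutator Γ) ≠ 0 := by
        rw [Subgroup.relIndex]
        exact Subgroup.index_ne_zero_of_finite
      exact h1 (by simpa using hD2.symm)
    have hDe : D = 1 := by omega
    rw [hDe, one_pow] at hD2
    have hXg : commutator Γ ≤ g2 Γ := Subgroup.relIndex_eq_one.mp hD2.symm
    apply h23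
    refine le_antisymm ?_ g3_le
    change ⁅commutator Γ, commutator Γ⁆ ≤ ⁅g2 Γ, commutator Γ⁆
    exact Subgroup.commutator_mono hXg le_rfl
  have hT2pos : 0 < (Cen (g2 Γ) (g3 Γ)).index := Nat.pos_of_ne_zero Subgroup.index_ne_zero_of_finite
  have hn : (commutator Γ).Normal := inferInstance
  -- a fixer outside `T2`
  obtain ⟨y, hyT, hyθ⟩ : ∃ y, y ∉ Cen (g2 Γ) (g3 Γ) ∧ conjOn hn y θ = θ := by
    by_contra hcon
    push Not at hcon
    have hIT : inertia hn θ ≤ Cen (g2 Γ) (g3 Γ) := fun g hg => by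
      by_contra hgT
      exact hcon g hgT hg
    obtain ⟨χ, hχ, hov⟩ := Cfsg.Agent.Lib.Char.RelGraph.exists_over (G := Γ) hθ
    have hdeg := Cfsg.Agent.Lib.NDF.PSBase.deg_of_over h hθ hχ hov
    have hdvd : (Cen (g2 Γ) (g3 Γ)).index ∣ (inertia hn θ).index := Subgroup.index_dvd_of_le hIT
    have h1 : (Cen (g2 Γ) (g3 Γ)).index * D ∣ charDegree χ := by
      rw [hdeg]
      exact mul_dvd_mul hdvd hDθ
    have h2 : (Cen (g2 Γ) (g3 Γ)).index * D < charDegree χ := by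
      rw [hdeg]
      calc (Cen (g2 Γ) (g3 Γ)).index * D < (Cen (g2 Γ) (g3 Γ)).index * charDegree θ :=
            Nat.mul_lt_mul_of_pos_left hDlt hT2pos
        _ ≤ _ := Nat.mul_le_mul_right _ (Nat.le_of_dvd (Nat.pos_of_ne_zero
            Subgroup.index_ne_zero_of_finite) hdvd)
    have h3 : 1 < (Cen (g2 Γ) (g3 Γ)).index * D := by nlinarith
    exact h.nd _ (hd₂ h23) _ ⟨⟨χ, hχ⟩, rfl⟩ h3 h2 h1
  have hXT : commutator Γ ≤ Cen (g2 Γ) (g3 Γ) := fun x hx => mem_Cen.2 fun a ha => by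
    have h1 : ⁅a, x⁆ ∈ g3 Γ := Subgroup.commutator_mem_commutator ha hx
    have h2 := (g3 Γ).inv_mem h1
    have e : ⁅a, x⁆⁻¹ = x * a * x⁻¹ * a⁻¹ := by
      rw [commutatorElement_def]
      group
    rwa [e] at h2
  obtain ⟨z, hzQ, hzT, hzθ, hzq⟩ := Cfsg.Agent.Lib.NDF.PSBase.prime_part hQ hXT
    (isClassFunction_of_isIrrCharacter hθ) hyT hyθ
  refine ⟨z, hzQ, hzθ, ?_, hzq⟩
  have hzμ := fixes_mu g4_normal hNX hθ0 hO hzθ
  have hz0 : z ∉ H0 Γ := fun hz => hzT (Cfsg.Agent.Lib.NDF.PSH0.H0_le_T2 hz)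
  have hd1 : ∀ a ∈ commutator Γ, z * a * z⁻¹ * a⁻¹ ∈ g2 Γ → a ∈ g2 Γ := by
    rcases h.dich z with h1 | h1
    · exact absurd (mem_Cen.2 h1) hz0
    · exact h1
  have hd2 : ∀ e ∈ g2 Γ, z * e * z⁻¹ * e⁻¹ ∈ g3 Γ → e ∈ g3 Γ := by
    rcases hdich2 z with h1 | h1
    · exact absurd h1 hzT
    · exact h1
  have hz3 : z ∉ Cen (g3 Γ) (g4 Γ) := by
    intro hz3
    have hF2 : (⁅g3 Γ, ⁅commutator Γ, commutator Γ⁆⁆ : Subgroup Γ) ≤
        ⁅⁅g3 Γ, commutator Γ⁆, commutator Γ⁆ := by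
      rw [Subgroup.commutator_comm]
      refine Cfsg.Agent.Lib.Coprime.Generation2.three_subgroups_rel _ _ _ _ ?_ ?_ ?_ ?_ ?_
      · rw [Subgroup.commutator_comm (commutator Γ) (g3 Γ)]
      · exact le_rfl
      all_goals
        rw [Subgroup.normalizer_eq_top_iff.mpr (Subgroup.commutator_normal _ _)]
        exact le_top
    have hgl := Cfsg.Agent.Lib.NDF.GLemma.g_lemma (W := commutator Γ) (F := g3 Γ)
      inferInstance inferInstance (g3_le.trans g2_le) z (fun f hf => mem_Cen.1 hz3 f hf) hd1 hF2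
    have hμ1 : μ = 1 := by
      refine mu_one_of_fpf g4_normal (fun a ha b hb => hNc b hb a (hNX ha)) ?_ μ hzμ
      intro n hn' hn1
      have h1 := hgl n hn' (by
        rw [hn1]
        exact Subgroup.one_mem _)
      change n ∈ g5 Γ at h1
      rw [h5, Subgroup.mem_bot] at h1
      exact h1
    exact hμ hμ1
  have hd3 : ∀ e ∈ g3 Γ, z * e * z⁻¹ * e⁻¹ ∈ g4 Γ → e ∈ g4 Γ := by
    rcases hdich3 z with h1 | h1
    · exact absurd h1 hz3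
    · exact h1
  intro x hx hzx
  have hcx : z * x * z⁻¹ * x⁻¹ = 1 := by
    rw [hzx]
    group
  have hx2 : x ∈ g2 Γ := hd1 x hx (by
    rw [hcx]
    exact Subgroup.one_mem _)
  have hx3 : x ∈ g3 Γ := hd2 x hx2 (by
    rw [hcx]
    exact Subgroup.one_mem _)
  exact hd3 x hx3 (by
    rw [hcx]
    exact Subgroup.one_mem _)

end Cfsg.Agent.Lib.NDF.PSLv4Uq
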