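import Cfsg.Agent.Lib.NDF.PSCard
import Cfsg.Agent.Lib.NDF.DeltaTrivial
import Cfsg.Agent.Lib.NDF.PSLv4Core
import Cfsg.Agent.Lib.NDF.PSLv3Gen
import Cfsg.Agent.Lib.NDF.PSLv4Uq

/-! # S4780, block P: the assembly (P18 and `PS_main`) -/

set_option autoImplicit false
set_option linter.unusedSectionVars false

namespace Cfsg.Agent.Lib.NDF.PSMain

open Cfsg Cfsg.Agent.Lib.NoDiv.Defs Cfsg.Agent.Lib.NDF.Defs Cfsg.Agent.Lib.NDF.PSDefs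
open Cfsg.Agent.Lib.Char.Basic Cfsg.Agent.Lib.Char.Degree
open Cfsg.Agent.Lib.NDF.PSBase
open Cfsg.Agent.Lib.NDF.PSGen (lv2_gen)
open Cfsg.Agent.Lib.NDF.PSLv3Gen (lv3_gen)
open Cfsg.Agent.Lib.NDF.PSLv4Uq (lv4_uq_of)

universe u

variable {Γ : Type u} [Group Γ] {p : ℕ}

/-- `γ₄ = 1`. -/
theorem g4_bot [Finite Γ] (h : PS Γ p) : g4 Γ = ⊥ := by
  classical
  have hK : g5 Γ ≤ g2 Γ := g5_le.trans (g4_le.trans g3_le)
  letI : Fintype (Γ ⧸ g5 Γ) := Fintype.ofFinite _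
  letI : Fintype (commutator (Γ ⧸ g5 Γ)) := Fintype.ofFinite _
  have hh : PS (Γ ⧸ g5 Γ) p := PS.quot h hK
  have h5 : g5 (Γ ⧸ g5 Γ) = ⊥ := by
    rw [← map_g5, eq_bot_iff]
    rintro _ ⟨a, ha, rfl⟩
    rw [Subgroup.mem_bot, ← MonoidHom.mem_ker, QuotientGroup.ker_mk']
    exact ha
  have hU : Uq ((g4_le.trans (g3_le.trans g2_le)) : g4 (Γ ⧸ g5 Γ) ≤ commutator (Γ ⧸ g5 Γ)) := by
    obtain ⟨D, hD1, hD2, -⟩ := (lv2_gen hh).2.1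
    exact lv4_uq_of hh h5 (lv2_gen hh).1 ⟨D, hD1, hD2⟩ (lv3_gen hh).1
  obtain ⟨Q, hQ⟩ := exists_cpl hh
  have h4 : g4 (Γ ⧸ g5 Γ) = ⊥ :=
    Cfsg.Agent.Lib.NDF.PSLv4Core.lv4_core hh h5 hU hQ (lv2_gen hh).2.2 (lv3_gen hh).2.2.2
  have hle : g4 Γ ≤ g5 Γ := by
    intro a ha
    have h1 : QuotientGroup.mk' (g5 Γ) a ∈ g4 (Γ ⧸ g5 Γ) := by
      rw [← map_g4]
      exact ⟨a, ha, rfl⟩
    rw [h4, Subgroup.mem_bot, ← MonoidHom.mem_ker, QuotientGroup.ker_mk'] at h1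
    exact h1
  have heq : ⁅g4 Γ, commutator Γ⁆ = g4 Γ := le_antisymm g5_le hle
  haveI := Fact.mk h.hp
  haveI : Finite (commutator Γ) := inferInstance
  exact Cfsg.Agent.Lib.NDF.DeltaTrivial.eq_bot_of_comm_eq h.hX.isNilpotent
    (g4_le.trans (g3_le.trans g2_le)) heq

/-- (P18) The count of degrees. -/
theorem card_cd [Finite Γ] (h : PS Γ p) (h4 : g4 Γ = ⊥) : Nat.card (charDegrees Γ) ≤ 4 := by
  classical
  letI : Fintype Γ := Fintype.ofFinite _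
  letI : Fintype (commutator Γ) := Fintype.ofFinite _
  obtain ⟨-, ⟨D₂, -, -, hD₂⟩, -⟩ := lv2_gen h
  obtain ⟨-, ⟨D₃, -, hD₃⟩, -, -⟩ := lv3_gen h
  have hsub : charDegrees Γ ⊆ (({1, (H0 Γ).index, (Cen (g2 Γ) (g3 Γ)).index * D₂,
      (Cen (g3 Γ) (g4 Γ)).index * D₃} : Finset ℕ) : Set ℕ) := by
    rintro d ⟨χ, rfl⟩
    simp only [Finset.coe_insert, Finset.coe_singleton, Set.mem_insert_iff, Set.mem_singleton_iff]
    by_cases h3 : ∃ e ∈ g3 Γ, (χ : Γ → ℂ) e ≠ (χ : Γ → ℂ) 1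
    · right; right; right
      refine hD₃ _ χ.2 ?_ h3
      intro f hf
      rw [h4, Subgroup.mem_bot] at hf
      rw [hf]
    · push Not at h3
      by_cases h2 : ∃ e ∈ g2 Γ, (χ : Γ → ℂ) e ≠ (χ : Γ → ℂ) 1
      · right; right; left
        exact hD₂ _ χ.2 h3 h2
      · push Not at h2
        rcases PSCard.bottom h χ.2 h2 with h5 | h5
        · left; exact h5
        · right; left; exact h5
  have h1 : Nat.card (charDegrees Γ) ≤ Nat.card (({1, (H0 Γ).index,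
      (Cen (g2 Γ) (g3 Γ)).index * D₂, (Cen (g3 Γ) (g4 Γ)).index * D₃} : Finset ℕ) : Set ℕ) :=
    Nat.card_mono (Set.toFinite _) hsub
  refine h1.trans ?_
  rw [Nat.card_eq_fintype_card]
  simp only [Finset.coe_sort_coe, Fintype.card_coe]
  exact Finset.card_le_four

/-- Assembly. -/
theorem PS_main [Finite Γ] (h : PS Γ p) :
    g4 Γ = ⊥ ∧ Nat.card (charDegrees Γ) ≤ 4 ∧
    (g2 Γ ≠ g3 Γ → ∃ g : Γ, (¬ ∀ a ∈ commutator Γ, g * a * g⁻¹ * a⁻¹ ∈ g2 Γ) ∧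
      ∀ e ∈ g2 Γ, g * e * g⁻¹ * e⁻¹ ∈ g3 Γ) ∧
    (g3 Γ ≠ g4 Γ → ∃ g : Γ, (¬ ∀ a ∈ commutator Γ, g * a * g⁻¹ * a⁻¹ ∈ g2 Γ) ∧
      ∀ f ∈ g3 Γ, g * f * g⁻¹ * f⁻¹ ∈ g4 Γ) := by
  have h4 := g4_bot h
  refine ⟨h4, card_cd h h4, ?_, ?_⟩
  · intro hne
    obtain ⟨-, -, h3⟩ := lv2_gen h
    obtain ⟨y, hy, hyc⟩ := h3 hne
    refine ⟨y, ?_, mem_Cen.1 hyc⟩
    intro hy'
    exact hy (mem_Cen.2 hy')
  · intro hne
    obtain ⟨-, -, h3, -⟩ := lv3_gen h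
    obtain ⟨y, hy, hyc⟩ := h3 hne
    refine ⟨y, ?_, mem_Cen.1 hyc⟩
    intro hy'
    exact hy (mem_Cen.2 hy')

end Cfsg.Agent.Lib.NDF.PSMain
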