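import Cfsg.Agent.Lib.NDF.PSBase

/-! # S4780, block P: transfer of the level analysis from `Γ ⧸ B` to `Γ` (used in P10, P14) -/

set_option autoImplicit false
set_option linter.unusedSectionVars false

namespace Cfsg.Agent.Lib.NDF.PSTransfer

open Cfsg Cfsg.Agent.Lib.NoDiv.Defs Cfsg.Agent.Lib.NDF.Defs Cfsg.Agent.Lib.NDF.PSDefs
open Cfsg.Agent.Lib.Char.Basic Cfsg.Agent.Lib.Char.Linear
open Cfsg.Agent.Lib.NDF.PSBase

universe u

variable {Γ : Type u} [Group Γ]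

/-- The conclusions of `level` for `Γ ⧸ B`, with `N = A / B`, give the corresponding statements
for `Γ`. -/
theorem transfer [Finite Γ] {A B : Subgroup Γ} [hB : B.Normal] (hBA : B ≤ A)
    {N : Subgroup (Γ ⧸ B)} (hN : A.map (QuotientGroup.mk' B) = N)
    (h1 : ∀ x : Γ ⧸ B, (∀ n ∈ N, x * n * x⁻¹ * n⁻¹ = 1) ∨ (∀ n ∈ N, x * n * x⁻¹ * n⁻¹ = 1 → n = 1))
    (h2 : ∃ D : ℕ, (N ≠ ⊥ → D ^ 2 = (N.subgroupOf (commutator (Γ ⧸ B))).index) ∧
      (N ≠ ⊥ → ((Cen N ⊥).index * D) ∈ charDegrees (Γ ⧸ B)) ∧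
      ∀ χ : Γ ⧸ B → ℂ, IsIrrCharacter (Γ ⧸ B) χ → (∃ n ∈ N, χ n ≠ χ 1) →
        charDegree χ = (Cen N ⊥).index * D)
    (h3 : N ≠ ⊥ → ∃ y, y ∉ H0 (Γ ⧸ B) ∧ ∀ n ∈ N, y * n * y⁻¹ * n⁻¹ = 1) :
    (∀ x : Γ, x ∈ Cen A B ∨ (∀ e ∈ A, x * e * x⁻¹ * e⁻¹ ∈ B → e ∈ B)) ∧
    (∃ D : ℕ, (A ≠ B → D ^ 2 = A.relIndex (commutator Γ)) ∧
      (A ≠ B → ((Cen A B).index * D) ∈ charDegrees Γ) ∧
      ∀ χ : Γ → ℂ, IsIrrCharacter Γ χ → (∀ f ∈ B, χ f = χ 1) → (∃ e ∈ A, χ e ≠ χ 1) →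
        charDegree χ = (Cen A B).index * D) ∧
    (A ≠ B → ∃ y, y ∉ H0 Γ ∧ y ∈ Cen A B) := by
  set π := QuotientGroup.mk' B with hπd
  have hπ : Function.Surjective π := QuotientGroup.mk'_surjective B
  have hker : ∀ x : Γ, π x = 1 ↔ x ∈ B := fun x => QuotientGroup.eq_one_iff x
  have hmem : ∀ a ∈ A, π a ∈ N := fun a ha => by
    rw [← hN]
    exact ⟨a, ha, rfl⟩
  have hcomm : ∀ x a : Γ, π x * π a * (π x)⁻¹ * (π a)⁻¹ = π (x * a * x⁻¹ * a⁻¹) := fun x a => by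
    simp only [map_mul, map_inv]
  have hNne : A ≠ B → N ≠ ⊥ := by
    intro hne hbot
    apply hne
    apply le_antisymm _ hBA
    intro a ha
    have h4 := hmem a ha
    rw [hbot, Subgroup.mem_bot] at h4
    exact (hker a).mp h4
  have hCen : Cen A B = (Cen N ⊥).comap π := by
    ext g
    rw [Subgroup.mem_comap, mem_Cen, mem_Cen]
    constructor
    · intro h4 n hn
      rw [← hN] at hn
      obtain ⟨a, ha, rfl⟩ := hn
      rw [Subgroup.mem_bot, hcomm, hker]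
      exact h4 a ha
    · intro h4 a ha
      have h5 := h4 (π a) (hmem a ha)
      rwa [Subgroup.mem_bot, hcomm, hker] at h5
  have hindex : (Cen A B).index = (Cen N ⊥).index := by
    rw [hCen]
    exact Subgroup.index_comap_of_surjective _ hπ
  have hdeg : ∀ φ : Γ ⧸ B → ℂ, charDegree (φ ∘ π) = charDegree φ := by
    intro φ
    unfold charDegree
    simp only [Function.comp, map_one]
  refine ⟨?_, ?_, ?_⟩
  · intro x
    rcases h1 (π x) with h4 | h4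
    · left
      rw [mem_Cen]
      intro a ha
      have h5 := h4 (π a) (hmem a ha)
      rwa [hcomm, hker] at h5
    · right
      intro e he hc
      have h5 := h4 (π e) (hmem e he) (by rw [hcomm, hker]; exact hc)
      exact (hker e).mp h5
  · obtain ⟨D, hD1, hD2, hD3⟩ := h2
    refine ⟨D, ?_, ?_, ?_⟩
    · intro hne
      rw [hD1 (hNne hne)]
      have hX : commutator (Γ ⧸ B) = (commutator Γ).map π := Cfsg.Agent.Lib.NoDiv.Deep1.map_commutator_mk.symm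
      have hcomap : N.comap π = A := by
        rw [← hN, Subgroup.comap_map_eq, hπd, QuotientGroup.ker_mk']
        exact sup_eq_left.mpr hBA
      rw [← Subgroup.relIndex, hX, ← Subgroup.relIndex_comap, hcomap]
    · intro hne
      obtain ⟨χ, hχ⟩ := hD2 (hNne hne)
      rw [hindex, ← hχ]
      exact ⟨⟨χ.1 ∘ π, isIrrCharacter_comp π hπ χ.2⟩, hdeg _⟩
    · intro χ hχ htriv ⟨e, he, hne⟩
      obtain ⟨φ, hφ, rfl⟩ := isIrrCharacter_descend π hπ hχ (by
        intro k hk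
        exact htriv k ((hker k).mp hk))
      rw [hdeg, hindex]
      refine hD3 φ hφ ⟨π e, hmem e he, ?_⟩
      simpa using hne
  · intro hne
    obtain ⟨y, hy1, hy2⟩ := h3 (hNne hne)
    obtain ⟨y, rfl⟩ := hπ y
    refine ⟨y, ?_, ?_⟩
    · intro hy
      apply hy1
      rw [mem_Cen] at hy ⊢
      intro a ha
      have hX : commutator (Γ ⧸ B) = (commutator Γ).map π := Cfsg.Agent.Lib.NoDiv.Deep1.map_commutator_mk.symm
      rw [hX] at ha
      obtain ⟨a, ha, rfl⟩ := ha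
      rw [hcomm, ← map_g2]
      exact ⟨_, hy a ha, rfl⟩
    · rw [mem_Cen]
      intro a ha
      have h5 := hy2 (π a) (hmem a ha)
      rwa [hcomm, hker] at h5

end Cfsg.Agent.Lib.NDF.PSTransfer
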