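import Cfsg.Agent.Lib.NDF.Defs
import Cfsg.Agent.Lib.NoDiv.Main

/-!
# S4780: the statements of the modules of `Lib/NDF` (all `sorry`; do not import; copy the statement you
prove into `Lib/NDF/<Name>.lean`, namespace `Cfsg.Agent.Lib.NDF.<Name>`).
-/

set_option autoImplicit false
set_option linter.unusedSectionVars false

namespace Cfsg.Agent.Lib.NDF.Spec

open Cfsg Cfsg.Agent.Lib.NoDiv.Defs Cfsg.Agent.Lib.NDF.Defs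
open Cfsg.Agent.Lib.Char.Basic Cfsg.Agent.Lib.Char.Conj Cfsg.Agent.Lib.Char.CliffordCorr
open Cfsg.Agent.Lib.Char.Linear Cfsg.Agent.Lib.Char.Degree Cfsg.Agent.Lib.Char.Ortho
open Cfsg.Agent.Lib.Char.Induced Cfsg.Agent.Lib.Char.Complete

universe u v w

/-! ## A. Abstract group theory and linear algebra -/

/-- (A1) A non-cyclic section cannot act without fixed points. -/
theorem cyclic_fpf {Γ : Type u} [Group Γ] [Finite Γ] {N U J : Subgroup Γ}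
    (hNab : ∀ a ∈ N, ∀ b ∈ N, a * b = b * a) (hN1 : N ≠ ⊥)
    (hUN : ∀ u ∈ U, ∀ n ∈ N, u * n * u⁻¹ ∈ N)
    (hcomm : ∀ u ∈ U, ∀ v ∈ U, ∀ n ∈ N, u * (v * n * v⁻¹) * u⁻¹ = v * (u * n * u⁻¹) * v⁻¹)
    (hJU : J ≤ U)
    (hfpf : ∀ u ∈ U, u ∉ J → ∀ n ∈ N, u * n * u⁻¹ = n → n = 1) :
    ∃ c ∈ U, ∀ u ∈ U, ∃ k : ℕ, u * (c ^ k)⁻¹ ∈ J := by
  sorry

/-- (A2) Frobenius action: the complement has a fixed point. -/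
theorem frobFix {Γ : Type u} {V : Type v} [Group Γ] [Finite Γ] [CommGroup V] [Finite V]
    [MulDistribMulAction Γ V] (F X : Subgroup Γ) (hF : F.Normal) (hFX : F ⊓ X = ⊥)
    (hfpf : ∀ x ∈ X, x ≠ 1 → ∀ f ∈ F, x * f = f * x → f = 1)
    (hcop : Nat.Coprime (Nat.card F) (Nat.card V))
    (hVF : ∀ v : V, (∀ f ∈ F, f • v = v) → v = 1) (hV : ∃ v : V, v ≠ 1) :
    ∃ v : V, v ≠ 1 ∧ ∀ x ∈ X, x • v = v := by
  sorry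

/-- (A3) Uniform kernels: a central element fixing a nontrivial point fixes all. -/
theorem uniform_fix {L : Type u} {V : Type v} [Group L] [Finite L] [CommGroup V] [Finite V]
    [MulDistribMulAction L V]
    (hac : ∀ ν μ : V, ν ≠ 1 → μ ≠ 1 → (MulAction.stabilizer L ν).index ∣ (MulAction.stabilizer L μ).index →
      (MulAction.stabilizer L ν).index = (MulAction.stabilizer L μ).index)
    (z : L) (hz : ∀ g : L, g * z = z * g) {ν : V} (hν : ν ≠ 1) (hzν : z • ν = ν) (μ : V) : z • μ = μ := by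
  sorry

/-- (A4) A point with maximal stabiliser in the divisibility order. -/
theorem max_stab {L : Type u} {V : Type v} [Group L] [Finite L] [CommGroup V] [Finite V]
    [MulDistribMulAction L V] {B R R₂ : Subgroup L} (hB1 : B ≠ ⊥) (hBR : B ≤ R) (hBn : B.Normal)
    (hRn : R.Normal) (hLB : ∀ a b : L, a * b * a⁻¹ * b⁻¹ ∈ B)
    (hcopR : Nat.Coprime (Nat.card B) R.index)
    (hfB : ∀ g, g ∉ R → ∀ b ∈ B, g * b = b * g → b = 1)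
    (hBV : ∀ b ∈ B, b ≠ 1 → ∀ v : V, b • v = v → v = 1)
    (hcopV : Nat.Coprime (Nat.card B) (Nat.card V)) (hV : ∃ v : V, v ≠ 1)
    (hR₂n : R₂.Normal) (hR₂R : R₂ ≤ R) (hR₂V : ∀ r ∈ R₂, ∀ v : V, r • v = v)
    (hR₂ : ∀ r ∈ R, ∀ v : V, v ≠ 1 → r • v = v → r ∈ R₂) :
    ∃ l₀ : V, l₀ ≠ 1 ∧ ∀ T : Subgroup L, (∀ t ∈ T, t ∈ R → t ∈ R₂) →
      Nat.card T ∣ Nat.card (MulAction.stabilizer L l₀) := by
  sorry

/-- (A5) A common element: all stabilisers contain an element of a fixed coset of `B R₂`. -/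
theorem exists_common_g {L : Type u} {V : Type v} [Group L] [Finite L] [CommGroup V] [Finite V]
    [MulDistribMulAction L V] {B R R₂ : Subgroup L} (hBR : B ≤ R) (hBn : B.Normal) (hRn : R.Normal)
    (hLB : ∀ a b : L, a * b * a⁻¹ * b⁻¹ ∈ B)
    (hcopR : Nat.Coprime (Nat.card B) R.index)
    (hfB : ∀ g, g ∉ R → ∀ b ∈ B, g * b = b * g → b = 1)
    (hBV : ∀ b ∈ B, b ≠ 1 → ∀ v : V, b • v = v → v = 1) (hV : ∃ v : V, v ≠ 1)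
    (hcyc : ∃ c : L, ∀ g : L, ∃ k : ℕ, g * (c ^ k)⁻¹ ∈ R)
    (hR₂n : R₂.Normal) (hR₂R : R₂ ≤ R) (hR₂V : ∀ r ∈ R₂, ∀ v : V, r • v = v)
    (hR₂ : ∀ r ∈ R, ∀ v : V, v ≠ 1 → r • v = v → r ∈ R₂)
    {d : ℕ} (hd : ∀ v : V, v ≠ 1 → (MulAction.stabilizer L v).index = d) (hm : ¬ R.index ∣ d) :
    ∃ g, g ∉ R ∧ ∀ v : V, v ≠ 1 → ∃ b ∈ B, (g * b) • v = v := by
  sorry

/-- (A6) The count of a covering by the fixed points of the coset `g B`. -/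
theorem covering_count {L : Type u} {V : Type v} [Group L] [Finite L] [CommGroup V] [Finite V]
    [MulDistribMulAction L V] {B : Subgroup L} (hBn : B.Normal)
    (hBab : ∀ a ∈ B, ∀ b ∈ B, a * b = b * a) (hB1 : B ≠ ⊥)
    (hBV : ∀ b ∈ B, b ≠ 1 → ∀ v : V, b • v = v → v = 1) (g : L)
    (hgB : ∀ b ∈ B, g * b = b * g → b = 1)
    (hcov : ∀ v : V, v ≠ 1 → ∃ b ∈ B, (g * b) • v = v) (hV : ∃ v : V, v ≠ 1) :
    ∃ c : ℕ, 2 ≤ c ∧ c ^ 2 ≤ Nat.card V ∧ Nat.card B * (c - 1) = Nat.card V - 1 := by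
  sorry

/-- (A7) Fixed irreducible characters over a central subgroup (Glauberman counting). -/
theorem unique_fixed_irr {X : Type u} [Group X] [Fintype X] {N : Subgroup X} [Fintype N]
    (hNc : ∀ n ∈ N, ∀ x, x * n = n * x) (α : MulAut X) {q k : ℕ} (hq : q.Prime) (hα : α ^ (q ^ k) = 1)
    (hcop : ¬ q ∣ Nat.card X) (hαN : ∀ n ∈ N, α n ∈ N) (hfix : ∀ x, α x = x → x ∈ N)
    (μ : N →* ℂˣ) (hμ : ∀ n : N, μ ⟨α n, hαN n n.2⟩ = μ n) :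
    ∃! χ : IrrCharacter X, (∀ x, (χ : X → ℂ) (α x) = (χ : X → ℂ) x) ∧
      ∀ n : N, (χ : X → ℂ) n = ((μ n : ℂˣ) : ℂ) * (χ : X → ℂ) 1 := by
  sorry

/-- (A8) A unique character over a central character is fully ramified. -/
theorem unique_over {X : Type u} [Group X] [Fintype X] {N : Subgroup X} [Fintype N]
    (hNc : ∀ n ∈ N, ∀ x, x * n = n * x) (μ : N →* ℂˣ) (χ₀ : IrrCharacter X)
    (h₀ : ∀ n : N, (χ₀ : X → ℂ) n = ((μ n : ℂˣ) : ℂ) * (χ₀ : X → ℂ) 1)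
    (huniq : ∀ χ : IrrCharacter X, (∀ n : N, (χ : X → ℂ) n = ((μ n : ℂˣ) : ℂ) * (χ : X → ℂ) 1) → χ = χ₀) :
    (χ₀ : X → ℂ) 1 ^ 2 = (N.index : ℂ) ∧ ∀ x, x ∉ N → (χ₀ : X → ℂ) x = 0 := by
  sorry

/-- (A9) Degrees for a normal Hall subgroup with abelian quotient. -/
theorem deg_over {G : Type u} [Group G] [Fintype G] {N : Subgroup G} [Fintype N] (hN : N.Normal)
    (hab : ∀ a b : G, a * b * a⁻¹ * b⁻¹ ∈ N) (hcop : Nat.Coprime (Nat.card N) N.index)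
    {θ : N → ℂ} (hθ : IsIrrCharacter N θ) {χ : G → ℂ} (hχ : IsIrrCharacter G χ)
    (hcon : classInner (fun n : N => χ n) θ ≠ 0) :
    charDegree χ = (inertia hN θ).index * charDegree θ := by
  sorry

/-- (A10) `x` trivial on `F / [F, W]` and fixed point free on `W / W'` is fixed point free on
`[F, W] / [F, W, W]`. -/
theorem g_lemma {G : Type u} [Group G] [Finite G] {W F : Subgroup G} (hW : W.Normal) (hF : F.Normal)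
    (hFW : F ≤ W) (x : G)
    (hx1 : ∀ f ∈ F, x * f * x⁻¹ * f⁻¹ ∈ (⁅F, W⁆ : Subgroup G))
    (hx2 : ∀ a ∈ W, x * a * x⁻¹ * a⁻¹ ∈ (⁅W, W⁆ : Subgroup G) → a ∈ (⁅W, W⁆ : Subgroup G))
    (hF2 : (⁅F, ⁅W, W⁆⁆ : Subgroup G) ≤ ⁅⁅F, W⁆, W⁆) :
    ∀ u ∈ (⁅F, W⁆ : Subgroup G), x * u * x⁻¹ * u⁻¹ ∈ (⁅⁅F, W⁆, W⁆ : Subgroup G) →
      u ∈ (⁅⁅F, W⁆, W⁆ : Subgroup G) := by
  sorry

/-- (A11) Beisiegel's bound, linear form (`p = 2` needs the squaring map). -/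
theorem beisiegel_alg {p : ℕ} [Fact p.Prime] {A : Type u} {L : Type v} [AddCommGroup A]
    [Module (ZMod p) A] [Finite A] [Nontrivial A] [AddCommGroup L] [Module (ZMod p) L] [Finite L]
    (br : A →ₗ[ZMod p] A →ₗ[ZMod p] L) (halt : ∀ a, br a a = 0)
    (hon : ∀ a, a ≠ 0 → Function.Surjective (br a))
    (hq : p = 2 → ∃ q : A → L, ∀ a b, q (a + b) = q a + q b + br a b) :
    Nat.card L ^ 2 ≤ Nat.card A := by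
  sorry

/-- (A12) Beisiegel's bound, group form. -/
theorem beisiegel_grp {X : Type u} [Group X] [Finite X] {p : ℕ} (hp : p.Prime) (hX : IsPGroup p X)
    (hZ : ∀ e ∈ commutator X, ∀ x : X, x * e = e * x) (hel : ∀ x : X, x ^ p ∈ commutator X)
    (hcam : ∀ a, a ∉ commutator X → ∀ e ∈ commutator X, ∃ b, b * a * b⁻¹ = a * e) :
    Nat.card (commutator X) ^ 2 ≤ (commutator X).index := by
  sorry

/-- (A13) Class four, `c = 0`. -/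
theorem alg4_c0 {p : ℕ} [Fact p.Prime] {A : Type u} {L₂ : Type v} {L₃ : Type w} [AddCommGroup A]
    [Module (ZMod p) A] [Finite A] [Nontrivial A] [AddCommGroup L₂] [Module (ZMod p) L₂] [Finite L₂]
    [Nontrivial L₂] [AddCommGroup L₃] [Module (ZMod p) L₃] [Finite L₃] [Nontrivial L₃]
    (br : A →ₗ[ZMod p] A →ₗ[ZMod p] L₂) (T : L₂ →ₗ[ZMod p] A →ₗ[ZMod p] L₃)
    (Ψ : L₃ →ₗ[ZMod p] A →ₗ[ZMod p] ZMod p) (halt : ∀ a, br a a = 0)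
    (hP1 : ∀ a, a ≠ 0 → Function.Surjective (br a)) (hP2 : ∀ e, e ≠ 0 → Function.Surjective (T e))
    (hP3 : ∀ f, f ≠ 0 → Ψ f ≠ 0)
    (hJ3 : ∀ a b c, T (br a b) c + T (br b c) a + T (br c a) b = 0)
    (hJ4 : ∀ e a b, Ψ (T e a) b = Ψ (T e b) a)
    (hP4 : ∀ a, a ≠ 0 → Nat.card L₃ * p ≤
      Nat.card (LinearMap.range (T.flip a)) * Nat.card (LinearMap.ker (br a))) : False := by
  sorry

/-- (A14) Class four, `c` nondegenerate. -/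
theorem alg4_c1 {p : ℕ} [Fact p.Prime] {A : Type u} {L₂ : Type v} {L₃ : Type w} [AddCommGroup A]
    [Module (ZMod p) A] [Finite A] [Nontrivial A] [AddCommGroup L₂] [Module (ZMod p) L₂] [Finite L₂]
    [Nontrivial L₂] [AddCommGroup L₃] [Module (ZMod p) L₃] [Finite L₃] [Nontrivial L₃]
    (br : A →ₗ[ZMod p] A →ₗ[ZMod p] L₂) (T : L₂ →ₗ[ZMod p] A →ₗ[ZMod p] L₃)
    (Ψ : L₃ →ₗ[ZMod p] A →ₗ[ZMod p] ZMod p) (c : L₂ →ₗ[ZMod p] L₂ →ₗ[ZMod p] ZMod p)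
    (halt : ∀ a, br a a = 0) (hcalt : ∀ e, c e e = 0) (hcnd : ∀ e, e ≠ 0 → c e ≠ 0)
    (hP1 : ∀ a, a ≠ 0 → Function.Surjective (br a)) (hP2 : ∀ e, e ≠ 0 → Function.Surjective (T e))
    (hP3 : ∀ f, f ≠ 0 → Ψ f ≠ 0)
    (hJ3 : ∀ a b c', T (br a b) c' + T (br b c') a + T (br c' a) b = 0)
    (hJ4 : ∀ e a b, Ψ (T e a) b - Ψ (T e b) a = c e (br a b))
    (hP4 : ∀ a, a ≠ 0 → Nat.card L₃ * p ≤
      Nat.card (LinearMap.range (T.flip a)) * Nat.card (LinearMap.ker (br a)))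
    (hBeis : Nat.card L₂ ^ 2 ≤ Nat.card A) : False := by
  sorry

/-- (A15) The group form of class four (Bridge: builds `A, L₂, L₃, br, T, Ψ, c`, uses A11, A13, A14).
`γ₂ γ₃ γ₄ γ₅` are the lower central terms of `X`, `K ≤ γ₄` normal in `X` of index `p`, `γ₅ ≤ K`. -/
theorem grp4 {Γ : Type u} [Group Γ] [Finite Γ] {p : ℕ} [Fact p.Prime] {X K : Subgroup Γ}
    (hXp : IsPGroup p X)
    (hKX : ∀ x ∈ X, ∀ k ∈ K, x * k * x⁻¹ ∈ K)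
    (hK4 : K ≤ ⁅⁅⁅X, X⁆, X⁆, X⁆) (hK5 : (⁅⁅⁅⁅X, X⁆, X⁆, X⁆, X⁆ : Subgroup Γ) ≤ K)
    (hKi : K.relIndex ⁅⁅⁅X, X⁆, X⁆, X⁆ = p)
    (hel : ∀ a ∈ X, a ^ p ∈ (⁅X, X⁆ : Subgroup Γ))
    (hcam : ∀ a ∈ X, a ∉ (⁅X, X⁆ : Subgroup Γ) → ∀ e ∈ (⁅X, X⁆ : Subgroup Γ), ∃ b ∈ X,
      (b * a * b⁻¹)⁻¹ * (a * e) ∈ K)
    (hP2 : ∀ e ∈ (⁅X, X⁆ : Subgroup Γ), e ∉ (⁅⁅X, X⁆, X⁆ : Subgroup Γ) →
      ∀ f ∈ (⁅⁅X, X⁆, X⁆ : Subgroup Γ), ∃ a ∈ X, (e * a * e⁻¹ * a⁻¹) * f⁻¹ ∈ (⁅⁅⁅X, X⁆, X⁆, X⁆ : Subgroup Γ))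
    (hP3 : ∀ f ∈ (⁅⁅X, X⁆, X⁆ : Subgroup Γ), f ∉ (⁅⁅⁅X, X⁆, X⁆, X⁆ : Subgroup Γ) →
      ∃ a ∈ X, f * a * f⁻¹ * a⁻¹ ∉ K)
    (hnd : (∀ e ∈ (⁅X, X⁆ : Subgroup Γ), ∀ e' ∈ (⁅X, X⁆ : Subgroup Γ), e * e' * e⁻¹ * e'⁻¹ ∈ K) ∨
      (∀ e ∈ (⁅X, X⁆ : Subgroup Γ), e ∉ (⁅⁅X, X⁆, X⁆ : Subgroup Γ) →
        ∃ e' ∈ (⁅X, X⁆ : Subgroup Γ), e * e' * e⁻¹ * e'⁻¹ ∉ K)) : False := by
  sorry

/-- (A16) Burnside count of the layer. -/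
theorem burnside_layer {W : Type u} [Group W] [Finite W] {E : Subgroup W} {p : ℕ} (hp : p.Prime)
    (hWp : IsPGroup p W) (hEn : E.Normal) (hEab : ∀ a ∈ E, ∀ b ∈ E, a * b = b * a)
    (hE1 : E ≠ ⊤) (hab : ∀ a b : W, a * b * a⁻¹ * b⁻¹ ∈ E)
    (hel : ∀ a : W, a ^ p ∈ E)
    (hcam : ∀ a, a ∉ E → ∀ e ∈ E, ∃ b, b * a * b⁻¹ = a * e)
    (hcomm : ∀ a b : W, a ∉ E → a * b = b * a → ∃ k : ℕ, b * (a ^ k)⁻¹ ∈ E) :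
    E.index = p * Nat.card E ∧ ∀ e ∈ E, ∀ a : W, a * e = e * a := by
  sorry

/-! ## T. Top -/

section Top

variable {G : Type u} [Group G]

/-- (T1) -/
theorem top [Finite G] [Group.IsSolvable G] (hnd : NoDiv G) :
    (∃ m, ∀ d ∈ charDegrees G, d = 1 ∨ d = m) ∨ ∃ H Y : Subgroup G, St H Y := by
  sorry

/-- (T2) -/
theorem two_deg [Finite G] [Group.IsSolvable G] (h : ∃ m, ∀ d ∈ charDegrees G, d = 1 ∨ d = m) :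
    Nat.card (charDegrees G) ≤ 4 ∧ derivedSeries G 3 = ⊥ := by
  sorry

variable {H Y : Subgroup G}

/-- (T3) -/
theorem St.index_mem [Finite G] (s : St H Y) : H.index ∈ charDegrees G := by
  sorry

/-- (T4) -/
theorem St.nl_stable [Fintype G] [Fintype H] (s : St H Y) {ξ : H → ℂ} (hξ : IsIrrCharacter H ξ)
    (hξ1 : ξ 1 ≠ 1) (δ : H →* ℂˣ) (hδ : ∀ z : H, (z : G) ∈ Y → δ z = 1) :
    (fun c => ((δ c : ℂˣ) : ℂ) * ξ c) = ξ := by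
  sorry

/-- (T5) -/
theorem St.nl_moved [Fintype G] [Fintype H] (s : St H Y) {ξ : H → ℂ} (hξ : IsIrrCharacter H ξ)
    (hξ1 : ξ 1 ≠ 1) : ∃ g, g ∉ H ∧ conjOn s.nH g ξ = ξ := by
  sorry

/-- (T6) -/
theorem St.cam [Finite G] (s : St H Y) : ∀ c ∈ H, c ∉ Y → ∀ e ∈ (⁅H, H⁆ : Subgroup G),
    ∃ b ∈ H, b * c * b⁻¹ = c * e := by
  sorry

/-- (T7) -/
theorem St.deg_p [Fintype G] [Fintype H] (s : St H Y) {p : ℕ} (hp : p.Prime) (hpA : p ∣ Y.relIndex H)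
    {ξ : H → ℂ} (hξ : IsIrrCharacter H ξ) (hξ1 : ξ 1 ≠ 1) : p ∣ charDegree ξ := by
  sorry

/-- (T8) -/
theorem St.quot [Finite G] (s : St H Y) {K : Subgroup G} [hK : K.Normal] (hKE : K ≤ ⁅H, H⁆) :
    St (H.map (QuotientGroup.mk' K)) (Y.map (QuotientGroup.mk' K)) := by
  sorry

/-- (T9) -/
theorem St.noE [Finite G] (s : St H Y) (hE : (⁅H, H⁆ : Subgroup G) = ⊥) :
    ∀ d ∈ charDegrees G, d = 1 ∨ d = H.index := by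
  sorry

/-! ## L. Chief factors at the top of `E` -/

/-- (L1) -/
theorem lemma3 [Finite G] [Group.IsSolvable G] (s : St H Y) {M : Subgroup G} (hc : Chief M ⁅H, H⁆)
    {p : ℕ} (hp : p.Prime) (hpe : ∀ e ∈ (⁅H, H⁆ : Subgroup G), e ^ p ∈ M) (hpA : p ∣ Y.relIndex H) :
    (∀ h ∈ H, ∀ e ∈ (⁅H, H⁆ : Subgroup G), h * e * h⁻¹ * e⁻¹ ∈ M) ∧ (∀ c ∈ H, c ^ p ∈ Y) ∧
    (∀ d ∈ commutator G, ∀ y ∈ Y, d * y * d⁻¹ * y⁻¹ ∈ M) ∧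
    (∀ c ∈ H, ∃ c' ∈ H, ∀ k : ℕ, c' * (c ^ k)⁻¹ ∉ Y) := by
  sorry

/-- (L2) -/
theorem top_factors [Finite G] [Group.IsSolvable G] (s : St H Y) {p : ℕ} (hp : p.Prime)
    (hel : ∀ c ∈ H, c ^ p ∈ Y) (hnc : ∀ c ∈ H, ∃ c' ∈ H, ∀ k : ℕ, c' * (c ^ k)⁻¹ ∉ Y)
    {M : Subgroup G} (hc : Chief M ⁅H, H⁆) {r : ℕ} (hr : r.Prime)
    (hre : ∀ e ∈ (⁅H, H⁆ : Subgroup G), e ^ r ∈ M) : r = p := by
  sorry

/-- (L3) -/
theorem exists_p_complement [Fintype G] [Group.IsSolvable G] (s : St H Y) {p : ℕ} (hp : p.Prime)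
    (hpA : p ∣ Y.relIndex H) (hpE : p ∣ Nat.card (⁅H, H⁆ : Subgroup G)) :
    ∃ N₀ : Subgroup G, N₀.Normal ∧ N₀ ≤ ⁅H, H⁆ ∧ N₀ ≠ ⁅H, H⁆ ∧ ¬ p ∣ Nat.card N₀ ∧
      ∀ e ∈ (⁅H, H⁆ : Subgroup G), ∃ k : ℕ, e ^ (p ^ k) ∈ N₀ := by
  sorry

/-! ## Blocks -/

/-- (II) The case `π(E) ∩ π(A) = ∅`. -/
theorem caseII [Finite G] [Group.IsSolvable G] (s : St H Y) (hE1 : (⁅H, H⁆ : Subgroup G) ≠ ⊥)
    (hII : ∀ p : ℕ, p.Prime → p ∣ Y.relIndex H → ¬ p ∣ Nat.card (⁅H, H⁆ : Subgroup G)) :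
    Nat.card (charDegrees G) ≤ 4 ∧ (⁅(⁅H, H⁆ : Subgroup G), (⁅H, H⁆ : Subgroup G)⁆ : Subgroup G) = ⊥ := by
  sorry

/-- (I) `E` a `p`-group. -/
theorem caseI_pgroup [Finite G] [Group.IsSolvable G] (s : St H Y) {p : ℕ} (hp : p.Prime)
    (hpA : p ∣ Y.relIndex H) (hEp : IsPGroup p (⁅H, H⁆ : Subgroup G)) (hE1 : (⁅H, H⁆ : Subgroup G) ≠ ⊥) :
    Nat.card (charDegrees G) ≤ 4 ∧ (⁅(⁅H, H⁆ : Subgroup G), (⁅H, H⁆ : Subgroup G)⁆ : Subgroup G) = ⊥ ∧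
    ∀ a ∈ commutator G, a ∉ (⁅H, H⁆ : Subgroup G) → ∀ e ∈ (⁅H, H⁆ : Subgroup G),
      ∃ b ∈ commutator G, b * a * b⁻¹ = a * e := by
  sorry

/-- (D) No prime-to-`p` layer in `E`. -/
theorem no_layer0 [Finite G] [Group.IsSolvable G] (s : St H Y) {p : ℕ} (hp : p.Prime)
    (hel : ∀ c ∈ H, c ^ p ∈ Y) (hnc : ∀ c ∈ H, ∃ c' ∈ H, ∀ k : ℕ, c' * (c ^ k)⁻¹ ∉ Y)
    {N : Subgroup G} (hN : Chief ⊥ N) (hNE : N ≤ ⁅H, H⁆) {r : ℕ} (hr : r.Prime) (hrp : r ≠ p)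
    (hNr : ∀ n ∈ N, n ^ r = 1) (hEN : ∀ e ∈ (⁅H, H⁆ : Subgroup G), ∃ k : ℕ, e ^ (p ^ k) ∈ N)
    (hE1 : N ≠ ⁅H, H⁆) (hEab : (⁅(⁅H, H⁆ : Subgroup G), (⁅H, H⁆ : Subgroup G)⁆ : Subgroup G) ≤ N)
    (hcamW : ∀ a ∈ commutator G, a ∉ (⁅H, H⁆ : Subgroup G) → ∀ e ∈ (⁅H, H⁆ : Subgroup G),
      ∃ b ∈ commutator G, (b * a * b⁻¹)⁻¹ * (a * e) ∈ N) : False := by
  sorry

end Top

/-- (P) The level analysis. -/
theorem PS_main {Γ : Type u} [Group Γ] [Finite Γ] {p : ℕ} (h : PS Γ p) :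
    g4 Γ = ⊥ ∧ Nat.card (charDegrees Γ) ≤ 4 ∧
    (g2 Γ ≠ g3 Γ → ∃ g : Γ, (¬ ∀ a ∈ commutator Γ, g * a * g⁻¹ * a⁻¹ ∈ g2 Γ) ∧
      ∀ e ∈ g2 Γ, g * e * g⁻¹ * e⁻¹ ∈ g3 Γ) ∧
    (g3 Γ ≠ g4 Γ → ∃ g : Γ, (¬ ∀ a ∈ commutator Γ, g * a * g⁻¹ * a⁻¹ ∈ g2 Γ) ∧
      ∀ f ∈ g3 Γ, g * f * g⁻¹ * f⁻¹ ∈ g4 Γ) := by
  sorry

/-- The theorem. -/
theorem main {G : Type u} [Group G] [Finite G] [Group.IsSolvable G] (hnd : NoDiv G) :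
    Nat.card (charDegrees G) ≤ 4 ∧ derivedSeries G 3 = ⊥ := by
  sorry

end Cfsg.Agent.Lib.NDF.Spec
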