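import Cfsg.Agent.Lib.NDF.DDefs
import Cfsg.Agent.Lib.NoDiv.Main

/-!
# S4780, block D: the statements of the modules (all `sorry`; do not import; copy the statement you
prove into `Lib/NDF/<Name>.lean`, namespace `Cfsg.Agent.Lib.NDF.<Name>`).
-/

set_option autoImplicit false
set_option linter.unusedSectionVars false

namespace Cfsg.Agent.Lib.NDF.SpecD

open Cfsg Cfsg.Agent.Lib.NoDiv.Defs Cfsg.Agent.Lib.NDF.Defs Cfsg.Agent.Lib.NDF.DDefs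

universe u

variable {G : Type u} [Group G] {H Y : Subgroup G} {p : ℕ}

/-- (D1) Post 7, (a)-(d): Schur-Zassenhaus, `cyclic_fpf` (A1), `burnside_layer` (A16), `beisiegel_grp` (A12). -/
theorem exists_layer [Finite G] [Group.IsSolvable G] (s : St H Y) (hp : p.Prime)
    (hel : ∀ c ∈ H, c ^ p ∈ Y) (hnc : ∀ c ∈ H, ∃ c' ∈ H, ∀ k : ℕ, c' * (c ^ k)⁻¹ ∉ Y)
    {N : Subgroup G} (hN : Chief ⊥ N) (hNE : N ≤ ⁅H, H⁆) {r : ℕ} (hr : r.Prime) (hrp : r ≠ p)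
    (hNr : ∀ n ∈ N, n ^ r = 1) (hEN : ∀ e ∈ (⁅H, H⁆ : Subgroup G), ∃ k : ℕ, e ^ (p ^ k) ∈ N)
    (hE1 : N ≠ ⁅H, H⁆) (hEab : (⁅(⁅H, H⁆ : Subgroup G), (⁅H, H⁆ : Subgroup G)⁆ : Subgroup G) ≤ N)
    (hcamW : ∀ a ∈ commutator G, a ∉ (⁅H, H⁆ : Subgroup G) → ∀ e ∈ (⁅H, H⁆ : Subgroup G),
      ∃ b ∈ commutator G, (b * a * b⁻¹)⁻¹ * (a * e) ∈ N) :
    ∃ W₁ L : Subgroup G, DL H p N W₁ L := by
  sorry

/-- (D2) Post 7, (e): `p` odd is impossible: `x ↦ x ^ p` is a homomorphism of `W₁` to `L`, there is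
`a ∉ L` with `a ^ p = 1`; `cyclic_fpf`. -/
theorem layer_odd [Finite G] (s : St H Y) (hp : p.Prime) (hodd : p ≠ 2)
    (hel : ∀ c ∈ H, c ^ p ∈ Y) (hnc : ∀ c ∈ H, ∃ c' ∈ H, ∀ k : ℕ, c' * (c ^ k)⁻¹ ∉ Y)
    {N W₁ L : Subgroup G} (hN : Chief ⊥ N) (hNab : ∀ a ∈ N, ∀ b ∈ N, a * b = b * a)
    (D : DL H p N W₁ L) : False := by
  sorry

/-- (D3) Post 7, (f): `p = 2` is impossible. `r` is odd here (`r ≠ p`). -/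
theorem layer_two [Finite G] [Group.IsSolvable G] (s : St H Y)
    (hel : ∀ c ∈ H, c ^ 2 ∈ Y) (hnc : ∀ c ∈ H, ∃ c' ∈ H, ∀ k : ℕ, c' * (c ^ k)⁻¹ ∉ Y)
    {N W₁ L : Subgroup G} (hN : Chief ⊥ N) (hNE : N ≤ ⁅H, H⁆) {r : ℕ} (hr : r.Prime) (hrp : r ≠ 2)
    (hNr : ∀ n ∈ N, n ^ r = 1) (hEN : ∀ e ∈ (⁅H, H⁆ : Subgroup G), ∃ k : ℕ, e ^ (2 ^ k) ∈ N)
    (D : DL H 2 N W₁ L) : False := by
  sorry

end Cfsg.Agent.Lib.NDF.SpecD
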