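import Cfsg.Agent.Lib.NDF.IDefs
import Cfsg.Agent.Lib.NoDiv.Main

/-!
# S4780, block I: the statements of the modules (all `sorry`; do not import; copy the statement you
prove into `Lib/NDF/<Name>.lean`, namespace `Cfsg.Agent.Lib.NDF.<Name>`).
-/

set_option autoImplicit false
set_option linter.unusedSectionVars false

namespace Cfsg.Agent.Lib.NDF.SpecI

open Cfsg Cfsg.Agent.Lib.NoDiv.Defs Cfsg.Agent.Lib.NDF.Defs Cfsg.Agent.Lib.NDF.IDefs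
open Cfsg.Agent.Lib.Char.Basic Cfsg.Agent.Lib.Char.Conj Cfsg.Agent.Lib.Char.CliffordCorr
open Cfsg.Agent.Lib.Char.Linear Cfsg.Agent.Lib.Char.Degree Cfsg.Agent.Lib.Char.Ortho
open Cfsg.Agent.Lib.Char.Induced Cfsg.Agent.Lib.Char.Complete

universe u

variable {G : Type u} [Group G] {H Y P Q C₁ : Subgroup G} {p : ℕ}

/-- (IA) The structure. Proof: post 5 (forum topic `s4780`), I1. Uses L1 (`lemma3`), T5, T6. -/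
theorem exists_I1 [Finite G] [Group.IsSolvable G] (s : St H Y) (hp : p.Prime)
    (hpA : p ∣ Y.relIndex H) (hEp : IsPGroup p (⁅H, H⁆ : Subgroup G))
    (hE1 : (⁅H, H⁆ : Subgroup G) ≠ ⊥) : ∃ P Q C₁ : Subgroup G, I1D H p P Q C₁ := by
  sorry

/-- (IB) A nontrivial normal `T ≤ E` central in `H` has a fixed point of some `g ∉ H`.
Proof: `λ ≠ 1` on `T`, `ξ ∈ Irr(H)` over `λ`; nonlinear since `T ≤ H'`. T5: `g ∉ H` fixes `ξ`, so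
`λ`. If `g` is fpf on `T`, `t ↦ [g, t]` is onto `T` so `λ = 1`. -/
theorem fix_central [Finite G] (s : St H Y) {T : Subgroup G} (hTn : T.Normal)
    (hTE : T ≤ ⁅H, H⁆) (hT1 : T ≠ ⊥) (hTH : ∀ t ∈ T, ∀ h ∈ H, h * t = t * h) :
    ∃ g, g ∉ H ∧ ∃ t ∈ T, t ≠ 1 ∧ g * t = t * g := by
  sorry

/-- (IC) The central product lemma. `e ∈ W ∩ F` is central in `X`. `ξ` over `η`: `η` is `X`-invariant
(`W` centralises `F`), so `ξ|F = s η`. `u = w f ∉ F`, `e ∈ W ∩ F` with `η(e) ≠ η(1)`, `b w b⁻¹ = w e`: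
`ξ(u) = ξ(b u b⁻¹) = ξ(u e) = μ(e) ξ(u)` so `ξ(u) = 0`. So `⟨ξ, ξ⟩ = 1` gives `s² = |X : F|`, and `ξ` is
determined by `s` and `η`. -/
theorem cp_over {X : Type u} [Group X] [Fintype X] {W F : Subgroup X} [Fintype F] (hF : F.Normal)
    (hWF : ∀ w ∈ W, ∀ f ∈ F, w * f = f * w) (hX : ∀ u : X, ∃ w ∈ W, ∃ f ∈ F, u = w * f)
    (hcam : ∀ a ∈ W, a ∉ F → ∀ e ∈ W, e ∈ F → ∃ b ∈ W, b * a * b⁻¹ = a * e)
    {η : F → ℂ} (hη : IsIrrCharacter F η) (hμ : ∃ e : F, (e : X) ∈ W ∧ η e ≠ η 1) :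
    ∃ s : ℕ, s ^ 2 = F.index ∧ ∃ ξ : X → ℂ, IsIrrCharacter X ξ ∧ (∀ f : F, ξ f = s * η f) ∧
      (∀ u, u ∉ F → ξ u = 0) ∧
      ∀ ξ' : X → ℂ, IsIrrCharacter X ξ' → classInner (fun f : F => ξ' f) η ≠ 0 → ξ' = ξ := by
  sorry

/-- (ID) Degrees over `F = E C₁` when `E` is central in `W`.  `cp_over` in `P` (`W ∩ F = E` by `WCE`,
`|P : F| = |W : E| > 1`) and `deg_over` (A9) for `N = P`; `g` fixes `ξ` iff `g` fixes `η`. -/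
theorem deg_over_eta [Fintype G] (s : St H Y) (hp : p.Prime) (I : I1D H p P Q C₁)
    (hEW : ∀ e ∈ (⁅H, H⁆ : Subgroup G), ∀ d ∈ commutator G, e * d = d * e)
    {F : Subgroup G} [Fintype F] (hFn : F.Normal) (hF : F = ⁅H, H⁆ ⊔ C₁) :
    ∃ s₀ : ℕ, 1 < s₀ ∧ (∃ k, s₀ = p ^ k) ∧
      ∀ η : F → ℂ, IsIrrCharacter F η → (∃ e : F, (e : G) ∈ (⁅H, H⁆ : Subgroup G) ∧ η e ≠ η 1) →
        ∀ χ : G → ℂ, IsIrrCharacter G χ → classInner (fun f : F => χ f) η ≠ 0 →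
          charDegree χ = (inertia hFn η).index * (s₀ * charDegree η) := by
  sorry

/-- (IE) The type dichotomy (I3 of post 5; `E` abelian here, `E = C × D` under `Q`). -/
theorem dichotomy [Finite G] [Group.IsSolvable G] (s : St H Y) (hp : p.Prime)
    (hpA : p ∣ Y.relIndex H) (hEp : IsPGroup p (⁅H, H⁆ : Subgroup G))
    (hE1 : (⁅H, H⁆ : Subgroup G) ≠ ⊥)
    (hEW : ∀ e ∈ (⁅H, H⁆ : Subgroup G), ∀ d ∈ commutator G, e * d = d * e) :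
    (∀ g : G, ∀ e ∈ (⁅H, H⁆ : Subgroup G), g * e * g⁻¹ * e⁻¹ = 1) ∨
    (∀ e ∈ (⁅H, H⁆ : Subgroup G), (∀ g : G, g * e * g⁻¹ * e⁻¹ = 1) → e = 1) := by
  sorry

/-- (IF) Type (i): `G` trivial on `E / γ₃` gives `γ₃ = 1`. Proof: if not, `γ₄ < γ₃` (`W` a `p`-group);
`fix_central` in `G / γ₄` for `T = γ₃ / γ₄` (`H = P Q₃` centralises it) gives `g ∉ H` and `t ∈ γ₃ ∖ γ₄`,
`[g, t] ∈ γ₄`; contradiction with `g_lemma` (A10) for `F = E`. -/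
theorem gamma3_bot [Finite G] [Group.IsSolvable G] (s : St H Y) (hp : p.Prime)
    (hpA : p ∣ Y.relIndex H) (hEp : IsPGroup p (⁅H, H⁆ : Subgroup G))
    (hE1 : (⁅H, H⁆ : Subgroup G) ≠ ⊥)
    (ht : ∀ g : G, ∀ e ∈ (⁅H, H⁆ : Subgroup G), g * e * g⁻¹ * e⁻¹ ∈ g3 G) : g3 G = ⊥ := by
  sorry

/-- (IG) `E` central in `G`: `χ ∈ Irr(G)`, `η ∈ Irr(F)` under it. `η` nontrivial on `E`: `G` fixes `η`
(`F = E C₁` is fixed pointwise by `Q`, `W`), so `χ(1) = s₀ η(1)` is a `p`-power (`deg_over_eta`);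
NoDiv: at most one such value `> 1`. `η` trivial on `E`: `χ ∈ Irr(G / E)`, `St.noE` on `St.quot`:
`χ(1) ∈ {1, m}`. -/
theorem central_case [Finite G] [Group.IsSolvable G] (s : St H Y) (hp : p.Prime)
    (hpA : p ∣ Y.relIndex H) (hEp : IsPGroup p (⁅H, H⁆ : Subgroup G))
    (hE1 : (⁅H, H⁆ : Subgroup G) ≠ ⊥)
    (hc : ∀ g : G, ∀ e ∈ (⁅H, H⁆ : Subgroup G), g * e * g⁻¹ * e⁻¹ = 1) :
    Nat.card (charDegrees G) ≤ 4 := by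
  sorry

/-- (IH) `G / C₁` is in the level-analysis setting (I5 of post 5). -/
theorem PS_of_I1 [Finite G] (s : St H Y) (hp : p.Prime) (I : I1D H p P Q C₁) [C₁.Normal]
    (hcp : ∀ c ∈ H, c ^ p ∈ Y) : PS (G ⧸ C₁) p := by
  sorry

/-- (II) Type (ii): `Δ = W ∩ C₁` is central in `G`. `Δ ≤ E` (`WCE`), so `Δ ≤ γ₃` (`ht`). `E ≠ γ₃`
(`W` a `p`-group) so `g2 Γ ≠ g3 Γ`, `h2` gives `g₀ ∉ H` trivial on `E / γ₃` (Dedekind), A10 (`F = E`): fpf on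
`γ₃ / γ₄`: `Δ ≤ γ₄`. If `γ₃ = γ₄`, `γ₃ = 1`. Otherwise `h3` gives `g₁ ∉ H` trivial on `γ₃ / γ₄`, A10
(`F = γ₃`): fpf on `γ₄ / γ₅`. But `h4`: `γ₄ ≤ Δ` central so `γ₅ = 1` and `g₁` fixes `γ₄`: `γ₄ = 1`. -/
theorem delta_trivial [Finite G] (s : St H Y) (hp : p.Prime) (hEp : IsPGroup p (⁅H, H⁆ : Subgroup G))
    (hE1 : (⁅H, H⁆ : Subgroup G) ≠ ⊥) (I : I1D H p P Q C₁) [C₁.Normal]
    (ht : ∀ e ∈ (⁅H, H⁆ : Subgroup G), (∀ g : G, g * e * g⁻¹ * e⁻¹ ∈ g3 G) → e ∈ g3 G)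
    (h4 : g4 (G ⧸ C₁) = ⊥)
    (h2 : g2 (G ⧸ C₁) ≠ g3 (G ⧸ C₁) → ∃ g : G ⧸ C₁,
      (¬ ∀ a ∈ commutator (G ⧸ C₁), g * a * g⁻¹ * a⁻¹ ∈ g2 (G ⧸ C₁)) ∧
      ∀ e ∈ g2 (G ⧸ C₁), g * e * g⁻¹ * e⁻¹ ∈ g3 (G ⧸ C₁))
    (h3 : g3 (G ⧸ C₁) ≠ g4 (G ⧸ C₁) → ∃ g : G ⧸ C₁,
      (¬ ∀ a ∈ commutator (G ⧸ C₁), g * a * g⁻¹ * a⁻¹ ∈ g2 (G ⧸ C₁)) ∧
      ∀ f ∈ g3 (G ⧸ C₁), g * f * g⁻¹ * f⁻¹ ∈ g4 (G ⧸ C₁)) :
    commutator G ⊓ C₁ = ⊥ ∧ g4 G = ⊥ := by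
  sorry

/-- (IJ) A central subgroup with a complement does not add degrees (`χ|B` is irreducible as `χ` is
scalar on `Z`, and `B ≅ G / Z`). -/
theorem charDegrees_subset_of_central {Z B : Subgroup G} [Finite G] [hZn : Z.Normal]
    (hZ : ∀ z ∈ Z, ∀ g : G, g * z = z * g) (hBZ : B ⊓ Z = ⊥) (hdec : ∀ g : G, ∃ b ∈ B, ∃ z ∈ Z, g = b * z) :
    charDegrees G ⊆ charDegrees (G ⧸ Z) := by
  sorry

/-- (IK) `Δ = 1`: `C₁` is central, with complement `W Q`. -/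
theorem central_compl [Finite G] (I : I1D H p P Q C₁) [C₁.Normal] (hΔ : commutator G ⊓ C₁ = ⊥) :
    charDegrees G ⊆ charDegrees (G ⧸ C₁) := by
  sorry

end Cfsg.Agent.Lib.NDF.SpecI
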