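import Cfsg.Agent.Lib.NDF.PSDefs
import Cfsg.Agent.Lib.NDF.DegOver
import Cfsg.Agent.Lib.NDF.GLemma
import Cfsg.Agent.Lib.NDF.UniqueFixed
import Cfsg.Agent.Lib.NDF.UniqueOver
import Cfsg.Agent.Lib.NDF.UniformFix
import Cfsg.Agent.Lib.NDF.Grp4
import Cfsg.Agent.Lib.NoDiv.Main

/-! # S4780, block P: statements (all `sorry`; do not import; copy into `Lib/NDF/PS<Name>.lean`) -/

set_option autoImplicit false
set_option linter.unusedSectionVars false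

namespace Cfsg.Agent.Lib.NDF.SpecP

open Cfsg Cfsg.Agent.Lib.NoDiv.Defs Cfsg.Agent.Lib.NDF.Defs Cfsg.Agent.Lib.NDF.PSDefs
open Cfsg.Agent.Lib.Char.Basic Cfsg.Agent.Lib.Char.Conj Cfsg.Agent.Lib.Char.CliffordCorr
open Cfsg.Agent.Lib.Char.Linear Cfsg.Agent.Lib.Char.Degree Cfsg.Agent.Lib.Char.Ortho
open Cfsg.Agent.Lib.Char.Induced Cfsg.Agent.Lib.Char.Complete Cfsg.Agent.Lib.NoDiv.XLemma

universe u

variable {Γ : Type u} [Group Γ] {p : ℕ}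

/-- (P1) `PS` passes to quotients by `K ≤ γ₂`. -/
theorem PS.quot [Finite Γ] (h : PS Γ p) {K : Subgroup Γ} [K.Normal] (hK : K ≤ g2 Γ) :
    PS (Γ ⧸ K) p := by
  sorry

/-- (P2) the complement. -/
theorem exists_cpl [Finite Γ] (h : PS Γ p) : ∃ Q : Subgroup Γ, Cpl Q p := by
  sorry

/-- (P3) prime power parts of a fixer. -/
theorem prime_part [Finite Γ] {Q : Subgroup Γ} (hQ : Cpl Q p) {T : Subgroup Γ}
    (hXT : commutator Γ ≤ T) {θ : commutator Γ → ℂ} (hθ : IsClassFunction (commutator Γ) θ) {y : Γ}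
    (hy : y ∉ T) (hfix : conjOn (inferInstance : (commutator Γ).Normal) y θ = θ) :
    ∃ z ∈ Q, z ∉ T ∧ conjOn (inferInstance : (commutator Γ).Normal) z θ = θ ∧
      ∃ q k : ℕ, q.Prime ∧ q ≠ p ∧ z ^ (q ^ k) = 1 := by
  sorry

section Fin

variable [Fintype Γ] [Fintype (commutator Γ)]

/-- (P4) degrees over a character of `X`. -/
theorem deg_of_over (h : PS Γ p) {θ : commutator Γ → ℂ} (hθ : IsIrrCharacter (commutator Γ) θ)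
    {χ : Γ → ℂ} (hχ : IsIrrCharacter Γ χ) (hcon : classInner (fun n : commutator Γ => χ n) θ ≠ 0) :
    charDegree χ = (inertia (inferInstance : (commutator Γ).Normal) θ).index * charDegree θ := by
  sorry

/-- (P5) the index of `H0` is a nontrivial degree, and a nontrivial linear character of `X` has
inertia group `H0`. -/
theorem H0_index (h : PS Γ p) (hX1 : commutator Γ ≠ ⊥) :
    (H0 Γ).index ∈ charDegrees Γ ∧ 1 < (H0 Γ).index ∧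
    ∀ δ : commutator Γ →* ℂˣ, δ ≠ 1 →
      inertia (inferInstance : (commutator Γ).Normal) (fun x => ((δ x : ℂˣ) : ℂ)) = H0 Γ := by
  sorry

/-- (P6) a nonlinear character of `X` is fixed by some element outside `H0`. -/
theorem exists_fixer (h : PS Γ p) {θ : commutator Γ → ℂ} (hθ : IsIrrCharacter (commutator Γ) θ)
    (hθ1 : θ 1 ≠ 1) : ∃ y, y ∉ H0 Γ ∧ conjOn (inferInstance : (commutator Γ).Normal) y θ = θ := by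
  sorry

/-- (P7) Uniqueness from fixers (the `Q` abelian trick on top of A7). -/
theorem uq_of_fixers (h : PS Γ p) {Q : Subgroup Γ} (hQ : Cpl Q p) {N : Subgroup Γ}
    (hNn : N.Normal) (hNX : N ≤ commutator Γ) (hNc : ∀ n ∈ N, ∀ x ∈ commutator Γ, x * n = n * x)
    (hfix : ∀ μ : N →* ℂˣ, μ ≠ 1 → ∀ θ : commutator Γ → ℂ, IsIrrCharacter (commutator Γ) θ →
      Over hNX θ μ → ∃ y ∈ Q, conjOn (inferInstance : (commutator Γ).Normal) y θ = θ ∧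
        (∀ x ∈ commutator Γ, y * x = x * y → x ∈ N) ∧
        ∃ q k : ℕ, q.Prime ∧ q ≠ p ∧ y ^ (q ^ k) = 1) :
    Uq hNX := by
  sorry

/-- (P8) The consequences of uniqueness at a level: dichotomy, constant degree, export. -/
theorem level (h : PS Γ p) {N : Subgroup Γ} (hNn : N.Normal) (hNg : N ≤ g2 Γ)
    (hNc : ∀ n ∈ N, ∀ x ∈ commutator Γ, x * n = n * x)
    (hU : Uq (hNg.trans g2_le)) :
    (∀ x : Γ, (∀ n ∈ N, x * n * x⁻¹ * n⁻¹ = 1) ∨ (∀ n ∈ N, x * n * x⁻¹ * n⁻¹ = 1 → n = 1)) ∧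
    (∃ D : ℕ, (N ≠ ⊥ → D ^ 2 = (N.subgroupOf (commutator Γ)).index) ∧
      (N ≠ ⊥ → ((Cen N ⊥).index * D) ∈ charDegrees Γ) ∧
      ∀ χ : Γ → ℂ, IsIrrCharacter Γ χ → (∃ n ∈ N, χ n ≠ χ 1) →
        charDegree χ = (Cen N ⊥).index * D) ∧
    (N ≠ ⊥ → ∃ y, y ∉ H0 Γ ∧ ∀ n ∈ N, y * n * y⁻¹ * n⁻¹ = 1) := by
  sorry

/-- (P9) Level 2. -/
theorem lv2 (h : PS Γ p) (h3 : g3 Γ = ⊥) : Uq (g2_le : g2 Γ ≤ commutator Γ) := by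
  sorry

end Fin

/-- (P10) Level 2 in general. -/
theorem lv2_gen [Finite Γ] (h : PS Γ p) :
    (∀ x : Γ, x ∈ Cen (g2 Γ) (g3 Γ) ∨ (∀ e ∈ g2 Γ, x * e * x⁻¹ * e⁻¹ ∈ g3 Γ → e ∈ g3 Γ)) ∧
    (∃ D : ℕ, (g2 Γ ≠ g3 Γ → D ^ 2 = (g2 Γ).relIndex (commutator Γ)) ∧
      (g2 Γ ≠ g3 Γ → ((Cen (g2 Γ) (g3 Γ)).index * D) ∈ charDegrees Γ) ∧
      ∀ χ : Γ → ℂ, IsIrrCharacter Γ χ → (∀ f ∈ g3 Γ, χ f = χ 1) → (∃ e ∈ g2 Γ, χ e ≠ χ 1) →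
        charDegree χ = (Cen (g2 Γ) (g3 Γ)).index * D) ∧
    (g2 Γ ≠ g3 Γ → ∃ y, y ∉ H0 Γ ∧ y ∈ Cen (g2 Γ) (g3 Γ)) := by
  sorry

/-- (P11) `H0 ≤ Cen γ₂ γ₃` (three subgroups). -/
theorem H0_le_T2 [Finite Γ] : H0 Γ ≤ Cen (g2 Γ) (g3 Γ) := by
  sorry

/-- (P12) Level 3. -/
theorem lv3 [Fintype Γ] [Fintype (commutator Γ)] (h : PS Γ p) (h4 : g4 Γ = ⊥) :
    Uq ((g3_le.trans g2_le) : g3 Γ ≤ commutator Γ) := by
  sorry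

/-- (P13) `[e, X] = γ₃` from `Uq` at `γ₃`. -/
theorem p2_of_uq [Fintype Γ] [Fintype (commutator Γ)] (h : PS Γ p) (h4 : g4 Γ = ⊥)
    (hU : Uq ((g3_le.trans g2_le) : g3 Γ ≤ commutator Γ)) :
    ∀ e ∈ g2 Γ, e ∉ g3 Γ → ∀ f ∈ g3 Γ, ∃ a ∈ commutator Γ, e * a * e⁻¹ * a⁻¹ = f := by
  sorry

/-- (P14) Level 3 in general. -/
theorem lv3_gen [Finite Γ] (h : PS Γ p) :
    (∀ x : Γ, x ∈ Cen (g3 Γ) (g4 Γ) ∨ (∀ e ∈ g3 Γ, x * e * x⁻¹ * e⁻¹ ∈ g4 Γ → e ∈ g4 Γ)) ∧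
    (∃ D : ℕ, (g3 Γ ≠ g4 Γ → ((Cen (g3 Γ) (g4 Γ)).index * D) ∈ charDegrees Γ) ∧
      ∀ χ : Γ → ℂ, IsIrrCharacter Γ χ → (∀ f ∈ g4 Γ, χ f = χ 1) → (∃ e ∈ g3 Γ, χ e ≠ χ 1) →
        charDegree χ = (Cen (g3 Γ) (g4 Γ)).index * D) ∧
    (g3 Γ ≠ g4 Γ → ∃ y, y ∉ H0 Γ ∧ y ∈ Cen (g3 Γ) (g4 Γ)) ∧
    (∀ e ∈ g2 Γ, e ∉ g3 Γ → ∀ f ∈ g3 Γ, ∃ a ∈ commutator Γ, (e * a * e⁻¹ * a⁻¹) * f⁻¹ ∈ g4 Γ) := by
  sorry

/-- (P15) Vanishing off `γ₂` and the degree bound used at level 4. -/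
theorem deg_gt_of_camina [Fintype Γ] [Fintype (commutator Γ)] (h : PS Γ p)
    {θ : commutator Γ → ℂ} (hθ : IsIrrCharacter (commutator Γ) θ)
    (hnt : ∃ f : commutator Γ, (f : Γ) ∈ g3 Γ ∧ θ f ≠ θ 1) :
    (g2 Γ).relIndex (commutator Γ) < charDegree θ ^ 2 := by
  sorry

/-- (P16) Level 4: uniqueness at `γ₄`. -/
theorem lv4_uq [Fintype Γ] [Fintype (commutator Γ)] (h : PS Γ p) (h5 : g5 Γ = ⊥) :
    Uq ((g4_le.trans (g3_le.trans g2_le)) : g4 Γ ≤ commutator Γ) := by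
  sorry

/-- (P17) Level 4: contradiction (uses grp4). -/
theorem lv4 [Fintype Γ] [Fintype (commutator Γ)] (h : PS Γ p) (h5 : g5 Γ = ⊥)
    (hU : Uq ((g4_le.trans (g3_le.trans g2_le)) : g4 Γ ≤ commutator Γ)) : g4 Γ = ⊥ := by
  sorry

/-- (P18) The count of degrees. -/
theorem card_cd [Finite Γ] (h : PS Γ p) (h4 : g4 Γ = ⊥) : Nat.card (charDegrees Γ) ≤ 4 := by
  sorry

/-- Assembly. -/
theorem PS_main [Finite Γ] (h : PS Γ p) :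
    g4 Γ = ⊥ ∧ Nat.card (charDegrees Γ) ≤ 4 ∧
    (g2 Γ ≠ g3 Γ → ∃ g : Γ, (¬ ∀ a ∈ commutator Γ, g * a * g⁻¹ * a⁻¹ ∈ g2 Γ) ∧
      ∀ e ∈ g2 Γ, g * e * g⁻¹ * e⁻¹ ∈ g3 Γ) ∧
    (g3 Γ ≠ g4 Γ → ∃ g : Γ, (¬ ∀ a ∈ commutator Γ, g * a * g⁻¹ * a⁻¹ ∈ g2 Γ) ∧
      ∀ f ∈ g3 Γ, g * f * g⁻¹ * f⁻¹ ∈ g4 Γ) := by
  sorry

end Cfsg.Agent.Lib.NDF.SpecP
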