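import Cfsg.Agent.Lib.NDF.ChiefE
import Cfsg.Agent.Lib.NDF.CyclicFpf
import Cfsg.Agent.Lib.NDF.StChar
import Mathlib.Tactic

/-!
# S4780 (L2): chief factors at the top of `E` have characteristic `p`, when `A` is non-cyclic elementary
-/

set_option autoImplicit false
set_option linter.unusedSectionVars false
set_option linter.style.haveILetI false

namespace Cfsg.Agent.Lib.NDF.TopFactors

open Cfsg Cfsg.Agent.Lib.NoDiv.Defs Cfsg.Agent.Lib.NDF.Defs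

universe u

variable {G : Type u} [Group G] {H Y : Subgroup G}

/-- (L2), from the Camina property (T6). -/
theorem top_factors_of_cam [Finite G] [Group.IsSolvable G] (s : St H Y)
    (hcam : ∀ c ∈ H, c ∉ Y → ∀ e ∈ (⁅H, H⁆ : Subgroup G), ∃ b ∈ H, b * c * b⁻¹ = c * e)
    {p : ℕ} (hp : p.Prime)
    (hel : ∀ c ∈ H, c ^ p ∈ Y) (hnc : ∀ c ∈ H, ∃ c' ∈ H, ∀ k : ℕ, c' * (c ^ k)⁻¹ ∉ Y)
    {M : Subgroup G} (hc : Chief M ⁅H, H⁆) {r : ℕ} (hr : r.Prime)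
    (hre : ∀ e ∈ (⁅H, H⁆ : Subgroup G), e ^ r ∈ M) : r = p := by
  classical
  by_contra hrp
  haveI hMn : M.Normal := hc.nK
  haveI hHn : H.Normal := s.nH
  haveI hYn : Y.Normal := s.nY
  have hEn : (⁅H, H⁆ : Subgroup G).Normal := hc.nL
  have hME : M ≤ ⁅H, H⁆ := hc.le
  have hEY : (⁅H, H⁆ : Subgroup G) ≤ Y := by
    rw [Subgroup.commutator_le]
    intro a ha b hb
    exact s.HY a ha b hb
  have hMY : M ≤ Y := hME.trans hEY
  have hab := Cfsg.Agent.Lib.NDF.ChiefE.chief_comm hc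
  let π : G →* G ⧸ M := QuotientGroup.mk' M
  have hπ : ∀ g, π g = 1 ↔ g ∈ M := fun g => QuotientGroup.eq_one_iff g
  have hπs : Function.Surjective π := QuotientGroup.mk'_surjective M
  -- images
  let N : Subgroup (G ⧸ M) := (⁅H, H⁆ : Subgroup G).map π
  let U : Subgroup (G ⧸ M) := H.map π
  let J : Subgroup (G ⧸ M) := Y.map π
  have hcommπ : ∀ a ∈ (⁅H, H⁆ : Subgroup G), ∀ b ∈ (⁅H, H⁆ : Subgroup G), π a * π b = π b * π a := by
    intro a ha b hb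
    have h := (hπ _).2 (hab a ha b hb)
    simp only [map_mul, map_inv] at h
    have h2 := mul_inv_eq_one.mp h
    rwa [mul_inv_eq_iff_eq_mul] at h2
  have hJmem : ∀ g, π g ∈ J ↔ g ∈ Y := by
    intro g
    constructor
    · rintro ⟨y, hy, hxy⟩
      have h1 : π (y⁻¹ * g) = 1 := by rw [map_mul, map_inv, hxy, inv_mul_cancel]
      have h2 := hMY ((hπ _).1 h1)
      have : g = y * (y⁻¹ * g) := by group
      rw [this]
      exact Y.mul_mem hy h2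
    · intro hg
      exact ⟨g, hg, rfl⟩
  have hNab : ∀ a ∈ N, ∀ b ∈ N, a * b = b * a := by
    rintro _ ⟨a, ha, rfl⟩ _ ⟨b, hb, rfl⟩
    exact hcommπ a ha b hb
  have hN1 : N ≠ ⊥ := by
    intro h
    apply hc.ne
    apply le_antisymm hME
    intro e he
    have : π e ∈ N := ⟨e, he, rfl⟩
    rw [h, Subgroup.mem_bot] at this
    exact (hπ _).1 this
  have hUN : ∀ u ∈ U, ∀ n ∈ N, u * n * u⁻¹ ∈ N := by
    rintro _ ⟨u, -, rfl⟩ _ ⟨n, hn, rfl⟩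
    exact ⟨u * n * u⁻¹, hEn.conj_mem n hn u, by simp⟩
  have hcomm : ∀ u ∈ U, ∀ v ∈ U, ∀ n ∈ N, u * (v * n * v⁻¹) * u⁻¹ = v * (u * n * u⁻¹) * v⁻¹ := by
    rintro _ ⟨u, hu, rfl⟩ _ ⟨v, hv, rfl⟩ _ ⟨n, hn, rfl⟩
    -- `u⁻¹ v⁻¹ u v ∈ E` commutes with `n`
    have h1 : u⁻¹ * v⁻¹ * u⁻¹⁻¹ * v⁻¹⁻¹ ∈ (⁅H, H⁆ : Subgroup G) :=
      Subgroup.commutator_mem_commutator (H.inv_mem hu) (H.inv_mem hv)
    have h2 := hcommπ _ h1 _ hn
    simp only [map_mul, map_inv, inv_inv] at h2 ⊢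
    -- both sides
    have h3 : π u * π v = π v * π u * ((π u)⁻¹ * (π v)⁻¹ * π u * π v) := by group
    calc π u * (π v * π n * (π v)⁻¹) * (π u)⁻¹ = (π u * π v) * π n * (π u * π v)⁻¹ := by group
      _ = (π v * π u * ((π u)⁻¹ * (π v)⁻¹ * π u * π v)) * π n *
            (π v * π u * ((π u)⁻¹ * (π v)⁻¹ * π u * π v))⁻¹ := by rw [← h3]
      _ = π v * π u * (((π u)⁻¹ * (π v)⁻¹ * π u * π v) * π n) *
            ((π u)⁻¹ * (π v)⁻¹ * π u * π v)⁻¹ * (π v * π u)⁻¹ := by group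
      _ = π v * π u * (π n * ((π u)⁻¹ * (π v)⁻¹ * π u * π v)) *
            ((π u)⁻¹ * (π v)⁻¹ * π u * π v)⁻¹ * (π v * π u)⁻¹ := by rw [h2]
      _ = π v * (π u * π n * (π u)⁻¹) * (π v)⁻¹ := by group
  have hJU : J ≤ U := Subgroup.map_mono s.YH
  have hfpf : ∀ u ∈ U, u ∉ J → ∀ n ∈ N, u * n * u⁻¹ = n → n = 1 := by
    rintro _ ⟨x, hx, rfl⟩ hxJ _ ⟨e, he, rfl⟩ hxe
    have hxY : x ∉ Y := fun h => hxJ ((hJmem x).2 h)
    -- the `r'`-part of `x`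
    have hord : 0 < orderOf x := orderOf_pos x
    obtain ⟨a, s', hs', hos⟩ : ∃ a s', ¬ r ∣ s' ∧ orderOf x = r ^ a * s' := by
      obtain ⟨a, s', hs', h⟩ := Nat.exists_eq_pow_mul_and_not_dvd hord.ne' r hr.ne_one
      exact ⟨a, s', hs', h⟩
    set x₁ := x ^ r ^ a with hx₁
    have hx₁H : x₁ ∈ H := H.pow_mem hx _
    have hcop : Nat.Coprime (r ^ a) p := by
      apply Nat.Coprime.pow_left
      exact (Nat.coprime_primes hr hp).2 hrp
    have hx₁Y : x₁ ∉ Y := by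
      intro h
      apply hxY
      have hxp := hel x hx
      -- Bezout
      have h1 := Nat.Coprime.gcd_eq_one hcop
      have hb := Nat.gcd_eq_gcd_ab (r ^ a) p
      rw [h1] at hb
      have hx1 : x = (x ^ (r ^ a)) ^ (Nat.gcdA (r ^ a) p) * (x ^ p) ^ (Nat.gcdB (r ^ a) p) := by
        rw [← zpow_natCast x (r ^ a), ← zpow_natCast x p, ← zpow_mul, ← zpow_mul, ← zpow_add,
          ← hb]
        simp
      rw [hx1]
      exact Y.mul_mem (Y.zpow_mem h _) (Y.zpow_mem hxp _)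
    -- `x₁` commutes with `e` modulo `M`
    have hce : Commute (π x) (π e) := by
      show π x * π e = π e * π x
      exact (mul_inv_eq_iff_eq_mul.mp hxe)
    have hce₁ : Commute (π x₁) (π e) := by
      rw [hx₁, map_pow]
      exact hce.pow_left _
    -- Camina
    obtain ⟨b, hb, hbc⟩ := hcam x₁ hx₁H hx₁Y e he
    have hos₁ : x₁ ^ s' = 1 := by
      rw [hx₁, ← pow_mul, ← hos, pow_orderOf_eq_one]
    have h1 : (x₁ * e) ^ s' = 1 := by
      rw [← hbc, conj_pow, hos₁]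
      group
    have h2 : π e ^ s' = 1 := by
      have h3 := congrArg π h1
      rw [map_pow, map_mul, hce₁.mul_pow, ← map_pow, hos₁, map_one, one_mul] at h3
      exact h3
    have h4 : π e ^ r = 1 := by
      rw [← map_pow]
      exact (hπ _).2 (hre e he)
    have hcs : Nat.Coprime r s' := (Nat.Prime.coprime_iff_not_dvd hr).2 hs'
    have h5 : orderOf (π e) ∣ Nat.gcd r s' :=
      Nat.dvd_gcd (orderOf_dvd_of_pow_eq_one h4) (orderOf_dvd_of_pow_eq_one h2)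
    rw [hcs.gcd_eq_one, Nat.dvd_one, orderOf_eq_one_iff] at h5
    exact h5
  obtain ⟨c, ⟨c₀, hc₀, rfl⟩, hcu⟩ := Cfsg.Agent.Lib.NDF.CyclicFpf.cyclic_fpf hNab hN1 hUN hcomm hJU hfpf
  obtain ⟨c', hc', hc'k⟩ := hnc c₀ hc₀
  obtain ⟨k, hk⟩ := hcu (π c') ⟨c', hc', rfl⟩
  apply hc'k k
  rw [← hJmem]
  simpa using hk

/-- (L2) -/
theorem top_factors [Finite G] [Group.IsSolvable G] (s : St H Y) {p : ℕ} (hp : p.Prime)
    (hel : ∀ c ∈ H, c ^ p ∈ Y) (hnc : ∀ c ∈ H, ∃ c' ∈ H, ∀ k : ℕ, c' * (c ^ k)⁻¹ ∉ Y)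
    {M : Subgroup G} (hc : Chief M ⁅H, H⁆) {r : ℕ} (hr : r.Prime)
    (hre : ∀ e ∈ (⁅H, H⁆ : Subgroup G), e ^ r ∈ M) : r = p :=
  top_factors_of_cam s (Cfsg.Agent.Lib.NDF.StChar.St.cam s) hp hel hnc hc hr hre

end Cfsg.Agent.Lib.NDF.TopFactors
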